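import Groth.Agent.Lib.Koszul.Basic
import Mathlib.CategoryTheory.Abelian.Projective.Extend
import Mathlib.CategoryTheory.Abelian.Projective.Resolution
import Mathlib.RingTheory.Filtration
import Mathlib.Data.Int.Interval
import Mathlib.Algebra.Category.ModuleCat.Projective
import Mathlib.Algebra.Category.ModuleCat.Subobject
import Mathlib.Algebra.Category.ModuleCat.EpiMono

/-!
# Maps `I ^ n M → M` on resolutions after Koszul complexes
-/

set_option autoImplicit false
set_option backward.isDefEq.respectTransparency false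
universe u

open CategoryTheory CategoryTheory.Limits CochainComplex
open Groth.Agent.Lib.Koszul.Basic Groth.Agent.Lib.Koszul.SmulCone Groth.Agent.Lib.Koszul.Cone

namespace Groth.Agent.H80.TorPowKoszul

variable {A : Type u} [CommRing A]

theorem smulConeMap_comp (x : A) {C C' C'' : CochainComplex (ModuleCat.{u} A) ℤ} (g : C ⟶ C')
    (g' : C' ⟶ C'') : smulConeMap x (g ≫ g') = smulConeMap x g ≫ smulConeMap x g' := by
  simp only [smulConeMap]
  rw [← mappingCone.map_comp]

theorem koszulOnMap_comp {C C' C'' : CochainComplex (ModuleCat.{u} A) ℤ} (g : C ⟶ C') (g' : C' ⟶ C'') :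
    ∀ l : List A, koszulOnMap (g ≫ g') l = koszulOnMap g l ≫ koszulOnMap g' l
  | [] => rfl
  | a :: l => by
    show smulConeMap a (koszulOnMap (g ≫ g') l) = smulConeMap a _ ≫ smulConeMap a _
    rw [koszulOnMap_comp g g' l, smulConeMap_comp]

/-- The inclusion of `C` in its Koszul complex. -/
noncomputable def inc (C : CochainComplex (ModuleCat.{u} A) ℤ) : ∀ l : List A, C ⟶ koszulOn C l
  | [] => 𝟙 C
  | a :: l => inc C l ≫ mappingCone.inr (a • 𝟙 (koszulOn C l))

theorem inc_naturality {C C' : CochainComplex (ModuleCat.{u} A) ℤ} (g : C ⟶ C') :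
    ∀ l : List A, g ≫ inc C' l = inc C l ≫ koszulOnMap g l
  | [] => by show g ≫ 𝟙 C' = 𝟙 C ≫ g; simp
  | a :: l => by
    show g ≫ inc C' l ≫ _ = (inc C l ≫ _) ≫ smulConeMap a _
    rw [← Category.assoc, inc_naturality g l, Category.assoc, Category.assoc]
    simp [smulConeMap, mappingCone.map]

theorem isZero_X (C : CochainComplex (ModuleCat.{u} A) ℤ) (hC : ∀ i, 0 < i → Subsingleton (C.X i)) :
    ∀ (l : List A) (i : ℤ), 0 < i → Subsingleton ((koszulOn C l).X i)
  | [], i, hi => hC i hi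
  | a :: l, i, hi => by
    have := isZero_X C hC l i hi
    have := isZero_X C hC l (i + 1) (by omega)
    exact (cmk_surjective (a • 𝟙 (koszulOn C l)) i (i + 1) rfl).subsingleton

theorem projective_X (C : CochainComplex (ModuleCat.{u} A) ℤ) (hC : ∀ i, Module.Projective A (C.X i)) :
    ∀ (l : List A) (i : ℤ), Module.Projective A ((koszulOn C l).X i)
  | [], i => hC i
  | a :: l, i => by
    have := projective_X C hC l i
    have := projective_X C hC l (i + 1)
    let φ := a • 𝟙 (koszulOn C l)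
    refine Module.Projective.of_equiv (M := (koszulOn C l).X (i + 1) × (koszulOn C l).X i)
      (LinearEquiv.ofBijective (cmk φ i (i + 1) rfl) ⟨fun x y h => Prod.ext ?_ ?_, cmk_surjective φ i (i + 1) rfl⟩)
    · simpa [cfst_cmk] using congrArg (cfst φ i (i + 1) rfl) h
    · simpa [csnd_cmk] using congrArg (csnd φ i) h

theorem finite_X (C : CochainComplex (ModuleCat.{u} A) ℤ) (hC : ∀ i, Module.Finite A (C.X i)) :
    ∀ (l : List A) (i : ℤ), Module.Finite A ((koszulOn C l).X i)
  | [], i => hC i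
  | a :: l, i => by
    have := finite_X C hC l i
    have := finite_X C hC l (i + 1)
    exact Module.Finite.of_surjective (cmk (a • 𝟙 (koszulOn C l)) i (i + 1) rfl) (cmk_surjective _ _ _ _)

theorem range_le {C C' : CochainComplex (ModuleCat.{u} A) ℤ} (g : C ⟶ C') (J : Ideal A)
    (hg : ∀ i, LinearMap.range (g.f i).hom ≤ J • ⊤) :
    ∀ (l : List A) (i : ℤ), LinearMap.range ((koszulOnMap g l).f i).hom ≤ J • ⊤
  | [], i => hg i
  | a :: l, i => by
    have h0 := range_le g J hg l i
    have h1 := range_le g J hg l (i + 1)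
    rintro _ ⟨z, rfl⟩
    obtain ⟨⟨x, y⟩, rfl⟩ := cmk_surjective (a • 𝟙 (koszulOn C l)) i (i + 1) rfl z
    show (smulConeMap a (koszulOnMap g l)).f i _ ∈ _
    rw [smulConeMap, map_cmk, cmk, LinearMap.coprod_apply]
    exact add_mem (Submodule.smul_top_le_comap_smul_top J _ (h1 ⟨x, rfl⟩))
      (Submodule.smul_top_le_comap_smul_top J _ (h0 ⟨y, rfl⟩))

/-- The map of complexes concentrated in degree zero. -/
noncomputable abbrev sglMap {X Y : ModuleCat.{u} A} (g : X ⟶ Y) : sgl X ⟶ sgl Y :=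
  (HomologicalComplex.single (ModuleCat.{u} A) (ComplexShape.up ℤ) 0).map g

theorem range_sglMap {X Y : ModuleCat.{u} A} (g : X ⟶ Y) (J : Ideal A)
    (hg : LinearMap.range g.hom ≤ J • ⊤) (i : ℤ) : LinearMap.range ((sglMap g).f i).hom ≤ J • ⊤ := by
  by_cases hi : i = 0
  · subst hi
    rintro _ ⟨z, rfl⟩
    rw [HomologicalComplex.single_map_f_self, ModuleCat.hom_comp, ModuleCat.hom_comp,
      LinearMap.comp_apply, LinearMap.comp_apply]
    exact Submodule.smul_top_le_comap_smul_top J _ (hg ⟨_, rfl⟩)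
  · intro z _
    have := ModuleCat.isZero_iff_subsingleton.1
      (HomologicalComplex.isZero_single_obj_X (ComplexShape.up ℤ) 0 Y i hi)
    rw [Subsingleton.elim z 0]
    exact zero_mem _

variable (l : List A) {I : Ideal A}

theorem exists_homologyMap_zero [IsNoetherianRing A] (hI : I ≤ Ideal.span {x | x ∈ l})
    (X : ModuleCat.{u} A) [Module.Finite A X] (i : ℤ) :
    ∃ n : ℕ, ∀ m, n ≤ m → ∀ {Y : ModuleCat.{u} A} (g : Y ⟶ X), LinearMap.range g.hom ≤ I ^ m • ⊤ →
      HomologicalComplex.homologyMap (koszulOnMap (sglMap g) l) i = 0 := by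
  have hfin : ∀ j, Module.Finite A ((sgl X).X j) := fun j => by
    by_cases hj : j = 0
    · subst hj
      exact Module.Finite.equiv (HomologicalComplex.singleObjXSelf (ComplexShape.up ℤ) 0 X).symm.toLinearEquiv
    · have := ModuleCat.isZero_iff_subsingleton.1
        (HomologicalComplex.isZero_single_obj_X (ComplexShape.up ℤ) 0 X j hj)
      infer_instance
  let K := koszulOn (sgl X) l
  have : Module.Finite A (K.X i) := finite_X _ hfin l i
  obtain ⟨c, hc⟩ := Ideal.exists_pow_inf_eq_pow_smul I (LinearMap.range (K.iCycles i).hom)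
  refine ⟨c + 1, fun m hm Y g hg => ?_⟩
  rw [← cancel_epi ((koszulOn (sgl Y) l).homologyπ i), comp_zero,
    HomologicalComplex.homologyπ_naturality]
  ext z
  let w : K.cycles i := HomologicalComplex.cyclesMap (koszulOnMap (sglMap g) l) i z
  have hw : (K.iCycles i).hom w ∈ I ^ m • (⊤ : Submodule A (K.X i)) := by
    refine range_le (sglMap g) (I ^ m) (range_sglMap g (I ^ m) hg) l i ⟨(koszulOn (sgl Y) l).iCycles i z, ?_⟩
    exact (congrArg (fun f => f.hom z) (HomologicalComplex.cyclesMap_i (koszulOnMap (sglMap g) l) i)).symm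
  have h2 : (K.iCycles i).hom w ∈ I • LinearMap.range (K.iCycles i).hom := by
    have h3 : (K.iCycles i).hom w ∈ I ^ m • ⊤ ⊓ LinearMap.range (K.iCycles i).hom := ⟨hw, _, rfl⟩
    rw [hc m (by omega)] at h3
    refine Submodule.smul_mono ?_ inf_le_right h3
    exact (Ideal.pow_le_pow_right (by omega : 1 ≤ m - c)).trans (pow_one I).le
  rw [← Submodule.map_top, ← Submodule.map_smul''] at h2
  obtain ⟨v, hv, hvw⟩ := h2
  obtain rfl : v = w := (ModuleCat.mono_iff_injective (K.iCycles i)).1 inferInstance hvw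
  show (K.homologyπ i).hom w = 0
  have h4 := Submodule.smul_top_le_comap_smul_top I (K.homologyπ i).hom hv
  rw [Submodule.mem_comap] at h4
  have h5 : I • (⊤ : Submodule A (K.homology i)) ≤ ⊥ := Submodule.smul_le.2 fun a ha x _ =>
    (Submodule.mem_bot A).2 (smul_homology_eq_zero_of_mem_span (sgl X) l (hI ha) i x)
  exact (Submodule.mem_bot A).1 (h5 h4)

theorem exists_homologyMap_zero_all [IsNoetherianRing A] (hI : I ≤ Ideal.span {x | x ∈ l})
    (X : ModuleCat.{u} A) [Module.Finite A X] :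
    ∃ n : ℕ, ∀ {Y : ModuleCat.{u} A} (g : Y ⟶ X), LinearMap.range g.hom ≤ I ^ n • ⊤ →
      ∀ i, HomologicalComplex.homologyMap (koszulOnMap (sglMap g) l) i = 0 := by
  choose n hn using exists_homologyMap_zero l hI X
  refine ⟨∑ i ∈ Finset.Icc (-(l.length : ℤ)) 0, n i, fun g hg i => ?_⟩
  by_cases hi : i ∈ Finset.Icc (-(l.length : ℤ)) 0
  · exact hn i _ (Finset.single_le_sum (fun j _ => Nat.zero_le (n j)) hi) g hg
  · rw [Finset.mem_Icc, not_and_or, not_le, not_le] at hi
    refine IsZero.eq_of_tgt ?_ _ _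
    rcases hi with hi | hi
    · exact isZero_of_lt X l i hi
    · exact isZero_of_pos X l i hi

/-- `f` is null-homotopic in degrees above `t`. -/
def Killed {G G' : CochainComplex (ModuleCat.{u} A) ℤ} (f : G ⟶ G') (t : ℤ) : Prop :=
  ∃ s : ∀ i j : ℤ, G.X i ⟶ G'.X j, ∀ i, t < i →
    f.f i = G.d i (i + 1) ≫ s (i + 1) i + s i (i - 1) ≫ G'.d (i - 1) i

theorem Killed.step {G G' G'' : CochainComplex (ModuleCat.{u} A) ℤ} {f : G ⟶ G'} {t : ℤ}
    (h : Killed f t) (g : G' ⟶ G'') (hg : HomologicalComplex.homologyMap g t = 0)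
    (hproj : Module.Projective A (G.X t)) : Killed (f ≫ g) (t - 1) := by
  obtain ⟨s, hs⟩ := h
  let e : G.X t ⟶ G'.X t := f.f t - G.d t (t + 1) ≫ s (t + 1) t
  have he : e ≫ G'.d t (t + 1) = 0 := by
    have h1 : G.d t (t + 1) ≫ f.f (t + 1) = f.f t ≫ G'.d t (t + 1) := (f.comm t (t + 1)).symm
    have h2 := hs (t + 1) (by omega)
    rw [show t + 1 - 1 = t by omega] at h2
    simp only [e, Preadditive.sub_comp, Category.assoc, ← h1, h2, Preadditive.comp_add,
      HomologicalComplex.d_comp_d_assoc, zero_comp, zero_add, sub_self]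
  let c := G'.liftCycles e (t + 1) (by simp) he
  have h0 : (c ≫ HomologicalComplex.cyclesMap g t) ≫ G''.homologyπ t = 0 := by
    rw [Category.assoc, ← HomologicalComplex.homologyπ_naturality, hg, comp_zero, comp_zero]
  have hex := ShortComplex.exact_of_g_is_cokernel
    (ShortComplex.mk (G''.toCycles (t - 1) t) (G''.homologyπ t) (by simp))
    (G''.homologyIsCokernel (t - 1) t (by simp))
  let e' : G.X t →ₗ[A] G''.cycles t := (c ≫ HomologicalComplex.cyclesMap g t).hom
  have hle : LinearMap.range e' ≤ LinearMap.range (G''.toCycles (t - 1) t).hom := by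
    rintro _ ⟨x, rfl⟩
    exact (ShortComplex.moduleCat_exact_iff _).1 hex _ (congrArg (fun f => f.hom x) h0)
  obtain ⟨u, hu⟩ := Module.projective_lifting_property (G''.toCycles (t - 1) t).hom.rangeRestrict
    (LinearMap.codRestrict _ e' fun x => hle ⟨x, rfl⟩) (LinearMap.surjective_rangeRestrict _)
  have hu' : ModuleCat.ofHom u ≫ G''.d (t - 1) t = e ≫ g.f t := by
    have h1 : ModuleCat.ofHom u ≫ G''.toCycles (t - 1) t = c ≫ HomologicalComplex.cyclesMap g t :=
      ModuleCat.hom_ext (LinearMap.ext fun x => congrArg Subtype.val (LinearMap.congr_fun hu x))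
    have h2 := congrArg (fun k => k ≫ G''.iCycles t) h1
    simpa [c] using h2
  let s' : ∀ i j : ℤ, G.X i ⟶ G''.X j := fun i j =>
    if h : i = t ∧ j = t - 1 then
      eqToHom (by rw [h.1]) ≫ (ModuleCat.ofHom u) ≫ eqToHom (by rw [h.2])
    else s i j ≫ g.f j
  refine ⟨s', fun i hi => ?_⟩
  have hs' : s' (i + 1) i = s (i + 1) i ≫ g.f i := dif_neg (by rintro ⟨h1, h2⟩; omega)
  rw [hs']
  by_cases hit : i = t
  · subst hit
    rw [show s' i (i - 1) = ModuleCat.ofHom u from (dif_pos ⟨rfl, rfl⟩).trans (by simp), hu']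
    simp only [HomologicalComplex.comp_f, e, Preadditive.sub_comp, Category.assoc]
    abel
  · rw [show s' i (i - 1) = s i (i - 1) ≫ g.f (i - 1) from dif_neg (fun h => hit h.1),
      HomologicalComplex.comp_f, hs i (by omega), Preadditive.add_comp]
    simp only [Category.assoc, g.comm]

theorem homologyMap_koszulOnMap_zero {X Z : ModuleCat.{u} A} {g : Z ⟶ X} (Q : ProjectiveResolution Z)
    (R : ProjectiveResolution X) (φ : ProjectiveResolution.Hom Q R g) (i : ℤ)
    (h : HomologicalComplex.homologyMap (koszulOnMap (sglMap g) l) i = 0) :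
    HomologicalComplex.homologyMap (koszulOnMap φ.hom' l) i = 0 := by
  have := quasiIso_koszulOnMap R.π' l
  rw [← cancel_mono (HomologicalComplex.homologyMap (koszulOnMap R.π' l) i), zero_comp,
    ← HomologicalComplex.homologyMap_comp, ← koszulOnMap_comp, φ.hom'_comp_π', koszulOnMap_comp,
    HomologicalComplex.homologyMap_comp]
  exact (congrArg _ h).trans comp_zero

theorem subsingleton_cochain {X : ModuleCat.{u} A} (R : ProjectiveResolution X) (i : ℤ) (hi : 0 < i) :
    Subsingleton (R.cochainComplex.X i) :=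
  ModuleCat.isZero_iff_subsingleton.1 (CochainComplex.isZero_of_isStrictlyLE _ 0 i hi)

theorem projective_cochain {X : ModuleCat.{u} A} (R : ProjectiveResolution X) (i : ℤ) :
    Module.Projective A (R.cochainComplex.X i) :=
  (IsProjective.iff_projective (R := A) _).2 (inferInstance : Projective (R.cochainComplex.X i))

/-- The composite of two morphisms of resolutions. -/
noncomputable def homComp {X Y Z : ModuleCat.{u} A} {P : ProjectiveResolution X}
    {Q : ProjectiveResolution Y} {R : ProjectiveResolution Z} {f : X ⟶ Y} {g : Y ⟶ Z}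
    (φ : ProjectiveResolution.Hom P Q f) (ψ : ProjectiveResolution.Hom Q R g) :
    ProjectiveResolution.Hom P R (f ≫ g) where
  hom := φ.hom ≫ ψ.hom
  hom_f_zero_comp_π_f_zero := by
    rw [HomologicalComplex.comp_f, Category.assoc, ψ.hom_f_zero_comp_π_f_zero, ← Category.assoc,
      φ.hom_f_zero_comp_π_f_zero, Category.assoc, ← HomologicalComplex.comp_f, ← Functor.map_comp]

theorem homComp_hom' {X Y Z : ModuleCat.{u} A} {P : ProjectiveResolution X}
    {Q : ProjectiveResolution Y} {R : ProjectiveResolution Z} {f : X ⟶ Y} {g : Y ⟶ Z}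
    (φ : ProjectiveResolution.Hom P Q f) (ψ : ProjectiveResolution.Hom Q R g) :
    (homComp φ ψ).hom' = φ.hom' ≫ ψ.hom' :=
  HomologicalComplex.extendMap_comp _ _ _

/-- Some lift. -/
noncomputable def liftHom {X Y : ModuleCat.{u} A} (g : X ⟶ Y) (P : ProjectiveResolution X)
    (Q : ProjectiveResolution Y) : ProjectiveResolution.Hom P Q g where
  hom := ProjectiveResolution.lift g P Q
  hom_f_zero_comp_π_f_zero := ProjectiveResolution.lift_commutes_zero g P Q

theorem exists_killed [IsNoetherianRing A] (hI : I ≤ Ideal.span {x | x ∈ l}) : ∀ (k : ℕ) (X : ModuleCat.{u} A) [Module.Finite A X],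
    ∃ n : ℕ, ∀ {Y : ModuleCat.{u} A} (g : Y ⟶ X), LinearMap.range g.hom ≤ I ^ n • ⊤ →
      ∀ (P : ProjectiveResolution Y) (R : ProjectiveResolution X),
        ∃ φ : ProjectiveResolution.Hom P R g, Killed (koszulOnMap φ.hom' l) (-(k : ℤ))
  | 0, X, _ => ⟨0, fun g _ P R => ⟨liftHom g P R, ⟨fun _ _ => 0, fun i hi => by
      have := isZero_X P.cochainComplex (fun j hj => subsingleton_cochain P j hj) l i (by omega)
      exact (ModuleCat.isZero_iff_subsingleton.2 this).eq_of_src _ _⟩⟩⟩
  | k + 1, X, _ => by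
    obtain ⟨n₁, hn₁⟩ := exists_homologyMap_zero_all l hI X
    let Z : ModuleCat.{u} A := ModuleCat.of A (I ^ n₁ • ⊤ : Submodule A X)
    have : Module.Finite A Z :=
      inferInstanceAs (Module.Finite A (I ^ n₁ • ⊤ : Submodule A X))
    obtain ⟨n₂, hn₂⟩ := exists_killed hI k Z
    refine ⟨n₂ + n₁, fun {Y} g hg P R => ?_⟩
    let ι : Z ⟶ X := ModuleCat.ofHom (I ^ n₁ • ⊤ : Submodule A X).subtype
    have hgZ : ∀ y, g.hom y ∈ (I ^ n₁ • ⊤ : Submodule A X) := fun y =>
      Submodule.smul_mono_left (Ideal.pow_le_pow_right (Nat.le_add_left _ _)) (hg ⟨y, rfl⟩)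
    let g₁ : Y ⟶ Z := ModuleCat.ofHom (g.hom.codRestrict _ hgZ)
    have hg₁ : LinearMap.range g₁.hom ≤ I ^ n₂ • ⊤ := by
      rintro _ ⟨y, rfl⟩
      have h1 := hg ⟨y, rfl⟩
      rw [pow_add, mul_smul] at h1
      have h2 : (I ^ n₁ • ⊤ : Submodule A X) =
          (⊤ : Submodule A Z).map (I ^ n₁ • ⊤ : Submodule A X).subtype :=
        ((I ^ n₁ • ⊤ : Submodule A X).map_subtype_top).symm
      rw [h2, ← Submodule.map_smul''] at h1
      obtain ⟨v, hv, hvy⟩ := h1
      obtain rfl : v = g₁.hom y := Subtype.ext hvy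
      exact hv
    let Q := projectiveResolution Z
    obtain ⟨φ, hφ⟩ := hn₂ g₁ hg₁ P Q
    have hfac : g₁ ≫ ι = g := ModuleCat.hom_ext (LinearMap.ext fun y => rfl)
    have hz : HomologicalComplex.homologyMap (koszulOnMap (liftHom ι Q R).hom' l) (-(k : ℤ)) = 0 :=
      homologyMap_koszulOnMap_zero l Q R _ _ (hn₁ ι (le_of_eq (Submodule.range_subtype _)) _)
    obtain ⟨χ, hχ⟩ : ∃ χ : ProjectiveResolution.Hom P R g,
        χ.hom' = φ.hom' ≫ (liftHom ι Q R).hom' := by
      rw [← hfac]
      exact ⟨homComp φ (liftHom ι Q R), homComp_hom' _ _⟩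
    refine ⟨χ, ?_⟩
    have := hφ.step _ hz (projective_X _ (projective_cochain P) l _)
    rw [hχ, koszulOnMap_comp, show (-((k + 1 : ℕ) : ℤ)) = -(k : ℤ) - 1 by push_cast; ring]
    exact this

theorem Killed.pred_of_lt {Y X : ModuleCat.{u} A} {P : ProjectiveResolution Y}
    {R : ProjectiveResolution X} {g : Y ⟶ X} (φ : ProjectiveResolution.Hom P R g) (t : ℤ)
    (ht : t < -(l.length : ℤ)) (h : Killed (koszulOnMap φ.hom' l) t) :
    Killed (koszulOnMap φ.hom' l) (t - 1) := by
  have hz : IsZero ((koszulOn R.cochainComplex l).homology t) :=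
    IsZero.of_iso (isZero_of_lt X l t ht) (homologyIsoOfQuasiIso R.π' l t)
  have := h.step (𝟙 _) (hz.eq_of_src _ _) (projective_X _ (projective_cochain P) l _)
  rwa [Category.comp_id] at this

/-- A linear form on `C`, zero on boundaries and killed by the list, extends to the Koszul complex. -/
theorem exists_ext {N : Type u} [AddCommGroup N] [Module A N]
    (C : CochainComplex (ModuleCat.{u} A) ℤ) (i : ℤ) (c : C.X i →ₗ[A] N)
    (hc : ∀ x, c (C.d (i - 1) i x) = 0) : ∀ l : List A, (∀ a ∈ l, ∀ y : N, a • y = 0) →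
    ∃ c' : (koszulOn C l).X i →ₗ[A] N,
      (∀ x, c' ((koszulOn C l).d (i - 1) i x) = 0) ∧ ∀ x, c' ((inc C l).f i x) = c x
  | [], _ => ⟨c, hc, fun _ => rfl⟩
  | a :: l, hl => by
    obtain ⟨c', h1, h2⟩ := exists_ext C i c hc l (fun b hb => hl b (List.mem_cons_of_mem _ hb))
    refine ⟨c' ∘ₗ csnd (a • 𝟙 (koszulOn C l)) i, fun x => ?_, fun x => ?_⟩
    · show c' (csnd (a • 𝟙 (koszulOn C l)) i _) = 0
      erw [csnd_d _ (i - 1) i (by omega)]
      rw [map_add, h1, add_zero, map_smul_id, map_smul]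
      exact hl a List.mem_cons_self _
    · show c' (csnd (a • 𝟙 (koszulOn C l)) i ((mappingCone.inr (a • 𝟙 (koszulOn C l))).f i ((inc C l).f i x))) = c x
      rw [inr_apply _ i (i + 1) rfl, csnd_cmk]
      exact h2 x

/-- From a homotopy in high degrees to coboundaries. -/
theorem coc_of_killed (l : List A) {Y X : ModuleCat.{u} A} {P : ProjectiveResolution Y}
    {R : ProjectiveResolution X} {g : Y ⟶ X} (φ : ProjectiveResolution.Hom P R g)
    (hφ : Killed (koszulOnMap φ.hom' l) (-((l.length + 1 : ℕ) : ℤ))) (q : ℕ) (N : Type u)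
    [AddCommGroup N] [Module A N] (hN : ∀ a ∈ l, ∀ y : N, a • y = 0)
    (c : R.complex.X (q + 1) →ₗ[A] N) (hc : ∀ x, c (R.complex.d (q + 2) (q + 1) x) = 0) :
    ∃ h : P.complex.X q →ₗ[A] N, ∀ x, c (φ.hom.f (q + 1) x) = h (P.complex.d (q + 1) q x) := by
  have hall : ∀ k : ℕ, Killed (koszulOnMap φ.hom' l) (-((l.length + 1 + k : ℕ) : ℤ)) := by
    intro k
    induction k with
    | zero => exact hφ
    | succ k ih =>
      have := Killed.pred_of_lt l φ _ (by omega) ih
      convert this using 1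
      omega
  obtain ⟨sH, hsH⟩ := hall (q + 1)
  let i : ℤ := -((q + 1 : ℕ) : ℤ)
  let eR := R.cochainComplexXIso i (q + 1) rfl
  let eP := P.cochainComplexXIso i (q + 1) rfl
  let eP' := P.cochainComplexXIso (i + 1) q (by omega)
  obtain ⟨c', hc1, hc2⟩ := exists_ext R.cochainComplex i (c ∘ₗ eR.hom.hom) (fun x => by
    rw [R.cochainComplex_d (i - 1) i (q + 2) (q + 1) (by omega) rfl]
    show c (eR.hom.hom (eR.inv.hom _)) = 0
    rw [← ConcreteCategory.comp_apply, Iso.inv_hom_id]
    exact hc _) l hN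
  refine ⟨c' ∘ₗ (sH (i + 1) i).hom ∘ₗ ((inc P.cochainComplex l).f (i + 1)).hom ∘ₗ eP'.inv.hom,
    fun x => ?_⟩
  let y : P.cochainComplex.X i := eP.inv.hom x
  have hy : (eP.hom).hom y = x := by rw [← ConcreteCategory.comp_apply, Iso.inv_hom_id]; rfl
  have h1 : c (φ.hom.f (q + 1) x) = c' ((inc R.cochainComplex l).f i ((φ.hom'.f i).hom y)) := by
    rw [hc2, φ.hom'_f i (q + 1) rfl]
    show c (φ.hom.f (q + 1) x) = c (eR.hom.hom (eR.inv.hom ((φ.hom.f (q + 1)).hom (eP.hom.hom y))))
    rw [hy, ← ConcreteCategory.comp_apply eR.inv, Iso.inv_hom_id]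
    rfl
  have h2 : (inc R.cochainComplex l).f i ((φ.hom'.f i).hom y) =
      (koszulOnMap φ.hom' l).f i ((inc P.cochainComplex l).f i y) :=
    congrArg (fun k => (k.f i).hom y) (inc_naturality φ.hom' l)
  rw [h1, h2, hsH i (by omega)]
  change c' (((koszulOn P.cochainComplex l).d i (i + 1) ≫ sH (i + 1) i).hom ((inc P.cochainComplex l).f i y) +
    (sH i (i - 1) ≫ (koszulOn R.cochainComplex l).d (i - 1) i).hom ((inc P.cochainComplex l).f i y)) = _
  rw [map_add]
  erw [hc1, add_zero]
  show c' ((sH (i + 1) i).hom (((koszulOn P.cochainComplex l).d i (i + 1)).hom _)) = _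
  refine congrArg (fun z => c' ((sH (i + 1) i).hom z)) ?_
  rw [← ConcreteCategory.comp_apply, (inc P.cochainComplex l).comm i (i + 1),
    P.cochainComplex_d i (i + 1) (q + 1) q rfl (by omega)]
  show _ = ((inc P.cochainComplex l).f (i + 1)).hom (eP'.inv.hom ((P.complex.d (q + 1) q).hom x))
  conv_rhs => rw [← hy]
  rfl

/-- Cocycles with values killed by `I` pull back to coboundaries along `I ^ n M → M`. -/
theorem exists_pow_cocycle [IsNoetherianRing A] (I : Ideal A) (X : ModuleCat.{u} A) [Module.Finite A X] :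
    ∃ n : ℕ, 0 < n ∧ ∀ (P : ProjectiveResolution (ModuleCat.of A (I ^ n • ⊤ : Submodule A X)))
      (R : ProjectiveResolution X), ∃ φ : ProjectiveResolution.Hom P R
        (ModuleCat.ofHom (I ^ n • ⊤ : Submodule A X).subtype),
        ∀ (q : ℕ) (N : Type u) [AddCommGroup N] [Module A N], (∀ a ∈ I, ∀ y : N, a • y = 0) →
          ∀ c : R.complex.X (q + 1) →ₗ[A] N, (∀ x, c (R.complex.d (q + 2) (q + 1) x) = 0) →
            ∃ h : P.complex.X q →ₗ[A] N, ∀ x, c (φ.hom.f (q + 1) x) = h (P.complex.d (q + 1) q x) := by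
  obtain ⟨s, hs⟩ := IsNoetherian.noetherian I
  have hspan : I ≤ Ideal.span {x | x ∈ s.toList} := le_of_eq (by simp [← hs, Ideal.span])
  let l := s.toList
  have hl : ∀ a ∈ l, a ∈ I := fun a ha => hs ▸ Submodule.subset_span (Finset.mem_toList.1 ha)
  obtain ⟨n, hn⟩ := exists_killed l hspan (l.length + 1) X
  refine ⟨n + 1, Nat.succ_pos n, fun P R => ?_⟩
  obtain ⟨φ, hφ⟩ := hn (ModuleCat.ofHom (I ^ (n + 1) • ⊤ : Submodule A X).subtype)
    ((le_of_eq (Submodule.range_subtype _)).trans
      (Submodule.smul_mono_left (Ideal.pow_le_pow_right (Nat.le_succ n)))) P R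
  exact ⟨φ, fun q N _ _ hN c hc => coc_of_killed l φ hφ q N (fun a ha => hN a (hl a ha)) c hc⟩

theorem sglMap_injective {X Y : ModuleCat.{u} A} (g : X ⟶ Y) (hg : Function.Injective g.hom) (i : ℤ) :
    Function.Injective ((sglMap g).f i).hom := by
  by_cases hi : i = 0
  · subst hi
    rw [HomologicalComplex.single_map_f_self]
    exact ((ModuleCat.mono_iff_injective _).1 (by
      have : Mono g := (ModuleCat.mono_iff_injective g).2 hg
      infer_instance))
  · intro x y _
    have := ModuleCat.isZero_iff_subsingleton.1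
      (HomologicalComplex.isZero_single_obj_X (ComplexShape.up ℤ) 0 X i hi)
    exact Subsingleton.elim x y

theorem le_range_sglMap {X Y : ModuleCat.{u} A} (g : X ⟶ Y) (J : Ideal A)
    (hg : J • ⊤ ≤ LinearMap.range g.hom) (i : ℤ) : J • ⊤ ≤ LinearMap.range ((sglMap g).f i).hom := by
  by_cases hi : i = 0
  · subst hi
    intro y hy
    let eX := HomologicalComplex.singleObjXSelf (ComplexShape.up ℤ) 0 X
    let eY := HomologicalComplex.singleObjXSelf (ComplexShape.up ℤ) 0 Y
    obtain ⟨x, hx⟩ := hg (Submodule.smul_top_le_comap_smul_top J eY.hom.hom hy)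
    refine ⟨eX.inv.hom x, ?_⟩
    rw [HomologicalComplex.single_map_f_self, ModuleCat.hom_comp, ModuleCat.hom_comp,
      LinearMap.comp_apply, LinearMap.comp_apply]
    show eY.inv.hom (g.hom (eX.hom.hom (eX.inv.hom x))) = y
    rw [← ConcreteCategory.comp_apply eX.inv, Iso.inv_hom_id]
    show eY.inv.hom (g.hom x) = y
    rw [hx]
    exact congrArg (fun f => f.hom y) eY.hom_inv_id
  · intro z _
    have := ModuleCat.isZero_iff_subsingleton.1
      (HomologicalComplex.isZero_single_obj_X (ComplexShape.up ℤ) 0 Y i hi)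
    exact ⟨0, Subsingleton.elim _ _⟩

theorem le_range {C C' : CochainComplex (ModuleCat.{u} A) ℤ} (g : C ⟶ C') (J : Ideal A)
    (hg : ∀ i, J • ⊤ ≤ LinearMap.range (g.f i).hom) :
    ∀ (l : List A) (i : ℤ), J • ⊤ ≤ LinearMap.range ((koszulOnMap g l).f i).hom
  | [], i => hg i
  | a :: l, i => by
    intro z hz
    let φ := a • 𝟙 (koszulOn C' l)
    obtain ⟨x, hx⟩ := le_range g J hg l (i + 1) (Submodule.smul_top_le_comap_smul_top J (cfst φ i (i + 1) rfl) hz)
    obtain ⟨y, hy⟩ := le_range g J hg l i (Submodule.smul_top_le_comap_smul_top J (csnd φ i) hz)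
    refine ⟨cmk (a • 𝟙 (koszulOn C l)) i (i + 1) rfl (x, y), ?_⟩
    show (smulConeMap a (koszulOnMap g l)).f i _ = z
    rw [smulConeMap, map_cmk]
    exact (congrArg (cmk φ i (i + 1) rfl) (Prod.ext hx hy)).trans (cmk_coords φ i (i + 1) rfl z)

theorem injective_map {C C' : CochainComplex (ModuleCat.{u} A) ℤ} (g : C ⟶ C')
    (hg : ∀ i, Function.Injective (g.f i).hom) :
    ∀ (l : List A) (i : ℤ), Function.Injective ((koszulOnMap g l).f i).hom
  | [], i => hg i
  | a :: l, i => by
    intro z w h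
    obtain ⟨⟨x, y⟩, rfl⟩ := cmk_surjective (a • 𝟙 (koszulOn C l)) i (i + 1) rfl z
    obtain ⟨⟨x', y'⟩, rfl⟩ := cmk_surjective (a • 𝟙 (koszulOn C l)) i (i + 1) rfl w
    change (smulConeMap a (koszulOnMap g l)).f i _ = (smulConeMap a (koszulOnMap g l)).f i _ at h
    rw [smulConeMap, map_cmk, map_cmk] at h
    have h1 := congrArg (cfst _ i (i + 1) rfl) h
    have h2 := congrArg (csnd _ i) h
    rw [cfst_cmk, cfst_cmk] at h1
    rw [csnd_cmk, csnd_cmk] at h2
    exact congrArg _ (Prod.ext (injective_map g hg l (i + 1) h1) (injective_map g hg l i h2))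

/-- The inclusion `I ^ a X → I ^ b X`. -/
noncomputable abbrev incl (I : Ideal A) (X : ModuleCat.{u} A) {a b : ℕ} (h : b ≤ a) :
    ModuleCat.of A (I ^ a • ⊤ : Submodule A X) ⟶ ModuleCat.of A (I ^ b • ⊤ : Submodule A X) :=
  ModuleCat.ofHom (Submodule.inclusion (Submodule.smul_mono_left (Ideal.pow_le_pow_right h)))

theorem exists_homologyMap_zero_uniform [IsNoetherianRing A] (I : Ideal A) (m : ℕ)
    (hl : I ^ m ≤ Ideal.span {x | x ∈ l}) (X : ModuleCat.{u} A) [Module.Finite A X] :
    ∃ c : ℕ, m ≤ c ∧ ∀ {a b : ℕ} (h : b + c ≤ a) (i : ℤ),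
      HomologicalComplex.homologyMap
        (koszulOnMap (sglMap (incl I X (le_trans (Nat.le_add_right b c) h))) l) i = 0 := by
  have hfin : ∀ j, Module.Finite A ((sgl X).X j) := fun j => by
    by_cases hj : j = 0
    · subst hj
      exact Module.Finite.equiv (HomologicalComplex.singleObjXSelf (ComplexShape.up ℤ) 0 X).symm.toLinearEquiv
    · have := ModuleCat.isZero_iff_subsingleton.1
        (HomologicalComplex.isZero_single_obj_X (ComplexShape.up ℤ) 0 X j hj)
      infer_instance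
  let K := koszulOn (sgl X) l
  have : ∀ i, Module.Finite A (K.X i) := finite_X _ hfin l
  choose e he using fun i => Ideal.exists_pow_inf_eq_pow_smul I (LinearMap.ker (K.d i (i + 1)).hom)
  refine ⟨(∑ i ∈ Finset.Icc (-(l.length : ℤ)) 0, e i) + m, Nat.le_add_left _ _, fun {a b} hab i => ?_⟩
  by_cases hi : i ∈ Finset.Icc (-(l.length : ℤ)) 0
  swap
  · rw [Finset.mem_Icc, not_and_or, not_le, not_le] at hi
    refine IsZero.eq_of_tgt ?_ _ _
    rcases hi with hi | hi
    · exact isZero_of_lt _ l i hi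
    · exact isZero_of_pos _ l i hi
  have hc : e i ≤ ∑ i ∈ Finset.Icc (-(l.length : ℤ)) 0, e i :=
    Finset.single_le_sum (fun j _ => Nat.zero_le (e j)) hi
  let Za := ModuleCat.of A (I ^ a • ⊤ : Submodule A X)
  let Zb := ModuleCat.of A (I ^ b • ⊤ : Submodule A X)
  let g : Za ⟶ Zb := incl I X (le_trans (Nat.le_add_right b _) hab)
  let ιb : Zb ⟶ X := ModuleCat.ofHom (I ^ b • ⊤ : Submodule A X).subtype
  let ιa : Za ⟶ X := ModuleCat.ofHom (I ^ a • ⊤ : Submodule A X).subtype
  let Kb := koszulOn (sgl Zb) l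
  let F : Kb ⟶ K := koszulOnMap (sglMap ιb) l
  have hFinj : Function.Injective (F.f i).hom :=
    injective_map _ (sglMap_injective ιb Subtype.val_injective) l i
  rw [← cancel_epi ((koszulOn (sgl Za) l).homologyπ i), comp_zero,
    HomologicalComplex.homologyπ_naturality]
  ext z
  let w : Kb.cycles i := HomologicalComplex.cyclesMap (koszulOnMap (sglMap g) l) i z
  let w' : Kb.X i := (Kb.iCycles i).hom w
  have hw1 : (F.f i).hom w' ∈ I ^ a • (⊤ : Submodule A (K.X i)) := by
    have h1 : (F.f i).hom w' = ((koszulOnMap (sglMap ιa) l).f i).hom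
        (((koszulOn (sgl Za) l).iCycles i).hom z) := by
      have h2 : koszulOnMap (sglMap g) l ≫ F = koszulOnMap (sglMap ιa) l := by
        rw [← koszulOnMap_comp, ← Functor.map_comp]
        rfl
      rw [← h2]
      exact congrArg (F.f i).hom (congrArg (fun f => f.hom z)
        (HomologicalComplex.cyclesMap_i (koszulOnMap (sglMap g) l) i))
    rw [h1]
    exact range_le _ (I ^ a) (range_sglMap ιa (I ^ a) (le_of_eq (Submodule.range_subtype _))) l i ⟨_, rfl⟩
  have hw2 : (F.f i).hom w' ∈ LinearMap.ker (K.d i (i + 1)).hom := by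
    rw [LinearMap.mem_ker, ← ConcreteCategory.comp_apply, F.comm]
    show (F.f (i + 1)).hom ((Kb.iCycles i ≫ Kb.d i (i + 1)).hom w) = 0
    rw [HomologicalComplex.iCycles_d]
    exact map_zero _
  have h3 : (F.f i).hom w' ∈ I ^ a • ⊤ ⊓ LinearMap.ker (K.d i (i + 1)).hom := ⟨hw1, hw2⟩
  rw [he i a (by omega), show a - e i = m + (a - e i - m) by omega, pow_add, mul_smul] at h3
  have h4 : I ^ (a - e i - m) • (I ^ e i • ⊤ ⊓ LinearMap.ker (K.d i (i + 1)).hom) ≤
      ((⊤ : Submodule A (Kb.cycles i)).map (Kb.iCycles i).hom).map (F.f i).hom := by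
    intro v hv
    have hv1 : v ∈ I ^ b • (⊤ : Submodule A (K.X i)) :=
      Submodule.smul_mono (Ideal.pow_le_pow_right (by omega : b ≤ a - e i - m)) le_top hv
    have hv2 : v ∈ LinearMap.ker (K.d i (i + 1)).hom :=
      Submodule.smul_le.2 (fun r _ x (hx : x ∈ I ^ e i • (⊤ : Submodule A (K.X i)) ⊓ LinearMap.ker (K.d i (i + 1)).hom) =>
        Submodule.smul_mem _ r hx.2) hv
    obtain ⟨u, rfl⟩ := le_range _ (I ^ b) (le_range_sglMap ιb (I ^ b)
      (Submodule.range_subtype _).ge) l i hv1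
    have hu : (Kb.d i (i + 1)).hom u = 0 := by
      refine injective_map _ (sglMap_injective ιb Subtype.val_injective) l (i + 1) ?_
      rw [map_zero, ← ConcreteCategory.comp_apply, ← F.comm]
      exact hv2
    let t : ModuleCat.of A A ⟶ Kb.X i := ModuleCat.ofHom (LinearMap.toSpanSingleton A _ u)
    have ht : t ≫ Kb.d i (i + 1) = 0 := by
      ext
      simp [t, hu]
    refine ⟨u, ⟨(Kb.liftCycles t (i + 1) (by simp) ht).hom (1 : A), trivial, ?_⟩, rfl⟩
    rw [← ConcreteCategory.comp_apply, HomologicalComplex.liftCycles_i]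
    exact one_smul A u
  have h5 := Submodule.smul_mono (le_refl (I ^ m)) h4 h3
  rw [← Submodule.map_smul'', ← Submodule.map_smul''] at h5
  obtain ⟨_, ⟨v, hv, rfl⟩, hvw⟩ := h5
  obtain rfl : v = w := (ModuleCat.mono_iff_injective (Kb.iCycles i)).1 inferInstance (hFinj hvw)
  show (Kb.homologyπ i).hom w = 0
  have h6 := Submodule.smul_top_le_comap_smul_top (I ^ m) (Kb.homologyπ i).hom hv
  rw [Submodule.mem_comap] at h6
  have h7 : I ^ m • (⊤ : Submodule A (Kb.homology i)) ≤ ⊥ := Submodule.smul_le.2 fun r hr x _ =>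
    (Submodule.mem_bot A).2 (smul_homology_eq_zero_of_mem_span (sgl Zb) l (hl hr) i x)
  exact (Submodule.mem_bot A).1 (h7 h6)

theorem exists_killed_uniform [IsNoetherianRing A] (I : Ideal A) (m : ℕ)
    (hl : I ^ m ≤ Ideal.span {x | x ∈ l}) (X : ModuleCat.{u} A) [Module.Finite A X] :
    ∃ c : ℕ, m ≤ c ∧ ∀ (k : ℕ) {a b : ℕ} (h : b + k * c ≤ a)
      (P : ProjectiveResolution (ModuleCat.of A (I ^ a • ⊤ : Submodule A X)))
      (R : ProjectiveResolution (ModuleCat.of A (I ^ b • ⊤ : Submodule A X))),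
        ∃ φ : ProjectiveResolution.Hom P R (incl I X (le_trans (Nat.le_add_right b (k * c)) h)),
          Killed (koszulOnMap φ.hom' l) (-(k : ℤ)) := by
  obtain ⟨c, hmc, hc⟩ := exists_homologyMap_zero_uniform l I m hl X
  refine ⟨c, hmc, fun k => ?_⟩
  induction k with
  | zero =>
    exact fun h P R => ⟨liftHom _ P R, ⟨fun _ _ => 0, fun i hi => by
      have := isZero_X P.cochainComplex (fun j hj => subsingleton_cochain P j hj) l i (by omega)
      exact (ModuleCat.isZero_iff_subsingleton.2 this).eq_of_src _ _⟩⟩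
  | succ k ih =>
    intro a b h P R
    rw [Nat.succ_mul] at h
    let Q := projectiveResolution (ModuleCat.of A (I ^ (b + c) • ⊤ : Submodule A X))
    obtain ⟨φ, hφ⟩ := ih (b := b + c) (by omega) P Q
    have hz : HomologicalComplex.homologyMap
        (koszulOnMap (liftHom (incl I X (Nat.le_add_right b c)) Q R).hom' l) (-(k : ℤ)) = 0 :=
      homologyMap_koszulOnMap_zero l Q R _ _ (hc le_rfl _)
    refine ⟨homComp φ (liftHom (incl I X (Nat.le_add_right b c)) Q R), ?_⟩
    have := hφ.step _ hz (projective_X _ (projective_cochain P) l _)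
    rw [← koszulOnMap_comp, ← homComp_hom'] at this
    rw [show (-((k + 1 : ℕ) : ℤ)) = -(k : ℤ) - 1 by push_cast; ring]
    exact this

end Groth.Agent.H80.TorPowKoszul
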