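import Groth.Prelude.Def_Pi1
import Groth.Agent.Lib.FEt.DepthTwoSections
import Groth.Agent.Lib.CDivInt.Normal
import Groth.Agent.Lib.CartierDescent.Normal
import Mathlib.AlgebraicGeometry.QuasiAffine
import Mathlib.RingTheory.Etale.Field
import Mathlib.RingTheory.DedekindDomain.IntegralClosure
import Mathlib.FieldTheory.Minpoly.IsIntegrallyClosed

set_option autoImplicit false

universe u

open CategoryTheory CategoryTheory.Limits AlgebraicGeometry
open scoped TensorProduct nonZeroDivisors

namespace Groth.Agent.H80.PuncturedExt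

open Groth.Agent.Lib

theorem two_le_depth {A : Type u} [CommRing A] [IsDomain A] [IsNoetherianRing A] [IsLocalRing A]
    [IsIntegrallyClosed A] (hdim : (2 : WithBot ℕ∞) ≤ ringKrullDim A) :
    (2 : ℕ∞) ≤ LocCoh.depth A A := by
  by_contra h
  rcases Order.le_one_iff.mp (ENat.lt_coe_add_one_iff.mp (not_le.mp h)) with h0 | h1
  · rw [ringKrullDim_eq_zero_of_isField (CartierDescent.isField_of_depth_eq_zero h0)] at hdim
    exact absurd hdim (by decide)
  · have := CDivInt.isDiscreteValuationRing_of_depth_eq_one h1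
    rw [IsDiscreteValuationRing.ringKrullDim_eq_one A] at hdim
    exact absurd hdim (by decide)

section Algebra

variable (A : Type u) [CommRing A] [IsDomain A] [IsNoetherianRing A] [IsIntegrallyClosed A]
variable (K : Type u) [Field K] [Algebra A K] [IsFractionRing A K]

/-- An element of the fraction field in `A[1/a]` and `A[1/b]` for a regular pair lies in `A`. -/
theorem mem_range_of_pair {a b : A} (ha : a ≠ 0) (hb : ∀ x, a ∣ b * x → a ∣ x) (x : K)
    (h1 : ∃ n : ℕ, ∃ p : A, x * algebraMap A K a ^ n = algebraMap A K p)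
    (h2 : ∃ n : ℕ, ∃ q : A, x * algebraMap A K b ^ n = algebraMap A K q) :
    ∃ p : A, algebraMap A K p = x := by
  obtain ⟨n, p, hp⟩ := h1
  obtain ⟨m, q, hq⟩ := h2
  have e : b ^ m * p = a ^ n * q := IsFractionRing.injective A K (by
    simp only [map_mul, map_pow, ← hp, ← hq]; ring)
  obtain ⟨r, rfl⟩ := FEt.DepthTwo.dvd_of_dvd_pow_mul
    (IsSMulRegular.of_right_eq_zero_of_smul fun z hz => (mul_eq_zero.mp hz).resolve_left ha) hb n m p
    ⟨q, e⟩
  refine ⟨r, mul_right_cancel₀ (pow_ne_zero n (IsFractionRing.to_map_eq_zero_iff.not.mpr ha :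
    algebraMap A K a ≠ 0)) ?_⟩
  rw [hp, map_mul, map_pow, mul_comm]

variable (B : Type u) [CommRing B] [Algebra A B]

/-- An algebra without torsion which is finite etale on `D(a)` and finite on `D(b)` is finite. -/
theorem finite_of_pair {a b : A} (ha : a ≠ 0) (hb0 : b ≠ 0) (hb : ∀ x, a ∣ b * x → a ∣ x)
    (hfa : Module.Finite (Localization.Away a) (Localization.Away a ⊗[A] B))
    (hea : Algebra.Etale (Localization.Away a) (Localization.Away a ⊗[A] B))
    (hfb : Module.Finite (Localization.Away b) (Localization.Away b ⊗[A] B))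
    (htor : ∀ (c : A) (x : B), c ≠ 0 → c • x = 0 → x = 0) :
    Module.Finite A B := by
  classical
  let K := FractionRing A
  let L := K ⊗[A] B
  have hle : ∀ {f : A}, f ≠ 0 → Submonoid.powers f ≤ A⁰ := fun hf =>
    Submonoid.powers_le.mpr (mem_nonZeroDivisors_of_ne_zero hf)
  let ι : ∀ f : A, f ≠ 0 → (Localization.Away f →ₐ[A] K) := fun f hf =>
    IsLocalization.liftAlgHom (f := Algebra.ofId A K) (fun y =>
      IsLocalization.map_units K ⟨y.1, hle hf y.2⟩)
  let : Algebra (Localization.Away a) K := (ι a ha).toRingHom.toAlgebra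
  have : IsScalarTower A (Localization.Away a) K := .of_algHom (ι a ha)
  have hLf : Module.Finite K L := Module.Finite.equiv
    (Algebra.TensorProduct.cancelBaseChange A (Localization.Away a) K K B).toLinearEquiv
  have hLe : Algebra.Etale K L := Algebra.Etale.of_equiv
    (Algebra.TensorProduct.cancelBaseChange A (Localization.Away a) K K B)
  obtain ⟨I, hI, Li, _, _, e, hsep⟩ :=
    (Algebra.FormallyEtale.iff_exists_algEquiv_prod K L).mp inferInstance
  have : Fintype I := Fintype.ofFinite I
  let : ∀ i, Algebra A (Li i) := fun i =>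
    ((algebraMap K (Li i)).comp (algebraMap A K)).toAlgebra
  have : ∀ i, IsScalarTower A K (Li i) := fun i => .of_algebraMap_eq' rfl
  have : ∀ i, Module.Finite K (Li i) := fun i => Module.Finite.of_surjective
    ((Pi.evalAlgHom K Li i).comp e.toAlgHom).toLinearMap
    ((Function.surjective_eval i).comp e.surjective)
  have : ∀ i, FiniteDimensional K (Li i) := inferInstance
  have : ∀ i, Module.Finite A (integralClosure A (Li i)) := fun i =>
    have := hsep i
    IsIntegralClosure.finite A K (Li i) (integralClosure A (Li i))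
  let j : B →ₐ[A] Π i, Li i :=
    (e.toAlgHom.restrictScalars A).comp Algebra.TensorProduct.includeRight
  have hj : Function.Injective j := by
    refine (injective_iff_map_eq_zero j).mpr fun x hx => ?_
    have h0 : TensorProduct.mk A K B 1 x = 0 := e.injective (hx.trans (map_zero e).symm)
    obtain ⟨c, hc⟩ := (IsLocalizedModule.eq_zero_iff A⁰ (TensorProduct.mk A K B 1)).mp h0
    exact htor c.1 x (nonZeroDivisors.ne_zero c.2) hc
  have hint : ∀ (x : B) (i : I), j x i ∈ integralClosure A (Li i) := by
    intro x i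
    change IsIntegral A (j x i)
    have hcoeff : ∀ f : A, (hf : f ≠ 0) →
        Module.Finite (Localization.Away f) (Localization.Away f ⊗[A] B) →
        ∀ k, ∃ n : ℕ, ∃ p : A,
          (minpoly K (j x i)).coeff k * algebraMap A K f ^ n = algebraMap A K p := by
      intro f hf hfin k
      let S := Localization.Away f
      let : Algebra S K := (ι f hf).toRingHom.toAlgebra
      have : IsScalarTower A S K := .of_algHom (ι f hf)
      have : IsFractionRing S K :=
        IsFractionRing.isFractionRing_of_isDomain_of_isLocalization (Submonoid.powers f) S K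
      have : IsDomain S := IsLocalization.isDomain_localization (hle hf)
      have : IsIntegrallyClosed S :=
        isIntegrallyClosed_of_isLocalization S (Submonoid.powers f) (hle hf)
      let : Algebra S (Li i) := ((algebraMap K (Li i)).comp (algebraMap S K)).toAlgebra
      have : IsScalarTower S K (Li i) := .of_algebraMap_eq' rfl
      have : IsScalarTower A S (Li i) := .of_algebraMap_eq fun r => by
        change algebraMap A (Li i) r = algebraMap K (Li i) (algebraMap S K (algebraMap A S r))
        rw [← IsScalarTower.algebraMap_apply A S K]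
        rfl
      let F : S ⊗[A] B →ₐ[S] Li i := Algebra.TensorProduct.lift (Algebra.ofId S (Li i))
        ((Pi.evalAlgHom A Li i).comp j) fun _ _ => .all _ _
      have h1 : IsIntegral S ((1 : S) ⊗ₜ[A] x) := Algebra.IsIntegral.isIntegral _
      have h2 := h1.map F
      simp only [F, Algebra.TensorProduct.lift_tmul, map_one, one_mul] at h2
      change IsIntegral S (j x i) at h2
      rw [minpoly.isIntegrallyClosed_eq_field_fractions' K h2, Polynomial.coeff_map]
      obtain ⟨n, p, hp⟩ := IsLocalization.Away.surj f ((minpoly S (j x i)).coeff k)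
      refine ⟨n, p, ?_⟩
      rw [IsScalarTower.algebraMap_apply A S K f, IsScalarTower.algebraMap_apply A S K p, ← map_pow,
        ← map_mul, hp]
    have hK : IsIntegral K (j x i) := Algebra.IsIntegral.isIntegral _
    have hlift : minpoly K (j x i) ∈ Polynomial.lifts (algebraMap A K) :=
      (Polynomial.lifts_iff_coeff_lifts _).mpr fun k =>
        mem_range_of_pair A K ha hb _ (hcoeff a ha hfa k) (hcoeff b hb0 hfb k)
    obtain ⟨P, hP, -, hm⟩ := Polynomial.lifts_and_degree_eq_and_monic hlift (minpoly.monic hK)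
    refine ⟨P, hm, ?_⟩
    rw [← Polynomial.aeval_def, ← Polynomial.aeval_map_algebraMap K, hP, minpoly.aeval]
  let T : B →ₗ[A] Π i, integralClosure A (Li i) :=
    LinearMap.pi fun i => ((LinearMap.proj i).comp j.toLinearMap).codRestrict
      (Subalgebra.toSubmodule (integralClosure A (Li i))) (fun x => hint x i)
  have hT : Function.Injective T := fun x y h =>
    hj (funext fun i => congrArg Subtype.val (congrFun h i))
  exact Module.Finite.of_injective T hT

end Algebra

section Scheme

variable {A : Type u} [CommRing A] [IsDomain A] [IsNoetherianRing A] [IsLocalRing A]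

theorem isIso_appTop_ι (hA : (2 : ℕ∞) ≤ LocCoh.depth A A) :
    IsIso (FEt.puncturedSpec A).ι.appTop := by
  have := FEt.DepthTwo.isIso_restriction_punctured hA (𝟙 (Spec (CommRingCat.of A)))
  have : IsIso ((Spec (CommRingCat.of A)).presheaf.map
      (homOfLE (le_top : FEt.puncturedSpec A ≤ ⊤)).op) := this
  have h : (FEt.puncturedSpec A).ι.appTop ≫ (FEt.puncturedSpec A).topIso.hom =
      (Spec (CommRingCat.of A)).presheaf.map
        (homOfLE (le_top : FEt.puncturedSpec A ≤ ⊤)).op := by
    rw [Scheme.Opens.ι_appTop, Scheme.Opens.topIso_hom]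
    exact ((Spec (CommRingCat.of A)).presheaf.map_comp _ _).symm
  exact IsIso.of_isIso_fac_right h

theorem isPullback_sections (hA : (2 : ℕ∞) ≤ LocCoh.depth A A) {V : Scheme.{u}}
    (p : V ⟶ (FEt.puncturedSpec A : Scheme.{u})) [IsAffineHom p] :
    IsPullback p V.toSpecΓ (FEt.puncturedSpec A).ι
      (Spec.map ((Scheme.ΓSpecIso (CommRingCat.of A)).inv ≫ (p ≫ (FEt.puncturedSpec A).ι).appTop)) := by
  let U := FEt.puncturedSpec A
  have := isIso_appTop_ι hA
  have : TopologicalSpace.NoetherianSpace (Spec (CommRingCat.of A)) :=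
    inferInstanceAs (TopologicalSpace.NoetherianSpace (PrimeSpectrum A))
  have : CompactSpace (U : Scheme.{u}) :=
    isCompact_iff_compactSpace.mp (TopologicalSpace.NoetherianSpace.isCompact _)
  have : (U : Scheme.{u}).IsQuasiAffine := Scheme.IsQuasiAffine.of_isImmersion U.ι
  let a : CommRingCat.of A ⟶ Γ((U : Scheme.{u}), ⊤) :=
    (Scheme.ΓSpecIso (CommRingCat.of A)).inv ≫ U.ι.appTop
  have ha : IsIso a := inferInstanceAs (IsIso (_ ≫ _))
  refine (Scheme.isPullback_toSpecΓ_toSpecΓ p).of_iso (Iso.refl _) (Iso.refl _) (Iso.refl _)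
    (asIso (Spec.map a)) (by simp) (by simp) ?_ ?_
  · simp only [Iso.refl_hom, Category.id_comp, asIso_hom, a, Spec.map_comp,
      Scheme.toSpecΓ_naturality_assoc, toSpecΓ_SpecMap_ΓSpecIso_inv]
    rw [← Scheme.toSpecΓ_naturality_assoc, toSpecΓ_SpecMap_ΓSpecIso_inv, Category.comp_id]
  · simp only [Iso.refl_hom, Category.id_comp, asIso_hom, a, ← Spec.map_comp,
      Scheme.Hom.comp_appTop, Category.assoc]
    rfl

theorem finite_etale_away (hA : (2 : ℕ∞) ≤ LocCoh.depth A A) {V : Scheme.{u}}
    (p : V ⟶ (FEt.puncturedSpec A : Scheme.{u})) [IsFinite p] [Etale p]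
    (B : Type u) [CommRing B] [Algebra A B] (e : Γ(V, ⊤) ≅ CommRingCat.of B)
    (he : CommRingCat.ofHom (algebraMap A B) =
      (Scheme.ΓSpecIso (CommRingCat.of A)).inv ≫ (p ≫ (FEt.puncturedSpec A).ι).appTop ≫ e.hom)
    {f : A} (hf : f ∈ IsLocalRing.maximalIdeal A) :
    Module.Finite (Localization.Away f) (Localization.Away f ⊗[A] B) ∧
      Algebra.Etale (Localization.Away f) (Localization.Away f ⊗[A] B) := by
  let S := Localization.Away f
  let U := FEt.puncturedSpec A
  let j : Spec (CommRingCat.of S) ⟶ Spec (CommRingCat.of A) :=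
    Spec.map (CommRingCat.ofHom (algebraMap A S))
  have hrange : Set.range j.base ⊆ Set.range U.ι.base := by
    rw [Scheme.Opens.range_ι]
    rintro _ ⟨q, rfl⟩ hq
    have : PrimeSpectrum.comap (algebraMap A S) q ∈ (PrimeSpectrum.basicOpen f : Set _) := by
      rw [← PrimeSpectrum.localization_away_comap_range S f]; exact ⟨q, rfl⟩
    exact this ((congrArg PrimeSpectrum.asIdeal hq).ge hf)
  let l := IsOpenImmersion.lift U.ι j hrange
  have hl : l ≫ U.ι = j := IsOpenImmersion.lift_fac _ _ _
  have h1 : IsPullback p (V.toSpecΓ ≫ Spec.map e.inv) U.ι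
      (Spec.map (CommRingCat.ofHom (algebraMap A B))) := by
    refine (isPullback_sections hA p).of_iso (Iso.refl _) (Iso.refl _)
      (asIso (Spec.map e.inv)) (Iso.refl _) (by simp) (by simp) (by simp [U]) ?_
    simp [he, ← Spec.map_comp]
  have h2 := isPullback_SpecMap_of_isPushout _ _ _ _
    (CommRingCat.isPushout_tensorProduct A S B)
  obtain ⟨m, hm1, hm2⟩ : ∃ m : Spec (CommRingCat.of (S ⊗[A] B)) ⟶ V,
      m ≫ p = Spec.map _ ≫ l ∧ m ≫ V.toSpecΓ ≫ Spec.map e.inv = _ :=
    ⟨h1.lift _ _ (by rw [Category.assoc, hl]; exact h2.w), h1.lift_fst _ _ _, h1.lift_snd _ _ _⟩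
  have h3 : IsPullback (Spec.map (CommRingCat.ofHom
      (Algebra.TensorProduct.includeLeftRingHom (R := A) (A := S) (B := B)))) m l p := by
    refine IsPullback.of_bot ?_ hm1.symm h1
    rw [hm2, hl]
    exact h2
  constructor
  · have := MorphismProperty.of_isPullback (P := @IsFinite) h3.flip ‹_›
    rw [IsFinite.SpecMap_iff] at this
    exact RingHom.finite_algebraMap.mp this
  · have := MorphismProperty.of_isPullback (P := @Etale) h3.flip ‹_›
    rw [HasRingHomProperty.Spec_iff (P := @Etale)] at this
    exact RingHom.etale_algebraMap.mp this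

end Scheme

end Groth.Agent.H80.PuncturedExt
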