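import Groth.Agent.Lib.Ferrand.CartesianRing
import Mathlib.RingTheory.Etale.Basic
import Mathlib.RingTheory.Smooth.Flat
import Mathlib.RingTheory.Kaehler.TensorProduct
import Mathlib.RingTheory.LocalRing.Module
import Mathlib.RingTheory.Flat.EquationalCriterion
import Mathlib.RingTheory.Finiteness.ModuleFinitePresentation
import Mathlib.RingTheory.RingHom.Etale

/-!
# Patching finite etale algebras along Ferrand squares
-/

universe u

open CategoryTheory TensorProduct Groth.Agent.Lib.Ferrand

namespace Groth.Agent.H80.MilnorPatch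

variable {R B A' A R₁ B₁ A₁' A₁ : CommRingCat.{u}}
  {r : R ⟶ B} {s : R ⟶ A'} {q : B ⟶ A} {p : A' ⟶ A}
  {r₁ : R₁ ⟶ B₁} {s₁ : R₁ ⟶ A₁'} {q₁ : B₁ ⟶ A₁} {p₁ : A₁' ⟶ A₁}
  {κ : R ⟶ R₁} {δ : B ⟶ B₁} {γ : A' ⟶ A₁'} {ε : A ⟶ A₁}

variable (h : IsCartMap r s q p r₁ s₁ q₁ p₁ κ δ γ ε)
include h

theorem wr' (x : R) : r₁.hom (κ.hom x) = δ.hom (r.hom x) := congr($(h.wr) x)

theorem ws' (x : R) : s₁.hom (κ.hom x) = γ.hom (s.hom x) := congr($(h.ws) x)

theorem wq (b : B) : q₁.hom (δ.hom b) = ε.hom (q.hom b) := congr($(h.right.w) b).symm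

theorem wp (a : A') : p₁.hom (γ.hom a) = ε.hom (p.hom a) := congr($(h.bot.w) a).symm

/-- Generators common to both sides. -/
theorem exists_gens (hδ : δ.hom.Finite) (hγ : γ.hom.Finite) :
    ∃ (N : ℕ) (xs : Fin N → R₁),
      (∀ d : B₁, ∃ b : Fin N → B, ∑ k, δ.hom (b k) * r₁.hom (xs k) = d) ∧
      ∀ c : A₁', ∃ a : Fin N → A', ∑ k, γ.hom (a k) * s₁.hom (xs k) = c := by
  classical
  letI := δ.hom.toAlgebra
  letI := γ.hom.toAlgebra
  have : Module.Finite B B₁ := hδ
  have : Module.Finite A' A₁' := hγ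
  have hB : Submodule.span B (Set.range r₁.hom) = ⊤ := by
    rw [h.sq₁.surjective_left.range_eq, Submodule.span_univ]
  have hA : Submodule.span A' (Set.range s₁.hom) = ⊤ := eq_top_iff.mpr fun c _ => h.mem_span c
  obtain ⟨S₁, hS₁, hS₁'⟩ := (Submodule.fg_span_iff_fg_span_finset_subset (Set.range r₁.hom)).mp
    (hB ▸ Module.Finite.fg_top)
  obtain ⟨S₂, hS₂, hS₂'⟩ := (Submodule.fg_span_iff_fg_span_finset_subset (Set.range s₁.hom)).mp
    (hA ▸ Module.Finite.fg_top)
  choose l₁ hl₁ using fun d : S₁ => hS₁ d.2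
  choose l₂ hl₂ using fun d : S₂ => hS₂ d.2
  let T : Finset R₁ := S₁.attach.image l₁ ∪ S₂.attach.image l₂
  let e := T.equivFin
  refine ⟨T.card, fun k => (e.symm k).1, fun d => ?_, fun c => ?_⟩
  · have hd : d ∈ Submodule.span B (Set.range fun k => r₁.hom (e.symm k).1) := by
      refine Submodule.span_mono ?_ ((hB.symm.trans hS₁').le (Submodule.mem_top (x := d)))
      intro z hz
      exact ⟨e ⟨l₁ ⟨z, hz⟩, Finset.mem_union_left _ (Finset.mem_image_of_mem _ (Finset.mem_attach _ _))⟩,
        by simp [hl₁ ⟨z, hz⟩]⟩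
    obtain ⟨b, hb⟩ := (Submodule.mem_span_range_iff_exists_fun B).mp hd
    exact ⟨b, hb⟩
  · have hc : c ∈ Submodule.span A' (Set.range fun k => s₁.hom (e.symm k).1) := by
      refine Submodule.span_mono ?_ ((hA.symm.trans hS₂').le (Submodule.mem_top (x := c)))
      intro z hz
      exact ⟨e ⟨l₂ ⟨z, hz⟩, Finset.mem_union_right _ (Finset.mem_image_of_mem _ (Finset.mem_attach _ _))⟩,
        by simp [hl₂ ⟨z, hz⟩]⟩
    obtain ⟨a, ha⟩ := (Submodule.mem_span_range_iff_exists_fun A').mp hc
    exact ⟨a, ha⟩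

theorem exists_ker_coeffs {N : ℕ} (xs : Fin N → R₁)
    (hA : ∀ c : A₁', ∃ a : Fin N → A', ∑ k, γ.hom (a k) * s₁.hom (xs k) = c)
    (c : A₁') (hc : p₁.hom c = 0) :
    ∃ i : Fin N → A', (∀ k, p.hom (i k) = 0) ∧ ∑ k, γ.hom (i k) * s₁.hom (xs k) = c := by
  have hc' := h.ker_bot (RingHom.mem_ker.mpr hc)
  rw [Ideal.map, Ideal.span] at hc'
  induction hc' using Submodule.span_induction with
  | mem z hz =>
    obtain ⟨i₀, hi₀, rfl⟩ := hz
    obtain ⟨a, ha⟩ := hA 1
    refine ⟨fun k => i₀ * a k, fun k => by rw [map_mul, RingHom.mem_ker.mp hi₀, zero_mul], ?_⟩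
    simp only [map_mul, mul_assoc]
    rw [← Finset.mul_sum, ha, mul_one]
  | zero => exact ⟨0, fun _ => map_zero _, by simp⟩
  | add y z hy hz ihy ihz =>
    have hker : ∀ w, w ∈ Submodule.span A₁' (γ.hom '' (RingHom.ker p.hom : Set A')) → p₁.hom w = 0 := by
      intro w hw
      induction hw using Submodule.span_induction with
      | mem v hv =>
        obtain ⟨v, hv, rfl⟩ := hv
        rw [wp h, RingHom.mem_ker.mp hv, map_zero]
      | zero => exact map_zero _
      | add v w _ _ hv hw => rw [map_add, hv, hw, add_zero]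
      | smul a v _ hv => rw [smul_eq_mul, map_mul, hv, mul_zero]
    obtain ⟨i, hi, hi'⟩ := ihy (hker y hy)
    obtain ⟨j, hj, hj'⟩ := ihz (hker z hz)
    exact ⟨i + j, fun k => by simp [hi k, hj k],
      by simp [add_mul, Finset.sum_add_distrib, hi', hj']⟩
  | smul b z hz ih =>
    have hker : ∀ w, w ∈ Submodule.span A₁' (γ.hom '' (RingHom.ker p.hom : Set A')) → p₁.hom w = 0 := by
      intro w hw
      induction hw using Submodule.span_induction with
      | mem v hv =>
        obtain ⟨v, hv, rfl⟩ := hv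
        rw [wp h, RingHom.mem_ker.mp hv, map_zero]
      | zero => exact map_zero _
      | add v w _ _ hv hw => rw [map_add, hv, hw, add_zero]
      | smul a v _ hv => rw [smul_eq_mul, map_mul, hv, mul_zero]
    obtain ⟨i, hi, hi'⟩ := ih (hker z hz)
    choose a ha using fun k => hA (b * s₁.hom (xs k))
    refine ⟨fun l => ∑ k, i k * a k l, fun l => ?_, ?_⟩
    · rw [map_sum]
      exact Finset.sum_eq_zero fun k _ => by rw [map_mul, hi k, zero_mul]
    · simp only [map_sum, map_mul, Finset.sum_mul, mul_assoc]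
      rw [Finset.sum_comm]
      simp only [← Finset.mul_sum, ha, smul_eq_mul]
      rw [← hi', Finset.mul_sum]
      exact Finset.sum_congr rfl fun k _ => by ring

/-- The algebra of a patched pair of finite projective algebras is finite projective. -/
theorem finite_projective (hδf : δ.hom.Finite) (hγf : γ.hom.Finite)
    (hδp : letI := δ.hom.toAlgebra; Module.Projective B B₁)
    (hγp : letI := γ.hom.toAlgebra; Module.Projective A' A₁') :
    letI := κ.hom.toAlgebra
    Module.Finite R R₁ ∧ Module.Projective R R₁ := by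
  classical
  letI := δ.hom.toAlgebra
  letI := γ.hom.toAlgebra
  letI := κ.hom.toAlgebra
  obtain ⟨N, xs, hB, hA⟩ := exists_gens h hδf hγf
  let π : (Fin N → R) →ₗ[R] R₁ := Fintype.linearCombination R xs
  have hπ : ∀ v, π v = ∑ k, κ.hom (v k) * xs k := fun v => rfl
  have hπsurj : Function.Surjective π := fun m => by
    obtain ⟨b, hb⟩ := hB (r₁.hom m)
    choose v hv using fun k => h.sq.surjective_left (b k)
    have h0 : r₁.hom (m - π v) = 0 := by
      rw [map_sub, hπ, map_sum, sub_eq_zero, ← hb]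
      exact Finset.sum_congr rfl fun k _ => by rw [map_mul, wr' h, hv]
    obtain ⟨i, hi, hi'⟩ := exists_ker_coeffs h xs hA (s₁.hom (m - π v))
      (by rw [← h.sq₁.comm, h0, map_zero])
    choose w hw hw' using fun k => h.sq.exists_of_mem_ker (hi k)
    refine ⟨v + w, ?_⟩
    have hm : π w = m - π v := h.sq₁.ext _ _ (by
      rw [h0, hπ, map_sum]
      exact Finset.sum_eq_zero fun k _ => by rw [map_mul, wr' h, hw, map_zero, zero_mul]) (by
      rw [← hi', hπ, map_sum]
      exact Finset.sum_congr rfl fun k _ => by rw [map_mul, ws' h, hw'])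
    rw [map_add, hm, add_sub_cancel]
  refine ⟨Module.Finite.of_surjective π hπsurj, ?_⟩
  -- the sections
  let πB : (Fin N → B) →ₗ[B] B₁ := Fintype.linearCombination B fun k => r₁.hom (xs k)
  let πA : (Fin N → A') →ₗ[A'] A₁' := Fintype.linearCombination A' fun k => s₁.hom (xs k)
  have hπB : ∀ v, πB v = ∑ k, δ.hom (v k) * r₁.hom (xs k) := fun v => rfl
  have hπA : ∀ v, πA v = ∑ k, γ.hom (v k) * s₁.hom (xs k) := fun v => rfl
  obtain ⟨σB, hσB⟩ := Module.projective_lifting_property πB LinearMap.id fun d => hB d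
  obtain ⟨σ₀, hσ₀⟩ := Module.projective_lifting_property πA LinearMap.id fun c => hA c
  have hσB' : ∀ d, ∑ k, δ.hom (σB d k) * r₁.hom (xs k) = d := fun d => LinearMap.congr_fun hσB d
  have hσ₀' : ∀ c, ∑ k, γ.hom (σ₀ c k) * s₁.hom (xs k) = c := fun c => LinearMap.congr_fun hσ₀ c
  -- the section over `A`
  letI := q.hom.toAlgebra
  obtain ⟨e, he⟩ := exists_equiv h.right
  let L : A ⊗[B] B₁ →ₗ[B] Fin N → A := TensorProduct.lift (LinearMap.mk₂ B
    (fun (a : A) (d : B₁) (k : Fin N) => a * q.hom (σB d k))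
    (fun a a' d => funext fun k => add_mul _ _ _)
    (fun b a d => funext fun k => mul_assoc _ _ _)
    (fun a d d' => funext fun k => by
      change a * q.hom (σB (d + d') k) = _
      rw [map_add, Pi.add_apply, map_add, mul_add]; rfl)
    (fun b a d => funext fun k => by
      change a * q.hom (σB (b • d) k) = q.hom b * (a * q.hom (σB d k))
      rw [map_smul, Pi.smul_apply, smul_eq_mul, map_mul, mul_left_comm]))
  let σA : A₁ → Fin N → A := fun z => L (e.symm z)
  have hσA : ∀ a d k, σA (ε.hom a * q₁.hom d) k = a * q.hom (σB d k) := fun a d k => by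
    simp only [σA]
    rw [← he, RingEquiv.symm_apply_apply]
    rfl
  have hσAadd : ∀ z z', σA (z + z') = σA z + σA z' := fun z z' => by
    simp only [σA, map_add]
  have hσAmul : ∀ a z k, σA (ε.hom a * z) k = a * σA z k := by
    intro a z k
    obtain ⟨t, rfl⟩ := e.surjective z
    induction t using TensorProduct.induction_on with
    | zero =>
      simp only [map_zero, mul_zero, σA]
      simp
    | tmul a' d =>
      erw [he]
      rw [← mul_assoc, ← map_mul, hσA, hσA, mul_assoc]
    | add x y hx hy =>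
      rw [map_add, mul_add, hσAadd, hσAadd, Pi.add_apply, Pi.add_apply, mul_add, hx, hy]
  have hσAsum : ∀ z, ∑ k, ε.hom (σA z k) * q₁.hom (r₁.hom (xs k)) = z := by
    intro z
    obtain ⟨t, rfl⟩ := e.surjective z
    induction t using TensorProduct.induction_on with
    | zero =>
      simp only [map_zero, σA]
      simp
    | tmul a d =>
      erw [he]
      conv_rhs => rw [← hσB' d, map_sum, Finset.mul_sum]
      refine Finset.sum_congr rfl fun k _ => ?_
      rw [hσA, map_mul, map_mul, wq h, mul_assoc]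
    | add x y hx hy =>
      conv_rhs => rw [map_add, ← hx, ← hy, ← Finset.sum_add_distrib]
      refine Finset.sum_congr rfl fun k _ => ?_
      rw [map_add, hσAadd, Pi.add_apply, map_add, add_mul]
  -- the correction
  letI := p.hom.toAlgebra
  let F : A₁' →ₗ[A'] Fin N → A :=
    { toFun := fun c k => σA (p₁.hom c) k - p.hom (σ₀ c k)
      map_add' := fun c c' => funext fun k => by
        change σA (p₁.hom (c + c')) k - p.hom (σ₀ (c + c') k) = _
        rw [map_add, hσAadd, map_add, Pi.add_apply, Pi.add_apply, map_add]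
        change _ = (σA (p₁.hom c) k - _) + (σA (p₁.hom c') k - _)
        ring
      map_smul' := fun a c => funext fun k => by
        change σA (p₁.hom (γ.hom a * c)) k - p.hom (σ₀ (a • c) k) = p.hom a * _
        rw [map_mul, wp h, hσAmul, map_smul, Pi.smul_apply, smul_eq_mul, map_mul, ← mul_sub] }
  let pN : (Fin N → A') →ₗ[A'] Fin N → A := (Algebra.linearMap A' A).compLeft (Fin N)
  let ρ : LinearMap.ker πA →ₗ[A'] Fin N → A := pN ∘ₗ (LinearMap.ker πA).subtype
  have hF : ∀ c, F c ∈ LinearMap.range ρ := fun c => by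
    choose v hv using fun k => h.sq.surj (F c k)
    have h0 : p₁.hom (πA v) = 0 := by
      rw [hπA, map_sum]
      calc ∑ k, p₁.hom (γ.hom (v k) * s₁.hom (xs k))
          = ∑ k, (ε.hom (σA (p₁.hom c) k) * q₁.hom (r₁.hom (xs k)) -
              p₁.hom (γ.hom (σ₀ c k) * s₁.hom (xs k))) := Finset.sum_congr rfl fun k _ => by
            rw [map_mul, map_mul, wp h, wp h, hv, h.sq₁.comm]
            change ε.hom (σA (p₁.hom c) k - p.hom (σ₀ c k)) * _ = _
            rw [map_sub, sub_mul]
        _ = 0 := by rw [Finset.sum_sub_distrib, hσAsum, ← map_sum, hσ₀', sub_self]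
    obtain ⟨i, hi, hi'⟩ := exists_ker_coeffs h xs hA _ h0
    refine ⟨⟨v - i, ?_⟩, funext fun k => ?_⟩
    · rw [LinearMap.mem_ker, map_sub, hπA i, hi', sub_self]
    · change p.hom ((v - i) k) = _
      rw [Pi.sub_apply, map_sub, hi, sub_zero, hv]
  obtain ⟨τ, hτ⟩ := Module.projective_lifting_property ρ.rangeRestrict
    (F.codRestrict _ hF) ρ.surjective_rangeRestrict
  let σ' : A₁' →ₗ[A'] Fin N → A' := σ₀ + (LinearMap.ker πA).subtype ∘ₗ τ
  have hσ'A : ∀ c, πA (σ' c) = c := fun c => by
    change πA (σ₀ c + (τ c : Fin N → A')) = c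
    rw [map_add, LinearMap.mem_ker.mp (τ c).2, add_zero]
    exact hσ₀' c
  have hτ' : ∀ c k, p.hom ((τ c : Fin N → A') k) = σA (p₁.hom c) k - p.hom (σ₀ c k) := fun c k =>
    congrFun (congrArg Subtype.val (LinearMap.congr_fun hτ c)) k
  have hcompat : ∀ m k, q.hom (σB (r₁.hom m) k) = p.hom (σ' (s₁.hom m) k) := fun m k => by
    change _ = p.hom (σ₀ (s₁.hom m) k + (τ (s₁.hom m) : Fin N → A') k)
    rw [map_add, hτ', add_sub_cancel, ← h.sq₁.comm]
    have := hσA 1 (r₁.hom m) k
    rw [map_one, one_mul, one_mul] at this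
    exact this.symm
  choose S hSr hSs using fun m k => h.sq.lift _ _ (hcompat m k)
  let SL : R₁ →ₗ[R] Fin N → R :=
    { toFun := S
      map_add' := fun m m' => funext fun k => h.sq.ext _ _
        (by rw [Pi.add_apply, map_add, hSr, hSr, hSr, map_add, map_add, Pi.add_apply])
        (by rw [Pi.add_apply, map_add, hSs, hSs, hSs, map_add, map_add, Pi.add_apply])
      map_smul' := fun x m => funext fun k => h.sq.ext _ _
        (by
          change r.hom (S (κ.hom x * m) k) = r.hom (x * S m k)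
          rw [map_mul, hSr, hSr, map_mul, wr' h]
          exact congrFun (map_smul σB (r.hom x) (r₁.hom m)) k)
        (by
          change s.hom (S (κ.hom x * m) k) = s.hom (x * S m k)
          rw [map_mul, hSs, hSs, map_mul, ws' h]
          exact congrFun (map_smul σ' (s.hom x) (s₁.hom m)) k) }
  refine Module.Projective.of_split SL π (LinearMap.ext fun m => h.sq₁.ext _ _ ?_ ?_)
  · change r₁.hom (π (S m)) = r₁.hom m
    rw [hπ, map_sum]
    conv_rhs => rw [← hσB' (r₁.hom m)]
    exact Finset.sum_congr rfl fun k _ => by rw [map_mul, wr' h, hSr]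
  · change s₁.hom (π (S m)) = s₁.hom m
    rw [hπ, map_sum]
    conv_rhs => rw [← hσ'A (s₁.hom m), hπA]
    exact Finset.sum_congr rfl fun k _ => by rw [map_mul, ws' h, hSs]

/-- The patched algebra of finite etale algebras is finite etale. -/
theorem finite_etale (hδf : δ.hom.Finite) (hγf : γ.hom.Finite) (hδ : δ.hom.Etale)
    (hγ : γ.hom.Etale) : κ.hom.Finite ∧ κ.hom.Etale := by
  letI := δ.hom.toAlgebra
  letI := γ.hom.toAlgebra
  have : Algebra.Etale B B₁ := hδ
  have : Algebra.Etale A' A₁' := hγ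
  have : Module.Finite B B₁ := hδf
  have : Module.Finite A' A₁' := hγf
  have := Module.FinitePresentation.of_finite_of_finitePresentation (R := B) (S := B₁)
  have := Module.FinitePresentation.of_finite_of_finitePresentation (R := A') (S := A₁')
  have hBp : Module.Projective B B₁ := Module.Flat.projective_of_finitePresentation
  have hAp : Module.Projective A' A₁' := Module.Flat.projective_of_finitePresentation
  obtain ⟨hfin, hproj⟩ := finite_projective h hδf hγf hBp hAp
  letI := κ.hom.toAlgebra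
  refine ⟨hfin, ?_⟩
  have : Module.FinitePresentation R R₁ := Module.finitePresentation_of_projective R R₁
  have : Algebra.FinitePresentation R R₁ := inferInstance
  suffices hΩ : Subsingleton (Ω[R₁⁄R]) by
    have : Algebra.FormallyUnramified R R₁ := ⟨hΩ⟩
    have : Algebra.Unramified R R₁ := ⟨inferInstance, inferInstance⟩
    change Algebra.Etale R R₁
    exact Algebra.Etale.of_formallyUnramified_of_flat
  have : Module.Finite R (Ω[R₁⁄R]) := Module.Finite.trans R₁ _
  rw [← Module.support_eq_empty_iff (R := R)]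
  refine Set.eq_empty_of_forall_notMem fun P hP => ?_
  rw [Module.mem_support_iff_nontrivial_residueField_tensorProduct] at hP
  have key : ∀ (S : CommRingCat.{u}) (f : R ⟶ S) (S₁ : CommRingCat.{u}) (g : S ⟶ S₁)
      (f₁ : R₁ ⟶ S₁), IsPushout f κ g f₁ → g.hom.Etale →
      ∀ Q : PrimeSpectrum S, PrimeSpectrum.comap f.hom Q = P → False := by
    intro S f S₁ g f₁ hpo hg Q hQ
    letI := f.hom.toAlgebra
    letI := g.hom.toAlgebra
    letI := f₁.hom.toAlgebra
    letI := (f ≫ g).hom.toAlgebra
    have : IsScalarTower R S S₁ := .of_algebraMap_eq fun _ => rfl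
    have : IsScalarTower R R₁ S₁ := .of_algebraMap_eq fun x => congr($(hpo.w) x)
    have : Algebra.IsPushout R S R₁ S₁ := CommRingCat.isPushout_iff_isPushout.mp hpo
    have : Algebra.Etale S S₁ := hg
    have h0 : Subsingleton (S ⊗[R] Ω[R₁⁄R]) :=
      (KaehlerDifferential.tensorKaehlerEquivBase R S R₁ S₁).toEquiv.subsingleton
    subst hQ
    let K := Q.asIdeal.ResidueField
    let k := (PrimeSpectrum.comap f.hom Q).asIdeal.ResidueField
    letI : Algebra k K := (Ideal.ResidueField.map (PrimeSpectrum.comap f.hom Q).asIdeal Q.asIdeal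
      f.hom rfl).toAlgebra
    have : IsScalarTower R k K := .of_algebraMap_eq fun x =>
      (IsScalarTower.algebraMap_apply R S K x).trans (Ideal.ResidueField.map_algebraMap (PrimeSpectrum.comap f.hom Q).asIdeal Q.asIdeal f.hom rfl x).symm
    have hK : Subsingleton (K ⊗[R] Ω[R₁⁄R]) :=
      (AlgebraTensorModule.cancelBaseChange R S S K (Ω[R₁⁄R])).toEquiv.symm.subsingleton
    have hk : Subsingleton (K ⊗[k] (k ⊗[R] Ω[R₁⁄R])) :=
      (AlgebraTensorModule.cancelBaseChange R k k K (Ω[R₁⁄R])).toEquiv.subsingleton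
    exact not_subsingleton (K ⊗[k] (k ⊗[R] Ω[R₁⁄R])) hk
  rcases h.sq.comap_surjective P with ⟨Q, hQ⟩ | ⟨Q, hQ⟩
  · exact key B r B₁ δ r₁ h.isPushout_left hδ Q hQ
  · exact key A' s A₁' γ s₁ h.isPushout_top hγ Q hQ

end Groth.Agent.H80.MilnorPatch
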