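import Mathlib.Topology.Algebra.ClopenNhdofOne
import Mathlib.Topology.Algebra.OpenSubgroup
import Mathlib.GroupTheory.Index
import Mathlib.GroupTheory.QuotientGroup.Finite

/-!
# Elementary facts on profinite groups
-/

universe u v

namespace Groth.Agent.H80.Profinite

variable {G : Type u} [Group G] [TopologicalSpace G] [IsTopologicalGroup G] [CompactSpace G]
  [TotallyDisconnectedSpace G]

/-- An element outside a closed subgroup is missed by some open subgroup containing it. -/
theorem exists_open_ge_not_mem {H : Subgroup G} (hH : IsClosed (H : Set G)) {g : G} (hg : g ∉ H) :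
    ∃ U : OpenSubgroup G, H ≤ U.toSubgroup ∧ g ∉ U := by
  have h := ProfiniteGrp.closedSubgroup_eq_sInf_open (⟨H, hH⟩ : ClosedSubgroup G)
  by_contra! hc
  apply hg
  change g ∈ (⟨H, hH⟩ : ClosedSubgroup G).toSubgroup
  rw [h, Subgroup.mem_sInf]
  rintro N ⟨hN, hle⟩
  exact hc ⟨N, hN⟩ hle

theorem le_of_forall_open {K H : Subgroup G} (hH : IsClosed (H : Set G))
    (h : ∀ U : OpenSubgroup G, H ≤ U.toSubgroup → K ≤ U.toSubgroup) : K ≤ H := by
  intro g hg
  by_contra hgH
  obtain ⟨U, hU, hgU⟩ := exists_open_ge_not_mem hH hgH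
  exact hgU (h U hU hg)

theorem eq_top_of_forall_open {H : Subgroup G} (hH : IsClosed (H : Set G))
    (h : ∀ U : OpenSubgroup G, H ≤ U.toSubgroup → U.toSubgroup = ⊤) : H = ⊤ :=
  top_le_iff.mp <| le_of_forall_open hH fun U hU => (h U hU).ge

theorem eq_one_of_forall_open {g : G} (h : ∀ U : OpenNormalSubgroup G, g ∈ U.toSubgroup) :
    g = 1 := by
  by_contra hg
  obtain ⟨N, hN⟩ := ProfiniteGrp.exist_openNormalSubgroup_sub_open_nhds_of_one
    (isOpen_compl_singleton (x := g)) (by simpa using Ne.symm hg)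
  exact hN (h N) rfl

/-- A continuous homomorphism from a compact group pulls some open subgroup back into any given
open subgroup containing the kernel. -/
theorem exists_open_comap_le {G' : Type v} [Group G'] [TopologicalSpace G'] [IsTopologicalGroup G']
    [CompactSpace G'] (f : G' →* G) (hf : Continuous f) (V : OpenSubgroup G')
    (hV : f.ker ≤ V.toSubgroup) :
    ∃ U : OpenNormalSubgroup G, U.toSubgroup.comap f ≤ V.toSubgroup := by
  have hcl : IsCompact ((V : Set G')ᶜ) := V.isOpen.isClosed_compl.isCompact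
  have h0 : (1 : G) ∉ f '' (V : Set G')ᶜ := by
    rintro ⟨x, hx, h1⟩
    exact hx (hV h1)
  obtain ⟨N, hN⟩ := ProfiniteGrp.exist_openNormalSubgroup_sub_open_nhds_of_one
    ((hcl.image hf).isClosed.isOpen_compl) h0
  refine ⟨N, fun x hx => ?_⟩
  by_contra hxV
  exact hN hx ⟨x, hxV, rfl⟩

end Groth.Agent.H80.Profinite
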