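import Mathlib.CategoryTheory.Galois.Equivalence
import Mathlib.CategoryTheory.Galois.IsFundamentalgroup
import Groth.Prelude.Def_Pi1X
import Groth.Agent.H80.Profinite

/-!
# Complements on Galois categories: fixed points, sections, stabilisers, functoriality
-/

universe u v w u₁ v₁

open CategoryTheory CategoryTheory.Limits CategoryTheory.PreGaloisCategory

namespace Groth.Agent.H80.Galois

section Single

variable {C : Type u} [Category.{v} C] [GaloisCategory C] (F : C ⥤ FintypeCat.{w}) [FiberFunctor F]

theorem subsingleton_fiber_terminal : Subsingleton (F.obj (⊤_ C)) := by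
  let h : IsTerminal (F.obj (⊤_ C)) := IsTerminal.isTerminalObj F _ terminalIsTerminal
  refine ⟨fun x y => ?_⟩
  let P := FintypeCat.of PUnit.{w + 1}
  have := h.hom_ext (FintypeCat.homMk fun _ : P => x) (FintypeCat.homMk fun _ : P => y)
  exact ConcreteCategory.congr_hom this (PUnit.unit : P)

theorem nonempty_fiber_terminal : Nonempty (F.obj (⊤_ C)) := by
  let h : IsTerminal (F.obj (⊤_ C)) := IsTerminal.isTerminalObj F _ terminalIsTerminal
  exact ⟨h.from (FintypeCat.of PUnit.{w + 1}) PUnit.unit⟩

theorem terminal_fixed (σ : Aut F) (t : F.obj (⊤_ C)) : σ • t = t :=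
  (subsingleton_fiber_terminal F).elim _ _

/-- Equivariant maps of fibres come from morphisms. -/
theorem exists_hom_of_equivariant {X Y : C} (f : F.obj X → F.obj Y)
    (hf : ∀ (σ : Aut F) (x : F.obj X), f (σ • x) = σ • f x) :
    ∃ g : X ⟶ Y, ∀ x, F.map g x = f x := by
  let φ : (functorToAction F).obj X ⟶ (functorToAction F).obj Y :=
    { hom := FintypeCat.homMk f
      comm := fun σ => by
        ext x
        exact hf σ x }
  obtain ⟨g, hg⟩ := (functorToAction F).map_surjective φ
  exact ⟨g, fun x => ConcreteCategory.congr_hom (congrArg Action.Hom.hom hg) x⟩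

omit [GaloisCategory C] [FiberFunctor F] in
theorem map_smul {X Y : C} (g : X ⟶ Y) (σ : Aut F) (x : F.obj X) :
    F.map g (σ • x) = σ • F.map g x :=
  (mulAction_naturality F σ g x).symm

theorem isIso_of_bijective {X Y : C} (g : X ⟶ Y) (h : Function.Bijective (F.map g)) : IsIso g := by
  have : IsIso (F.map g) := by
    have : IsIso (FintypeCat.incl.map (F.map g)) := (CategoryTheory.isIso_iff_bijective _).mpr h
    exact isIso_of_fully_faithful FintypeCat.incl _
  exact isIso_of_reflects_iso g F

/-- Bijective equivariant maps of fibres come from isomorphisms. -/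
theorem exists_iso_of_equivariant {X Y : C} (f : F.obj X → F.obj Y) (hb : Function.Bijective f)
    (hf : ∀ (σ : Aut F) (x : F.obj X), f (σ • x) = σ • f x) :
    Nonempty (X ≅ Y) := by
  obtain ⟨g, hg⟩ := exists_hom_of_equivariant F f hf
  have : IsIso g := isIso_of_bijective F g (by
    convert hb
    exact funext hg)
  exact ⟨asIso g⟩

theorem fixed_iff_exists_section {X : C} (a : F.obj X) :
    (∀ σ : Aut F, σ • a = a) ↔ ∃ s : ⊤_ C ⟶ X, ∀ t : F.obj (⊤_ C), F.map s t = a := by
  constructor
  · intro h
    obtain ⟨g, hg⟩ := exists_hom_of_equivariant F (fun _ : F.obj (⊤_ C) => a)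
      (fun σ _ => (h σ).symm)
    exact ⟨g, hg⟩
  · rintro ⟨s, hs⟩ σ
    obtain ⟨t⟩ := nonempty_fiber_terminal F
    rw [← hs t, ← map_smul, terminal_fixed]

theorem exists_hom_of_stabilizer_le {X Y : C} [IsConnected X] (a : F.obj X) (b : F.obj Y)
    (h : MulAction.stabilizer (Aut F) a ≤ MulAction.stabilizer (Aut F) b) :
    ∃ g : X ⟶ Y, F.map g a = b := by
  choose σ hσ using fun x : F.obj X => MulAction.exists_smul_eq (Aut F) a x
  have key : ∀ (τ : Aut F) (x : F.obj X), τ • a = x → τ • b = σ x • b := by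
    intro τ x hx
    have : (σ x)⁻¹ * τ ∈ MulAction.stabilizer (Aut F) a := by
      rw [MulAction.mem_stabilizer_iff, mul_smul, hx, inv_smul_eq_iff, hσ]
    have := h this
    rw [MulAction.mem_stabilizer_iff, mul_smul, inv_smul_eq_iff] at this
    exact this
  obtain ⟨g, hg⟩ := exists_hom_of_equivariant F (fun x => σ x • b) (fun τ x => by
    rw [← mul_smul]
    exact (key (τ * σ x) (τ • x) (by rw [mul_smul, hσ x])).symm)
  refine ⟨g, ?_⟩
  rw [hg]
  simpa using (key 1 a (one_smul _ _)).symm

theorem isConnected_of_isPretransitive (X : C) [Nonempty (F.obj X)]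
    [MulAction.IsPretransitive (Aut F) (F.obj X)] : IsConnected X where
  notInitial h := not_initial_of_inhabited F (Classical.arbitrary (F.obj X)) h
  noTrivialComponent Y i _ hY := by
    obtain ⟨y⟩ := (not_initial_iff_fiber_nonempty F Y).mp hY
    refine isIso_of_bijective F i
      ⟨ConcreteCategory.injective_of_mono_of_preservesPullback (F.map i), fun x => ?_⟩
    obtain ⟨σ, hσ⟩ := MulAction.exists_smul_eq (Aut F) (F.map i y) x
    exact ⟨σ • y, by rw [map_smul, hσ]⟩

theorem fixed_of_forall_connected (σ : Aut F)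
    (h : ∀ (X : C), IsConnected X → ∀ x : F.obj X, σ • x = x) : σ = 1 := by
  refine IsFundamentalGroup.non_trivial F σ fun X x => ?_
  obtain ⟨Y, i, y, rfl, hY, _⟩ := fiber_in_connected_component F X x
  rw [← map_smul, h Y hY]

open scoped FintypeCatDiscrete in
/-- Every open subgroup of `Aut F` is the stabiliser of a point in the fibre of a connected object. -/
theorem exists_connected_stabilizer (U : OpenSubgroup (Aut F)) :
    ∃ (X : C) (a : F.obj X), IsConnected X ∧ MulAction.stabilizer (Aut F) a = U.toSubgroup := by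
  have hfin : Finite (Aut F ⧸ U.toSubgroup) := U.toSubgroup.quotient_finite_of_isOpen U.isOpen
  obtain ⟨V, ⟨e⟩⟩ : ∃ V : FintypeCat.{w}, Nonempty ((Aut F ⧸ U.toSubgroup) ≃ V) := by
    obtain ⟨n, ⟨e₀⟩⟩ := Finite.exists_equiv_fin (Aut F ⧸ U.toSubgroup)
    exact ⟨FintypeCat.of (ULift.{w} (Fin n)), ⟨e₀.trans Equiv.ulift.symm⟩⟩
  letI : MulAction (Aut F) V :=
    { smul := fun σ x => e (σ • e.symm x)
      one_smul := fun x => by
        change e ((1 : Aut F) • e.symm x) = x
        rw [one_smul, e.apply_symm_apply]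
      mul_smul := fun σ τ x => by
        change e ((σ * τ) • e.symm x) = e (σ • e.symm (e (τ • e.symm x)))
        rw [e.symm_apply_apply, mul_smul] }
  let Y : Action FintypeCat.{w} (Aut F) := Action.FintypeCat.ofMulAction (Aut F) V
  have hY : Action.IsContinuous Y := by
    rw [Action.isContinuous_def]
    change Continuous fun p : Aut F × V => p.1 • p.2
    refine continuous_prod_of_discrete_right.mpr fun x => ?_
    change Continuous (fun σ : Aut F => σ • x)
    refine IsLocallyConstant.continuous (IsLocallyConstant.iff_isOpen_fiber.mpr fun y => ?_)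
    obtain ⟨τ, hτ⟩ := QuotientGroup.mk_surjective (e.symm x)
    have hrw : (fun σ : Aut F => e (σ • e.symm x)) ⁻¹' {y} =
        (fun σ : Aut F => σ * τ) ⁻¹' (QuotientGroup.mk ⁻¹' {e.symm y}) := by
      ext σ
      change e (σ • e.symm x) = y ↔ ((σ * τ : Aut F) : Aut F ⧸ U.toSubgroup) = e.symm y
      rw [← hτ, ← Equiv.eq_symm_apply]
      rfl
    change IsOpen ((fun σ : Aut F => e (σ • e.symm x)) ⁻¹' {y})
    rw [hrw]
    have := QuotientGroup.discreteTopology U.isOpen
    exact ((isOpen_discrete {e.symm y}).preimage QuotientGroup.continuous_mk).preimage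
      (continuous_mul_const τ)
  obtain ⟨X, ⟨i⟩⟩ : ∃ X : C, Nonempty ((functorToAction F).obj X ≅ Y) := by
    let Y' : ContAction FintypeCat.{w} (Aut F) := ⟨Y, hY⟩
    obtain ⟨X, ⟨i⟩⟩ := Functor.EssSurj.mem_essImage (F := functorToContAction F) Y'
    exact ⟨X, ⟨(ObjectProperty.ι _).mapIso i⟩⟩
  let f : F.obj X ≃ V := FintypeCat.equivEquivIso.symm ((Action.forget _ _).mapIso i)
  have hf : ∀ (σ : Aut F) (x : F.obj X), f (σ • x) = σ • f x := fun σ x =>
    ConcreteCategory.congr_hom (i.hom.comm σ) x
  have hsm : ∀ (σ : Aut F) (q : Aut F ⧸ U.toSubgroup), σ • (e q : V) = e (σ • q) := by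
    intro σ q
    change e (σ • e.symm (e q)) = e (σ • q)
    rw [e.symm_apply_apply]
  let a : F.obj X := f.symm (e (1 : Aut F))
  have : Nonempty (F.obj X) := ⟨a⟩
  have : MulAction.IsPretransitive (Aut F) (F.obj X) := by
    refine ⟨fun x y => ?_⟩
    obtain ⟨σ, hσ⟩ := MulAction.exists_smul_eq (Aut F) (e.symm (f x)) (e.symm (f y))
    refine ⟨σ, f.injective ?_⟩
    rw [hf, ← e.apply_symm_apply (f x), hsm, hσ, e.apply_symm_apply]
  refine ⟨X, a, isConnected_of_isPretransitive F X, ?_⟩
  ext σ
  rw [MulAction.mem_stabilizer_iff, ← f.injective.eq_iff, hf, f.apply_symm_apply, hsm,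
    e.apply_eq_iff_eq]
  change ((σ * 1 : Aut F) : Aut F ⧸ U.toSubgroup) = ((1 : Aut F) : Aut F ⧸ U.toSubgroup) ↔ _
  rw [QuotientGroup.eq]
  simp

theorem trivial_action_iff_iso_sigma_terminal (X : C) :
    (∀ (σ : Aut F) (x : F.obj X), σ • x = x) ↔
      ∃ n : ℕ, Nonempty (X ≅ ∐ fun _ : Fin n => ⊤_ C) := by
  constructor
  · intro h
    obtain ⟨n, ⟨e⟩⟩ := Finite.exists_equiv_fin (F.obj X)
    choose s hs using fun i : Fin n => (fixed_iff_exists_section F (e.symm i)).mp (fun σ => h σ _)
    let g : (∐ fun _ : Fin n => ⊤_ C) ⟶ X := Sigma.desc s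
    obtain ⟨t⟩ := nonempty_fiber_terminal F
    have hι : ∀ (i : Fin n) (t : F.obj (⊤_ C)),
        F.map g (F.map (Sigma.ι (fun _ : Fin n => ⊤_ C) i) t) = e.symm i := by
      intro i t
      rw [← FintypeCat.comp_apply, ← F.map_comp, Sigma.ι_desc, hs]
    refine ⟨n, ⟨(@asIso _ _ _ _ g (isIso_of_bijective F g ⟨?_, fun x => ⟨_, (hι (e x) t).trans
      (e.symm_apply_apply x)⟩⟩)).symm⟩⟩
    intro p q hpq
    obtain ⟨⟨i⟩, a, rfl⟩ := FintypeCat.jointly_surjective _ _
      (isColimitOfPreserves F (colimit.isColimit (Discrete.functor fun _ : Fin n => ⊤_ C))) p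
    obtain ⟨⟨j⟩, b, rfl⟩ := FintypeCat.jointly_surjective _ _
      (isColimitOfPreserves F (colimit.isColimit (Discrete.functor fun _ : Fin n => ⊤_ C))) q
    have := (hι i a).symm.trans (hpq.trans (hι j b))
    obtain rfl := e.symm.injective this
    exact congrArg _ ((subsingleton_fiber_terminal F).elim a b)
  · rintro ⟨n, ⟨i⟩⟩ σ x
    have hinj : Function.Injective (F.map i.hom) :=
      ConcreteCategory.injective_of_mono_of_preservesPullback (F.map i.hom)
    apply hinj
    obtain ⟨⟨j⟩, a, ha⟩ := FintypeCat.jointly_surjective _ _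
      (isColimitOfPreserves F (colimit.isColimit (Discrete.functor fun _ : Fin n => ⊤_ C)))
      (F.map i.hom x)
    rw [map_smul, ← ha]
    exact ((map_smul F _ σ a).symm).trans (congrArg _ (terminal_fixed F σ a))

end Single

section Whisker

variable {C C' : Type u} [Category.{v} C] [Category.{v} C'] (H : C ⥤ C') (F' : C' ⥤ FintypeCat.{w})

theorem autWhisker_smul (σ : Aut F') (X : C) (x : (H ⋙ F').obj X) :
    (Pi1X.autWhisker H F' σ) • x = σ • (show F'.obj (H.obj X) from x) := rfl

theorem continuous_autWhisker : Continuous (Pi1X.autWhisker H F') := by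
  rw [(autEmbedding_isClosedEmbedding (H ⋙ F')).isInducing.continuous_iff, continuous_pi_iff]
  intro X
  exact (continuous_apply (H.obj X)).comp (autEmbedding_isClosedEmbedding F').continuous

theorem isClosed_range_autWhisker :
    IsClosed ((Pi1X.autWhisker H F').range : Set (Aut (H ⋙ F'))) := by
  rw [MonoidHom.coe_range]
  exact (isCompact_range (continuous_autWhisker H F')).isClosed

theorem isClosed_ker_autWhisker :
    IsClosed ((Pi1X.autWhisker H F').ker : Set (Aut F')) :=
  isClosed_singleton.preimage (continuous_autWhisker H F')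

theorem range_le_stabilizer_iff {X : C} (a : (H ⋙ F').obj X) :
    (Pi1X.autWhisker H F').range ≤ MulAction.stabilizer (Aut (H ⋙ F')) a ↔
      ∀ σ : Aut F', σ • (show F'.obj (H.obj X) from a) = a := by
  constructor
  · intro h σ
    exact h ⟨σ, rfl⟩
  · rintro h _ ⟨σ, rfl⟩
    exact h σ

variable [GaloisCategory C] [GaloisCategory C'] [FiberFunctor F'] [FiberFunctor (H ⋙ F')]

/-- The kernel criterion: the kernel lies in the stabiliser of `a'` iff a connected subobject of
some `H X` maps to `X'`. -/
theorem ker_le_stabilizer_iff (X' : C') [IsConnected X'] (a' : F'.obj X') :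
    (Pi1X.autWhisker H F').ker ≤ MulAction.stabilizer (Aut F') a' ↔
      ∃ (X : C) (Y' : C') (i : Y' ⟶ H.obj X) (_ : Y' ⟶ X'), Mono i ∧ IsConnected Y' := by
  constructor
  · intro h
    obtain ⟨N, hN⟩ := Profinite.exists_open_comap_le (Pi1X.autWhisker H F')
      (continuous_autWhisker H F') ⟨MulAction.stabilizer (Aut F') a', stabilizer_isOpen _ _⟩ h
    obtain ⟨A, a, -, hst⟩ := exists_connected_stabilizer (H ⋙ F') N.toOpenSubgroup
    obtain ⟨Y', i, y, hy, hY, hi⟩ := fiber_in_connected_component F' (H.obj A) a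
    have hle : MulAction.stabilizer (Aut F') y ≤ MulAction.stabilizer (Aut F') a' := by
      intro σ hσ
      apply hN
      rw [Subgroup.mem_comap]
      change Pi1X.autWhisker H F' σ ∈ N.toOpenSubgroup.toSubgroup
      rw [← hst, MulAction.mem_stabilizer_iff]
      change σ • (show F'.obj (H.obj A) from a) = a
      rw [← hy, ← map_smul, (MulAction.mem_stabilizer_iff.mp hσ)]
    obtain ⟨q, -⟩ := exists_hom_of_stabilizer_le F' y a' hle
    exact ⟨A, Y', i, q, hi, hY⟩
  · rintro ⟨X, Y', i, q, hi, hY⟩ σ hσ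
    obtain ⟨y, hy⟩ := surjective_of_nonempty_fiber_of_isConnected F' q a'
    rw [MulAction.mem_stabilizer_iff, ← hy, ← map_smul]
    congr 1
    apply ConcreteCategory.injective_of_mono_of_preservesPullback (F'.map i)
    rw [map_smul]
    change (Pi1X.autWhisker H F' σ) • (show (H ⋙ F').obj X from F'.map i y) = _
    rw [MonoidHom.mem_ker.mp hσ]
    exact one_smul (Aut (H ⋙ F')) _

end Whisker

section Exact

variable {C : Type u} [Category.{v} C] [GaloisCategory C] {D : Type u₁} [Category.{v} D]
  [GaloisCategory D] (H : C ⥤ D) [PreservesFiniteLimits H] [PreservesFiniteColimits H]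
  (F' : D ⥤ FintypeCat.{w}) [FiberFunctor F']

/-- An exact functor does not kill non-initial objects. -/
theorem nonempty_fiber_comp {X : C} (hX : IsInitial X → False) : Nonempty (F'.obj (H.obj X)) := by
  obtain ⟨x⟩ := (not_initial_iff_fiber_nonempty (GaloisCategory.getFiberFunctor C) X).mp hX
  obtain ⟨Y, i, y, -, hY, -⟩ := fiber_in_connected_component _ X x
  let T := GaloisCategory.getFiberFunctor C
  have hc : IsConnected (⊤_ C) := by
    have := nonempty_fiber_terminal T
    have : MulAction.IsPretransitive (Aut T) (T.obj (⊤_ C)) :=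
      ⟨fun a b => ⟨1, (subsingleton_fiber_terminal T).elim _ _⟩⟩
    exact isConnected_of_isPretransitive T _
  have : Nonempty (T.obj Y) := ⟨y⟩
  have he : Epi (terminal.from Y) := epi_of_nonempty_of_isConnected T _
  obtain ⟨t⟩ := nonempty_fiber_terminal F'
  let t' : F'.obj (H.obj (⊤_ C)) := F'.map (PreservesTerminal.iso H).inv t
  obtain ⟨z, -⟩ := surjective_on_fiber_of_epi F' (H.map (terminal.from Y)) t'
  exact ⟨F'.map (H.map i) z⟩

theorem isInitial_of_isEmpty {X : C} (h : IsEmpty (F'.obj (H.obj X))) : Nonempty (IsInitial X) := by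
  by_contra hX
  exact (nonempty_fiber_comp H F' (fun hi => hX ⟨hi⟩)).elim h.false

include F' in
theorem isIso_of_mono_of_isIso_map {X Y : C} (f : X ⟶ Y) [Mono f] [IsIso (H.map f)] : IsIso f := by
  obtain ⟨Z, u, ⟨c⟩⟩ := PreGaloisCategory.monoInducesIsoOnDirectSummand f
  let G := F'
  have hc : IsColimit (BinaryCofan.mk (H.map f) (H.map u)) :=
    mapIsColimitOfPreservesOfIsColimit H f u c
  have hcard : Nat.card (G.obj (H.obj Y)) = Nat.card (G.obj (H.obj X)) + Nat.card (G.obj (H.obj Z)) := by
    rw [← card_fiber_coprod_eq_sum G]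
    exact card_fiber_eq_of_iso G (colimit.isoColimitCocone ⟨_, hc⟩).symm
  rw [← card_fiber_eq_of_iso G (asIso (H.map f)), Nat.left_eq_add,
    Finite.card_eq_zero_iff] at hcard
  obtain ⟨hZ⟩ := isInitial_of_isEmpty H F' hcard
  let T := GaloisCategory.getFiberFunctor C
  refine isIso_of_mono_of_eq_card_fiber T f ?_
  have h2 : Nat.card (T.obj Y) = Nat.card (T.obj X) + Nat.card (T.obj Z) := by
    rw [← card_fiber_coprod_eq_sum T]
    exact card_fiber_eq_of_iso T (colimit.isoColimitCocone ⟨_, c⟩).symm
  have := (initial_iff_fiber_empty T Z).mp ⟨hZ⟩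
  simpa using h2.symm

include F' in
theorem reflectsIsomorphisms_of_exact : H.ReflectsIsomorphisms := by
  refine ⟨fun {X Y} f hf => ?_⟩
  have : Mono (H.map f) := IsIso.mono_of_iso _
  have : IsIso (H.map (pullback.diagonal f)) := by
    have hfst : IsIso (H.map (pullback.fst f f)) := by
      rw [← PreservesPullback.iso_hom_fst H f f]
      infer_instance
    have : H.map (pullback.diagonal f) ≫ H.map (pullback.fst f f) = 𝟙 _ := by
      rw [← H.map_comp, pullback.diagonal_fst, H.map_id]
    exact ⟨⟨H.map (pullback.fst f f), this, by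
      rw [← cancel_mono (H.map (pullback.fst f f)), Category.assoc, this, Category.id_comp,
        Category.comp_id]⟩⟩
  have : IsIso (pullback.diagonal f) := isIso_of_mono_of_isIso_map H F' (pullback.diagonal f)
  have : Mono f := by
    have := (pullback.diagonal_isKernelPair f)
    have : IsIso (pullback.fst f f) :=
      haveI : IsIso (pullback.diagonal f ≫ pullback.fst f f) := by
        rw [pullback.diagonal_fst]
        infer_instance
      IsIso.of_isIso_comp_left (pullback.diagonal f) (pullback.fst f f)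
    exact IsKernelPair.mono_of_isIso_fst (IsPullback.of_hasPullback f f)
  exact isIso_of_mono_of_isIso_map H F' f

/-- The composite of an exact functor with a fibre functor is a fibre functor. -/
theorem nonempty_fiberFunctor_comp : Nonempty (FiberFunctor (H ⋙ F')) := by
  have := reflectsIsomorphisms_of_exact H F'
  refine ⟨{ preservesQuotientsByFiniteGroups := fun Γ _ _ => ?_, preservesEpis := ?_ }⟩
  · exact Functor.preservesEpimorphisms_comp H F'
  · letI := Fintype.ofFinite Γ
    obtain ⟨Γ', hg, hf, ⟨e⟩⟩ := Finite.exists_type_univ_nonempty_mulEquiv.{v, 0} Γ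
    let : FinCategory (SingleObj Γ') :=
      { fintypeObj := inferInstanceAs (Fintype Unit), fintypeHom := fun _ _ => hf }
    have : PreservesColimitsOfShape (SingleObj Γ) H :=
      preservesColimitsOfShape_of_equiv e.toSingleObjEquiv.symm H
    exact comp_preservesColimitsOfShape H F'

end Exact

end Groth.Agent.H80.Galois
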