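import Mathlib.CategoryTheory.Galois.Decomposition
import Mathlib.CategoryTheory.Limits.Constructions.FiniteProductsOfBinaryProducts
import Mathlib.CategoryTheory.CofilteredSystem
import Mathlib.CategoryTheory.Galois.Prorepresentability
import Groth.Agent.H80.Galois

/-!
# A functor to finite sets with the exactness properties of a fibre functor is one
-/

universe u v w

open CategoryTheory CategoryTheory.Limits CategoryTheory.PreGaloisCategory

namespace Groth.Agent.H80.GaloisUnique

variable {C : Type u} [Category.{v} C] [GaloisCategory C]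

theorem isEmpty_of_isInitial (F' : C ⥤ FintypeCat.{w})
    [PreservesColimitsOfShape (Discrete WalkingPair) F'] {I : C} (hI : IsInitial I) :
    IsEmpty (F'.obj I) := by
  let hc : IsColimit (BinaryCofan.mk (𝟙 I) (𝟙 I)) :=
    BinaryCofan.isColimitMk (fun s => hI.to s.pt) (fun s => hI.hom_ext _ _)
      (fun s => hI.hom_ext _ _) (fun s m _ _ => hI.hom_ext _ _)
  let hc' := mapIsColimitOfPreservesOfIsColimit F' (𝟙 I) (𝟙 I) hc
  refine ⟨fun x => ?_⟩
  let B : FintypeCat.{w} := FintypeCat.of (ULift.{w} Bool)
  obtain ⟨d, hd₁, hd₂⟩ := BinaryCofan.IsColimit.desc' hc'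
    (FintypeCat.homMk (Y := B) fun _ : F'.obj I => ULift.up true)
    (FintypeCat.homMk (Y := B) fun _ : F'.obj I => ULift.up false)
  have := (ConcreteCategory.congr_hom hd₁ x).symm.trans (ConcreteCategory.congr_hom hd₂ x)
  exact Bool.noConfusion (congrArg ULift.down this)

theorem nonempty_natIso (F : C ⥤ FintypeCat.{w}) [FiberFunctor F] (F' : C ⥤ FintypeCat.{w})
    [PreservesFiniteLimits F'] [PreservesColimitsOfShape (Discrete WalkingPair) F']
    (h : ∀ X : C, IsEmpty (F'.obj X) → Nonempty (IsInitial X)) : Nonempty (F' ≅ F) := by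
  have hne : ∀ (X : C), IsConnected X → Nonempty (F'.obj X) := fun X hX => by
    by_contra hc
    obtain ⟨hi⟩ := h X (not_nonempty_iff.mp hc)
    exact hX.notInitial hi
  have : PreservesColimit (Functor.empty.{0} C) F' := by
    let hI := initialIsInitial (C := C)
    have := isEmpty_of_isInitial F' hI
    exact preservesColimit_of_preserves_colimit_cocone hI
      (IsColimit.ofExistsUnique fun s => ⟨FintypeCat.homMk fun x => (this.false x).elim,
        fun j => j.as.elim, fun m _ => FintypeCat.hom_ext _ _ fun x => (this.false x).elim⟩)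
  have : PreservesColimitsOfShape (Discrete PEmpty.{1}) F' :=
    preservesColimitsOfShape_pempty_of_preservesInitial F'
  -- a compatible family of points in `F'` over the pointed Galois objects
  obtain ⟨s₀, hs⟩ : (PointedGaloisObject.incl F ⋙ F' ⋙ FintypeCat.incl).sections.Nonempty := by
    have : IsCofiltered (PointedGaloisObject F) := by
      obtain ⟨A, a, hA, -⟩ := exists_galois_representative F (⊤_ C)
      have : IsCofilteredOrEmpty (PointedGaloisObject F) := by
        refine ⟨fun ⟨A, a, _⟩ ⟨B, b, _⟩ => ?_, fun ⟨A, a, _⟩ ⟨B, b, _⟩ ⟨f, hf⟩ ⟨g, hg⟩ => ?_⟩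
        · obtain ⟨Z, f, z, hgal, hfz⟩ := exists_hom_from_galois_of_fiber F (A ⨯ B)
            ((fiberBinaryProductEquiv F A B).symm (a, b))
          refine ⟨⟨Z, z, hgal⟩, ⟨f ≫ prod.fst, ?_⟩, ⟨f ≫ prod.snd, ?_⟩, trivial⟩ <;>
            simp only [F.map_comp, hfz, FintypeCat.comp_apply,
              fiberBinaryProductEquiv_symm_fst_apply, fiberBinaryProductEquiv_symm_snd_apply]
        · obtain ⟨Z, k, z, hgal, hkz⟩ := exists_hom_from_galois_of_fiber F A a
          refine ⟨⟨Z, z, hgal⟩, ⟨k, hkz⟩, PointedGaloisObject.hom_ext ?_⟩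
          apply evaluation_injective_of_isConnected F Z B z
          change F.map (k ≫ f) z = F.map (k ≫ g) z
          simp only [F.map_comp, FintypeCat.comp_apply, hkz, hf, hg]
      exact { nonempty := ⟨⟨A, a, hA⟩⟩ }
    haveI : ∀ j : PointedGaloisObject F,
        Finite ((PointedGaloisObject.incl F ⋙ F' ⋙ FintypeCat.incl).obj j) := fun j =>
      inferInstanceAs (Finite (F'.obj j.obj))
    haveI : ∀ j : PointedGaloisObject F,
        Nonempty ((PointedGaloisObject.incl F ⋙ F' ⋙ FintypeCat.incl).obj j) := fun j =>
      hne j.obj inferInstance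
    exact nonempty_sections_of_finite_cofiltered_system _
  let s : ∀ A : PointedGaloisObject F, F'.obj A.obj := s₀
  have hcompat : ∀ (A B : PointedGaloisObject F) (φ : A ⟶ B), F'.map φ.val (s A) = s B :=
    fun A B φ => hs φ
  have hwd : ∀ (X : C) (A B : PointedGaloisObject F) (f : A.obj ⟶ X) (g : B.obj ⟶ X),
      F.map f A.pt = F.map g B.pt → F'.map f (s A) = F'.map g (s B) := by
    rintro X ⟨A, a, _⟩ ⟨B, b, _⟩ f g hfg
    obtain ⟨Z, k, z, hgal, hkz⟩ := exists_hom_from_galois_of_fiber F (A ⨯ B)
      ((fiberBinaryProductEquiv F A B).symm (a, b))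
    have h1 : F.map (k ≫ prod.fst) z = a := by
      simp only [F.map_comp, hkz, FintypeCat.comp_apply, fiberBinaryProductEquiv_symm_fst_apply]
    have h2 : F.map (k ≫ prod.snd) z = b := by
      simp only [F.map_comp, hkz, FintypeCat.comp_apply, fiberBinaryProductEquiv_symm_snd_apply]
    rw [← hcompat ⟨Z, z, hgal⟩ ⟨A, a, inferInstance⟩ ⟨k ≫ prod.fst, h1⟩,
      ← hcompat ⟨Z, z, hgal⟩ ⟨B, b, inferInstance⟩ ⟨k ≫ prod.snd, h2⟩,
      ← FintypeCat.comp_apply, ← FintypeCat.comp_apply, ← F'.map_comp, ← F'.map_comp]
    congr 3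
    apply evaluation_injective_of_isConnected F Z X z
    change F.map ((k ≫ prod.fst) ≫ f) z = F.map ((k ≫ prod.snd) ≫ g) z
    rw [F.map_comp (k ≫ prod.fst) f, F.map_comp (k ≫ prod.snd) g, FintypeCat.comp_apply,
      FintypeCat.comp_apply, h1, h2]
    exact hfg
  choose A a hgal hbij using exists_galois_representative F
  let P : C → PointedGaloisObject F := fun X => ⟨A X, a X, hgal X⟩
  choose f hf using fun (X : C) (x : F.obj X) => (hbij X).surjective x
  let η : ∀ X : C, F.obj X → F'.obj X := fun X x => F'.map (f X x) (s (P X))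
  have hη : ∀ (X : C) (B : PointedGaloisObject F) (g : B.obj ⟶ X),
      η X (F.map g B.pt) = F'.map g (s B) := fun X B g =>
    hwd X (P X) B (f X (F.map g B.pt)) g (hf X _)
  have hnat : ∀ {X Y : C} (k : X ⟶ Y) (x : F.obj X), η Y (F.map k x) = F'.map k (η X x) := by
    intro X Y k x
    have := hη Y (P X) (f X x ≫ k)
    simp only [F.map_comp, F'.map_comp, FintypeCat.comp_apply] at this
    rw [show F.map (f X x) (P X).pt = x from hf X x] at this
    exact this
  have hb : ∀ X : C, Function.Bijective (η X) := by
    intro X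
    constructor
    · intro x y hxy
      by_contra hne'
      have hfne : f X x ≠ f X y := fun e => hne' ((hf X x).symm.trans ((congrArg
        (fun g => F.map g (a X)) e).trans (hf X y)))
      have : IsConnected (A X) := (hgal X).toIsConnected
      have hE : Nonempty (IsInitial (equalizer (f X x) (f X y))) := by
        by_contra hE
        have := IsConnected.noTrivialComponent _ (equalizer.ι (f X x) (f X y))
          fun hi => hE ⟨hi⟩
        exact hfne eq_of_epi_equalizer
      obtain ⟨hE⟩ := hE
      have := isEmpty_of_isInitial F' hE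
      let e : F'.obj (equalizer (f X x) (f X y)) ≃
          { z : F'.obj (A X) // F'.map (f X x) z = F'.map (f X y) z } :=
        (PreservesEqualizer.iso (F' ⋙ FintypeCat.incl) (f X x) (f X y) ≪≫
          Types.equalizerIso (F'.map (f X x)).hom (F'.map (f X y)).hom).toEquiv
      exact this.false (e.symm ⟨s (P X), hxy⟩)
    · intro z
      have : IsConnected (A X) := (hgal X).toIsConnected
      let ι := A X ⟶ X
      obtain ⟨n, ⟨e⟩⟩ := Finite.exists_equiv_fin ι
      let m : (∐ fun _ : Fin n => A X) ⟶ A X ⨯ X :=
        Sigma.desc fun i => prod.lift (𝟙 _) (e.symm i)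
      have hm : ∀ (i : Fin n) (p : F.obj (A X)),
          fiberBinaryProductEquiv F (A X) X (F.map m (F.map (Sigma.ι _ i) p)) =
            (p, F.map (e.symm i) p) := by
        intro i p
        apply (fiberBinaryProductEquiv F (A X) X).symm.injective
        rw [Equiv.symm_apply_apply]
        obtain ⟨⟨p', q'⟩, hpq⟩ := (fiberBinaryProductEquiv F (A X) X).symm.surjective
          (F.map m (F.map (Sigma.ι (fun _ : Fin n => A X) i) p))
        have e1 := congrArg (F.map prod.fst) hpq
        have e2 := congrArg (F.map prod.snd) hpq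
        rw [fiberBinaryProductEquiv_symm_fst_apply] at e1
        rw [fiberBinaryProductEquiv_symm_snd_apply] at e2
        rw [← FintypeCat.comp_apply, ← FintypeCat.comp_apply, ← F.map_comp, ← F.map_comp,
          Sigma.ι_desc_assoc] at e1 e2
        rw [prod.lift_fst, F.map_id, FintypeCat.id_apply] at e1
        rw [prod.lift_snd] at e2
        rw [← hpq, e1, e2]
      have hiso : IsIso m := by
        refine Galois.isIso_of_bijective F m ⟨?_, ?_⟩
        · intro P₁ P₂ hP
          obtain ⟨⟨i⟩, p, rfl⟩ := FintypeCat.jointly_surjective _ _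
            (isColimitOfPreserves F (colimit.isColimit (Discrete.functor fun _ : Fin n => A X))) P₁
          obtain ⟨⟨j⟩, q, rfl⟩ := FintypeCat.jointly_surjective _ _
            (isColimitOfPreserves F (colimit.isColimit (Discrete.functor fun _ : Fin n => A X))) P₂
          have := (hm i p).symm.trans ((congrArg _ hP).trans (hm j q))
          obtain ⟨hpq, hij⟩ := Prod.mk.inj this
          subst hpq
          obtain rfl := e.symm.injective
            (evaluation_injective_of_isConnected F (A X) X p hij)
          rfl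
        · intro w
          obtain ⟨⟨p, q⟩, rfl⟩ := (fiberBinaryProductEquiv F (A X) X).symm.surjective w
          have hinj := evaluation_injective_of_isConnected F (A X) X p
          have hcard : Nat.card (A X ⟶ X) = Nat.card (F.obj X) :=
            Nat.card_eq_of_bijective _ (hbij X)
          obtain ⟨g, hg⟩ := ((Nat.bijective_iff_injective_and_card _).mpr ⟨hinj, hcard⟩).surjective q
          refine ⟨F.map (Sigma.ι (fun _ : Fin n => A X) (e g)) p, ?_⟩
          apply (fiberBinaryProductEquiv F (A X) X).injective
          rw [hm, Equiv.apply_symm_apply, Equiv.symm_apply_apply]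
          exact congrArg (fun t => (p, t)) hg
      let b : F'.obj (A X ⨯ X) ≃ F'.obj (A X) × F'.obj X :=
        (PreservesLimitPair.iso (F' ⋙ FintypeCat.incl) (A X) X ≪≫
          Types.binaryProductIso (F'.obj (A X)) (F'.obj X)).toEquiv
      have hb1 : ∀ x y, F'.map prod.fst (b.symm (x, y)) = x ∧ F'.map prod.snd (b.symm (x, y)) = y :=
        fun x y => by
        constructor
        · simp only [b]
          change ((Types.binaryProductIso _ _).inv ≫ _ ≫
            (F' ⋙ FintypeCat.incl).map prod.fst) _ = _
          erw [PreservesLimitPair.iso_inv_fst, Types.binaryProductIso_inv_comp_fst]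
          rfl
        · simp only [b]
          change ((Types.binaryProductIso _ _).inv ≫ _ ≫
            (F' ⋙ FintypeCat.incl).map prod.snd) _ = _
          erw [PreservesLimitPair.iso_inv_snd, Types.binaryProductIso_inv_comp_snd]
          rfl
      have : PreservesColimitsOfShape (Discrete (Fin n)) F' :=
        PreservesFiniteCoproducts.of_preserves_binary_and_initial F' (Fin n)
      let w := b.symm (s (P X), z)
      obtain ⟨v, hv⟩ : ∃ v, F'.map m v = w := ⟨F'.map (inv m) w, by
        rw [← FintypeCat.comp_apply, ← F'.map_comp, IsIso.inv_hom_id, F'.map_id,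
          FintypeCat.id_apply]⟩
      obtain ⟨⟨i⟩, p, rfl⟩ := FintypeCat.jointly_surjective _ _
        (isColimitOfPreserves F' (colimit.isColimit (Discrete.functor fun _ : Fin n => A X))) v
      have h1 := (hb1 (s (P X)) z).1.symm
      have h2 := (hb1 (s (P X)) z).2.symm
      rw [show b.symm (s (P X), z) = _ from hv.symm] at h1 h2
      change s (P X) = F'.map prod.fst (F'.map m (F'.map (Sigma.ι (fun _ : Fin n => A X) i) p)) at h1
      change z = F'.map prod.snd (F'.map m (F'.map (Sigma.ι (fun _ : Fin n => A X) i) p)) at h2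
      rw [← FintypeCat.comp_apply, ← FintypeCat.comp_apply, ← F'.map_comp, ← F'.map_comp,
        Sigma.ι_desc_assoc] at h1 h2
      rw [prod.lift_fst, F'.map_id, FintypeCat.id_apply] at h1
      rw [prod.lift_snd] at h2
      refine ⟨F.map (e.symm i) (a X), ?_⟩
      rw [h2, ← h1]
      exact hη X (P X) (e.symm i)
  exact ⟨(NatIso.ofComponents (fun X => FintypeCat.equivEquivIso (Equiv.ofBijective _ (hb X)))
    (fun k => FintypeCat.hom_ext _ _ fun x => hnat k x)).symm⟩

end Groth.Agent.H80.GaloisUnique
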