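import Groth.Agent.H80.MinResObstruction
import Groth.Agent.S0611

/-!
# Regular sequences and ideals of finite tor dimension quotient
-/

set_option autoImplicit false
set_option linter.style.haveILetI false

universe u

open IsLocalRing RingTheory.Sequence

namespace Groth.Agent.H80.RegularExtend

variable {A : Type u} [CommRing A]

/-- Elements independent modulo `m J` extend to a generating system of the same size. -/
theorem exists_extend [IsLocalRing A] {J : Ideal A} {n : ℕ} (a : Fin n → A)
    (ha : Ideal.span (Set.range a) = J) : ∀ {k : ℕ} (x : Fin k → A), (∀ i, x i ∈ J) →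
    (∀ c : Fin k → A, ∑ i, c i * x i ∈ maximalIdeal A * J → ∀ i, c i ∈ maximalIdeal A) →
    ∃ t : List A, (List.ofFn x ++ t).length = n ∧ Ideal.ofList (List.ofFn x ++ t) = J := by
  classical
  intro k
  induction k with
  | zero =>
    intro x _ _
    refine ⟨List.ofFn a, by simp, ?_⟩
    rw [List.ofFn_zero, List.nil_append, ← ha]
    exact congrArg Ideal.span (Set.ext fun z => by simp [List.mem_ofFn])
  | succ k ih =>
    intro x hxJ hind
    let x' : Fin k → A := fun i => x i.castSucc
    obtain ⟨t, hlen, hgen⟩ := ih x' (fun i => hxJ _) fun c hc i => by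
      have h := hind (Fin.snoc c 0) (by simpa [Fin.sum_univ_castSucc, x'] using hc) i.castSucc
      simpa using h
    -- express the new element
    have hlast := hxJ (Fin.last k)
    rw [← hgen, Ideal.ofList_append] at hlast
    obtain ⟨u, hu, v, hv, huv⟩ := Submodule.mem_sup.mp hlast
    have hu' : u ∈ Ideal.span (Set.range x') := by
      refine (Ideal.span_mono ?_) hu
      intro z hz
      simpa [List.mem_ofFn] using hz
    obtain ⟨c, hc⟩ := Ideal.mem_span_range_iff_exists_fun.mp hu'
    have hv' : v ∈ Ideal.span (Set.range t.get) := by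
      rw [Set.range_list_get]; exact hv
    obtain ⟨d, hd⟩ := Ideal.mem_span_range_iff_exists_fun.mp hv'
    obtain ⟨j, hj⟩ : ∃ j, IsUnit (d j) := by
      by_contra h
      push Not at h
      have hmem : ∑ i, (Fin.snoc (-c) 1 : Fin (k + 1) → A) i * x i ∈ maximalIdeal A * J := by
        rw [Fin.sum_univ_castSucc]
        simp only [Fin.snoc_castSucc, Fin.snoc_last, one_mul, Pi.neg_apply, neg_mul,
          Finset.sum_neg_distrib]
        rw [show -∑ i : Fin k, c i * x i.castSucc + x (Fin.last k) = v by rw [hc, ← huv]; ring, ← hd]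
        refine sum_mem fun i _ => Ideal.mul_mem_mul ((mem_maximalIdeal _).mpr (h i)) ?_
        rw [← hgen, Ideal.ofList_append]
        exact Ideal.mem_sup_right (Ideal.subset_span (List.get_mem t i))
      have := hind _ hmem (Fin.last k)
      rw [Fin.snoc_last, mem_maximalIdeal] at this
      exact this isUnit_one
    refine ⟨t.eraseIdx j, ?_, le_antisymm ?_ ?_⟩
    · simp only [List.length_append, List.length_ofFn] at hlen ⊢
      rw [List.length_eraseIdx_of_lt j.2]
      have := j.2
      omega
    · refine Ideal.span_le.mpr fun z hz => ?_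
      rcases List.mem_append.mp hz with h | h
      · obtain ⟨i, rfl⟩ := List.mem_ofFn.mp h
        exact hxJ i
      · rw [SetLike.mem_coe, ← hgen, Ideal.ofList_append]
        exact Ideal.mem_sup_right (Ideal.subset_span (List.eraseIdx_subset h))
    · set N := Ideal.ofList (List.ofFn x ++ t.eraseIdx j) with hN
      have hxN : ∀ i, x i ∈ N := fun i =>
        Ideal.subset_span (List.mem_append_left _ (List.mem_ofFn.mpr ⟨i, rfl⟩))
      have htN : ∀ i, i ≠ j → t.get i ∈ N := fun i hi => Ideal.subset_span (List.mem_append_right _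
        (List.mem_eraseIdx_iff_getElem.mpr ⟨i, i.2, fun he => hi (Fin.ext he), rfl⟩))
      have hjN : t.get j ∈ N := by
        obtain ⟨w, hw⟩ := hj
        have h1 : (w : A) * t.get j = x (Fin.last k) - u - ∑ i ∈ Finset.univ.erase j, d i * t.get i := by
          rw [← huv, ← hd, ← Finset.add_sum_erase _ _ (Finset.mem_univ j), hw]
          ring
        have h2 : (w : A) * t.get j ∈ N := by
          rw [h1, ← hc]
          exact sub_mem (sub_mem (hxN _) (sum_mem fun i _ => Ideal.mul_mem_left _ _ (hxN i.castSucc)))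
            (sum_mem fun i hi => Ideal.mul_mem_left _ _ (htN i (Finset.mem_erase.mp hi).1))
        simpa using N.mul_mem_left (↑w⁻¹ : A) h2
      rw [← hgen]
      refine Ideal.span_le.mpr fun z hz => ?_
      rcases List.mem_append.mp hz with h | h
      · obtain ⟨i, rfl⟩ := List.mem_ofFn.mp h
        exact hxN i.castSucc
      · obtain ⟨i, rfl⟩ := List.mem_iff_get.mp h
        by_cases hi : i = j
        · exact hi ▸ hjN
        · exact htN i hi

theorem main [IsNoetherianRing A] [IsLocalRing A]
    (I J : Ideal A) (hIJ : I ≤ J) (hJ : J ≠ ⊤) [Algebra (A ⧸ I) (A ⧸ J)]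
    [IsScalarTower A (A ⧸ I) (A ⧸ J)] (hfd : DRing.HasFiniteTorDim (A ⧸ I) (A ⧸ J))
    (hJreg : ∃ rs : List A, Ideal.ofList rs = J ∧ IsRegular A rs) :
    (∃ rs : List A, Ideal.ofList rs = I ∧ IsRegular A rs) ∧
      ∃ rs' : List (A ⧸ I), Ideal.ofList rs' = J.map (Ideal.Quotient.mk I) ∧
        IsRegular (A ⧸ I) rs' := by
  obtain ⟨rs, hrs, hreg⟩ := hJreg
  obtain ⟨k, f, hf, hker⟩ := Lib.Regular.Serre.exists_minimal_cover (R := A) I
  classical
  let x : Fin k → A := fun i => (f (Pi.single i 1) : A)
  have hfx : ∀ c : Fin k → A, (f c : A) = ∑ i, c i * x i := by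
    intro c
    conv_lhs => rw [pi_eq_sum_univ' c]
    simp only [map_sum, map_smul, Submodule.coe_sum, Submodule.coe_smul, smul_eq_mul, x]
  have hxI : Ideal.ofList (List.ofFn x) = I := by
    refine le_antisymm (Ideal.span_le.mpr fun z hz => ?_) fun z hz => ?_
    · obtain ⟨i, rfl⟩ := List.mem_ofFn.mp hz
      exact (f _).2
    · obtain ⟨c, hc⟩ := hf ⟨z, hz⟩
      have : z = ∑ i, c i * x i := by rw [← hfx, hc]
      rw [this]
      exact sum_mem fun i _ => Ideal.mul_mem_left _ _ (Ideal.subset_span (List.mem_ofFn.mpr ⟨i, rfl⟩))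
  have hxmemI : ∀ i, x i ∈ I := fun i => (f _).2
  have hind : ∀ c : Fin k → A, ∑ i, c i * x i ∈ maximalIdeal A * J → ∀ i, c i ∈ maximalIdeal A := by
    intro c hc
    have h1 := MinResObstruction.mem_mul_of_hasFiniteTorDim I J hIJ hJ hfd
      (x := ∑ i, c i * x i) (sum_mem fun i _ => Ideal.mul_mem_left _ _ (hxmemI i)) hc
    have h2 : ∀ z ∈ maximalIdeal A * I, ∃ d : Fin k → A, (∀ i, d i ∈ maximalIdeal A) ∧ (f d : A) = z := by
      intro z hz
      refine Submodule.mul_induction_on hz (fun a ha b hb => ?_) ?_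
      · obtain ⟨e, he⟩ := hf ⟨b, hb⟩
        exact ⟨a • e, fun i => Ideal.mul_mem_right _ _ ha, by rw [map_smul, he]; rfl⟩
      · rintro _ _ ⟨d, hd, rfl⟩ ⟨d', hd', rfl⟩
        exact ⟨d + d', fun i => add_mem (hd i) (hd' i), by rw [map_add]; rfl⟩
    obtain ⟨d, hd, hde⟩ := h2 _ h1
    intro i
    have h3 := hker (c - d) (Subtype.ext (by
      rw [map_sub, Submodule.coe_sub, ZeroMemClass.coe_zero, hde, hfx, sub_self])) i
    have := add_mem h3 (hd i)
    simpa using this
  obtain ⟨t, hlen, hgen⟩ := exists_extend (J := J) rs.get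
    (by rw [Set.range_list_get]; exact hrs) x (fun i => hIJ (hxmemI i)) hind
  set L := List.ofFn x ++ t with hL
  have hLreg : IsRegular A L := by
    have hspan : ∀ (m : ℕ) (g : Fin m → A), Ideal.ofList (List.ofFn g) = Ideal.span (Set.range g) :=
      fun m g => congrArg Ideal.span (Set.ext fun z => by simp [List.mem_ofFn])
    have h := S0611.result rs.get (fun i => L.get (Fin.cast hlen.symm i)) (by rwa [List.ofFn_get]) ?_
    · rwa [← List.ofFn_congr hlen L.get, List.ofFn_get] at h
    · rw [← hspan, ← hspan, List.ofFn_get, ← List.ofFn_congr hlen L.get, List.ofFn_get, hrs, hgen]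
  have hLm : ∀ z ∈ L, z ∈ maximalIdeal A := fun z hz =>
    IsLocalRing.le_maximalIdeal hJ (hgen ▸ Ideal.subset_span hz)
  obtain ⟨h1, h2⟩ := (isWeaklyRegular_append_iff A (List.ofFn x) t).mp hLreg.toIsWeaklyRegular
  refine ⟨⟨List.ofFn x, hxI, IsRegular.of_isWeaklyRegular_of_mem_maximalIdeal A
    (fun z hz => hLm z (List.mem_append_left _ hz)) h1⟩, t.map (Ideal.Quotient.mk I), ?_, ?_⟩
  · rw [← Ideal.map_ofList, ← hgen, Ideal.ofList_append, Ideal.map_sup, hxI,
      Ideal.map_quotient_self, bot_sup_eq]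
  · have hI : I ≠ ⊤ := fun h => hJ (top_le_iff.mp (h ▸ hIJ))
    haveI : Nontrivial (A ⧸ I) := Ideal.Quotient.nontrivial_iff.mpr hI
    haveI : IsLocalRing (A ⧸ I) := IsLocalRing.of_surjective' _ Ideal.Quotient.mk_surjective
    haveI : IsLocalHom (Ideal.Quotient.mk I) := IsLocalHom.of_surjective _ Ideal.Quotient.mk_surjective
    refine IsRegular.of_isWeaklyRegular_of_mem_maximalIdeal _ (fun z hz => ?_) ?_
    · obtain ⟨y, hy, rfl⟩ := List.mem_map.mp hz
      exact map_nonunit (Ideal.Quotient.mk I) y (hLm y (List.mem_append_right _ hy))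
    · have e : (Ideal.ofList (List.ofFn x) • ⊤ : Submodule A A) = I := by
        rw [hxI, smul_eq_mul, Ideal.mul_top]
      rw [(Submodule.quotEquivOfEq _ _ e).isWeaklyRegular_congr t] at h2
      exact (isWeaklyRegular_map_algebraMap_iff (A ⧸ I) (A ⧸ I) t).mpr h2

end Groth.Agent.H80.RegularExtend
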