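import Mathlib.RingTheory.Henselian
import Mathlib.FieldTheory.IsSepClosed
import Mathlib.RingTheory.Polynomial.GaussLemma
import Mathlib.RingTheory.Localization.LocalizationLocalization
import Mathlib.FieldTheory.Separable

/-!
# Normal domains with separably closed fraction field
-/

universe u

open Polynomial IsLocalRing

namespace Groth.Agent.H80.SepClosedNormal

variable {R : Type u} [CommRing R] [IsDomain R] [IsLocalRing R] [IsIntegrallyClosed R]
  (K : Type u) [Field K] [Algebra R K] [IsFractionRing R K] [IsSepClosed K]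

omit [IsLocalRing R] [IsDomain R] in
theorem exists_root_of_separable {G : R[X]} (hG : G.Monic) (hdeg : G.degree ≠ 0)
    (hsep : (G.map (algebraMap R K)).Separable) : ∃ r : R, G.eval r = 0 := by
  obtain ⟨x, hx⟩ := IsSepClosed.exists_root (G.map (algebraMap R K))
    (by rwa [hG.degree_map]) hsep
  have hint : IsIntegral R x := ⟨G, hG, by rwa [IsRoot, eval_map] at hx⟩
  obtain ⟨r, rfl⟩ := (IsIntegrallyClosed.isIntegral_iff (K := K)).mp hint
  refine ⟨r, IsFractionRing.injective R K ?_⟩
  rw [IsRoot, eval_map, eval₂_hom] at hx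
  rw [hx, map_zero]

omit [IsSepClosed K] in
/-- A perturbation of a monic polynomial by a multiple of `X` is separable. -/
theorem exists_separable_add (G : R[X]) (hG : G.Monic) (hG0 : G.coeff 0 ≠ 0)
    (hdeg : 2 ≤ G.natDegree) {c₀ : R} (hc₀ : c₀ ∈ maximalIdeal R) (hne : c₀ ≠ 0) :
    ∃ c ∈ maximalIdeal R, ((G + C c * X).map (algebraMap R K)).Separable := by
  classical
  let L := AlgebraicClosure K
  let f : R →+* L := (algebraMap K L).comp (algebraMap R K)
  have hf : Function.Injective f := (algebraMap K L).injective.comp (IsFractionRing.injective R K)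
  let g : L[X] := G.map f
  let bad : Set L := (fun a => -g.derivative.eval a) '' (g - X * g.derivative).rootSet L
  have hbad : bad.Finite := (rootSet_finite _ _).image _
  have hne0 : g - X * g.derivative ≠ 0 := fun h => hG0 (hf (by
    have := congrArg (fun p => p.coeff 0) h
    simpa [g] using this))
  have hinj : Function.Injective fun k : ℕ => f (c₀ ^ (k + 1)) := fun i j h => by
    have h1 : c₀ ^ (i + 1) = c₀ ^ (j + 1) := hf h
    have := (pow_inj_of_not_isUnit ((mem_maximalIdeal _).mp hc₀) hne).mp h1
    omega
  obtain ⟨_, ⟨k, rfl⟩, hk⟩ := ((Set.infinite_range_of_injective hinj).sdiff hbad).nonempty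
  refine ⟨c₀ ^ (k + 1), Ideal.pow_mem_of_mem _ hc₀ _ k.succ_pos, ?_⟩
  rw [Separable, isCoprime_iff_aeval_ne_zero_of_isAlgClosed K L]
  intro a
  by_contra hh
  push Not at hh
  obtain ⟨h1, h2⟩ := hh
  rw [aeval_def, eval₂_map, eval₂_add, eval₂_mul, eval₂_C, eval₂_X] at h1
  rw [derivative_map, derivative_add, derivative_C_mul_X, aeval_def, eval₂_map, eval₂_add, eval₂_C] at h2
  have hga : g.eval a = G.eval₂ f a := eval_map f a
  have hg'a : g.derivative.eval a = G.derivative.eval₂ f a := by rw [derivative_map, eval_map]
  refine hk ⟨a, ?_, ?_⟩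
  · rw [mem_rootSet_of_ne hne0, coe_aeval_eq_eval, eval_sub, eval_mul, eval_X, hga, hg'a]
    linear_combination h1 - a * h2
  · change -g.derivative.eval a = _
    rw [hg'a]
    linear_combination -h2

omit [IsDomain R] [IsIntegrallyClosed R] in
theorem mem_lifts_residue (g : (ResidueField R)[X]) : g ∈ lifts (residue R) := by
  rw [lifts_iff_coeff_lifts]
  exact fun n => residue_surjective _

include K in
/-- The residue field is algebraically closed. -/
theorem isAlgClosed_residueField (hm : maximalIdeal R ≠ ⊥) : IsAlgClosed (ResidueField R) := by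
  refine IsAlgClosed.of_exists_root _ fun g hg hirr => ?_
  obtain ⟨G, rfl, hdeg, hG⟩ := lifts_and_degree_eq_and_monic
    (f := residue R) (p := g) (mem_lifts_residue g) hg
  by_cases h1 : (G.map (residue R)).natDegree = 1
  · exact Polynomial.exists_root_of_degree_eq_one
      ((degree_eq_iff_natDegree_eq_of_pos one_pos).mpr h1)
  have h2 : 2 ≤ G.natDegree := by
    have := hirr.natDegree_pos
    rw [natDegree_eq_of_degree_eq hdeg] at *
    omega
  have hG0 : G.coeff 0 ≠ 0 := fun h0 => by
    refine h1 (natDegree_eq_of_degree_eq_some ?_)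
    refine degree_eq_one_of_irreducible_of_root hirr (x := 0) ?_
    rw [IsRoot, ← coeff_zero_eq_eval_zero, coeff_map, h0, map_zero]
  obtain ⟨c₀, hc₀, hne⟩ := Submodule.exists_mem_ne_zero_of_ne_bot hm
  obtain ⟨c, hc, hsep⟩ := exists_separable_add K G hG hG0 h2 hc₀ hne
  have hlt : (C c * X).degree < G.degree := by
    rw [degree_eq_natDegree hG.ne_zero]
    exact lt_of_le_of_lt (degree_C_mul_X_le c) (by exact_mod_cast h2)
  obtain ⟨r, hr⟩ := exists_root_of_separable K (hG.add_of_left hlt)
    (by rw [degree_add_eq_left_of_degree_lt hlt, degree_eq_natDegree hG.ne_zero]; exact_mod_cast (by omega : G.natDegree ≠ 0))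
    hsep
  refine ⟨residue R r, ?_⟩
  have hzero : residue R c = 0 := (residue_eq_zero_iff c).mpr hc
  have := congrArg (residue R) hr
  rw [← eval₂_hom, eval₂_add, eval₂_mul, eval₂_C, hzero, zero_mul, add_zero, map_zero] at this
  rwa [eval_map]

include K in
theorem henselian : HenselianLocalRing R where
  is_henselian f hf a₀ h₁ h₂ := by
    induction hd : f.natDegree using Nat.strong_induction_on generalizing f with
    | _ d ih =>
      by_cases hirr : Irreducible (f.map (algebraMap R K))
      · by_cases hsep : (f.map (algebraMap R K)).Separable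
        · have hdeg : (f.map (algebraMap R K)).natDegree = 1 := natDegree_eq_of_degree_eq_some
            (IsSepClosed.degree_eq_one_of_irreducible K hirr hsep)
          rw [hf.natDegree_map] at hdeg
          have hfeq := hf.eq_X_add_C hdeg
          refine ⟨-f.coeff 0, by rw [hfeq]; simp, ?_⟩
          rw [hfeq] at h₁
          simp only [eval_add, eval_X, eval_C] at h₁
          convert neg_mem h₁ using 1
          ring
        · have hd0 : f.derivative = 0 := by
            by_contra hne
            refine hsep ((separable_iff_derivative_ne_zero hirr).mpr ?_)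
            rw [derivative_map, Polynomial.map_ne_zero_iff (IsFractionRing.injective R K)]
            exact hne
          simp [hd0] at h₂
      · have hfdeg : f.natDegree ≠ 0 := fun h0 => by
          obtain rfl := hf.natDegree_eq_zero.mp h0
          exact (mem_maximalIdeal _).mp h₁ (by simp)
        have hne : f.map (algebraMap R K) ≠ 1 := fun e =>
          hfdeg (by rw [← hf.natDegree_map (algebraMap R K), e, natDegree_one])
        obtain ⟨p, q, hp, hq, hpq, hdeg⟩ : ∃ p q : K[X], p.Monic ∧ q.Monic ∧
            p * q = f.map (algebraMap R K) ∧ (p.natDegree ≠ 0 ∧ q.natDegree ≠ 0) := by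
          by_contra hcon
          refine hirr ((hf.map _).irreducible_iff_natDegree.mpr ⟨hne, fun p q hp hq h => ?_⟩)
          by_contra hz
          push Not at hz
          exact hcon ⟨p, q, hp, hq, h, hz⟩
        obtain ⟨p', hp'⟩ := IsIntegrallyClosed.eq_map_mul_C_of_dvd K hf ⟨q, hpq.symm⟩
        obtain ⟨q', hq'⟩ := IsIntegrallyClosed.eq_map_mul_C_of_dvd K hf ⟨p, by rw [← hpq, mul_comm]⟩
        rw [hp.leadingCoeff, C_1, mul_one] at hp'
        rw [hq.leadingCoeff, C_1, mul_one] at hq'
        have hinj := IsFractionRing.injective R K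
        have hpm : p'.Monic := monic_of_injective hinj (hp'.symm ▸ hp)
        have hqm : q'.Monic := monic_of_injective hinj (hq'.symm ▸ hq)
        have hfe : f = p' * q' := map_injective _ hinj (by rw [Polynomial.map_mul, hp', hq', hpq])
        have hdp : p'.natDegree ≠ 0 := by rw [← hpm.natDegree_map (algebraMap R K), hp']; exact hdeg.1
        have hdq : q'.natDegree ≠ 0 := by rw [← hqm.natDegree_map (algebraMap R K), hq']; exact hdeg.2
        have hdd : d = p'.natDegree + q'.natDegree := by rw [← hd, hfe, hpm.natDegree_mul hqm]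
        rw [hfe, eval_mul] at h₁
        rw [hfe, derivative_mul, eval_add, eval_mul, eval_mul] at h₂
        rcases (maximalIdeal.isMaximal R).isPrime.mem_or_mem h₁ with h | h
        · obtain ⟨a, ha, ha'⟩ := ih _ (by omega) p' hpm h
            (isUnit_of_mul_isUnit_left ((isUnit_or_isUnit_of_isUnit_add h₂).resolve_right
              fun hu => (mem_maximalIdeal _).mp h (isUnit_of_mul_isUnit_left hu))) rfl
          exact ⟨a, by rw [hfe, IsRoot, eval_mul, ha.eq_zero, zero_mul], ha'⟩
        · obtain ⟨a, ha, ha'⟩ := ih _ (by omega) q' hqm h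
            (isUnit_of_mul_isUnit_right ((isUnit_or_isUnit_of_isUnit_add h₂).resolve_left
              fun hu => (mem_maximalIdeal _).mp h (isUnit_of_mul_isUnit_right hu))) rfl
          exact ⟨a, by rw [hfe, IsRoot, eval_mul, ha.eq_zero, mul_zero], ha'⟩

end Groth.Agent.H80.SepClosedNormal
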