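import Groth.Agent.Lib.FEt.TopGen
import Groth.Agent.Lib.FEt.DepthTwo
import Mathlib.AlgebraicGeometry.Morphisms.Proper

/-!
# Generators of the fundamental group by proper descent
-/

universe u

open CategoryTheory CategoryTheory.Limits AlgebraicGeometry TopologicalSpace
open Groth.Agent.Lib.FEt Groth.Agent.Lib.FEt.TopGen

namespace Groth.Agent.H80.DescentGen

theorem isOpen_component (T : Scheme.{u}) [IsLocallyNoetherian T] (x : T) :
    IsOpen (connectedComponent x) :=
  DepthTwo.isOpen_connectedComponent_of_locNoetherian DepthTwo.locNoetherian_scheme x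

/-- Connected components as open subschemes. -/
theorem exists_components (T : Scheme.{u}) [IsLocallyNoetherian T] [CompactSpace T] :
    ∃ (ι : Type u) (_ : Finite ι) (C : ι → T.Opens), (∀ i, IsClosed (C i : Set T)) ∧
      (∀ i, ConnectedSpace (C i : Scheme.{u})) ∧ (∀ x, ∃ i, x ∈ C i) ∧
      ∀ i j x, x ∈ C i → x ∈ C j → i = j := by
  have hfin : (Set.range fun x : T => connectedComponent x).Finite := by
    obtain ⟨t, ht⟩ := isCompact_univ.elim_finite_subcover (fun x : T => connectedComponent x)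
      (isOpen_component T) fun x _ => Set.mem_iUnion.mpr ⟨x, mem_connectedComponent⟩
    refine (t.finite_toSet.image connectedComponent).subset ?_
    rintro _ ⟨x, rfl⟩
    obtain ⟨y, hy, hxy⟩ := Set.mem_iUnion₂.mp (ht (Set.mem_univ x))
    exact ⟨y, hy, connectedComponent_eq hxy⟩
  refine ⟨Set.range fun x : T => connectedComponent x, hfin.to_subtype,
    fun i => ⟨i.1, ?_⟩, fun i => ?_, fun i => ?_, fun x => ⟨⟨_, x, rfl⟩, mem_connectedComponent⟩, ?_⟩
  · obtain ⟨x, hx⟩ := i.2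
    exact hx ▸ isOpen_component T x
  · obtain ⟨x, hx⟩ := i.2
    change IsClosed i.1
    exact hx ▸ isClosed_connectedComponent
  · obtain ⟨x, hx⟩ := i.2
    have h : _root_.IsConnected (i.1 : Set T) := hx ▸ isConnected_connectedComponent
    exact isConnected_iff_connectedSpace.mp h
  · rintro ⟨_, x, rfl⟩ ⟨_, y, rfl⟩ z hzi hzj
    exact Subtype.ext ((connectedComponent_eq hzi).trans (connectedComponent_eq hzj).symm)

/-- Transport of fibres along an equality of geometric points. -/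
noncomputable def congrIso {X : Scheme.{u}} {Ω : Type u} [Field Ω]
    {q q' : Spec (CommRingCat.of Ω) ⟶ X} (h : q = q') : FEt.fiber q ≅ FEt.fiber q' :=
  eqToIso (congrArg FEt.fiber h)

theorem congrIso_apply {X : Scheme.{u}} {Ω : Type u} [Field Ω]
    {q q' : Spec (CommRingCat.of Ω) ⟶ X} (h : q = q') (W : FEt.Cat X) (w : FEt.fiberObj q W) :
    (show FEt.fiberObj q' W from (congrIso h).hom.app W w).1 = w.1 := by
  subst h; rfl

/-- A lift of a geometric point through an open subscheme. -/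
theorem exists_lift_opens {T : Scheme.{u}} (U : T.Opens) {K : Type u} [Field K]
    (x : Spec (CommRingCat.of K) ⟶ T) (h : Fiber.point x ∈ U) :
    ∃ y : Spec (CommRingCat.of K) ⟶ (U : Scheme.{u}), y ≫ U.ι = x :=
  ⟨IsOpenImmersion.lift U.ι x (by
    rw [Scheme.Opens.range_ι]
    exact Set.range_subset_iff.mpr fun t => (Fiber.base_eq_point x t).symm ▸ h),
    IsOpenImmersion.lift_fac _ _ _⟩

theorem act_loop {X : Scheme.{u}} {Ω : Type u} [Field Ω] {ξ : Spec (CommRingCat.of Ω) ⟶ X}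
    {Ω' : Type u} [Field Ω'] {q q' : Spec (CommRingCat.of Ω') ⟶ X}
    (P₁ : FEt.fiber ξ ≅ FEt.fiber q) (c : FEt.fiber q ≅ FEt.fiber q')
    (P₂ : FEt.fiber ξ ≅ FEt.fiber q') (W : FEt.Cat X) (w : FEt.fiberObj q W) :
    act ξ (P₁ ≪≫ c ≪≫ P₂.symm) W (P₁.inv.app W w) = P₂.inv.app W (c.hom.app W w) :=
  congrArg (fun z => P₂.inv.app W (c.hom.app W z))
    (ConcreteCategory.congr_hom (P₁.inv_hom_id_app W) w)

theorem conj_apply {D : Type (u + 1)} [Category.{u} D] {F F' G : D ⥤ Type u} (φ : F ≅ F')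
    (r : G ≅ F') (τ : G ≅ G) (W : D) (v : G.obj W) :
    (φ ≪≫ r.symm ≪≫ τ ≪≫ r ≪≫ φ.symm).hom.app W (φ.inv.app W (r.hom.app W v)) =
      φ.inv.app W (r.hom.app W (τ.hom.app W v)) := by
  simp

theorem comp_inv_apply {D : Type (u + 1)} [Category.{u} D] {F F₁ G G₁ F₂ : D ⥤ Type u}
    (φ : F ≅ F₁) (r : G ≅ F₁) (ψ : G ≅ G₁) (r' : G₁ ≅ F₂) (W : D) (w : F₂.obj W) :
    (φ ≪≫ r.symm ≪≫ ψ ≪≫ r').inv.app W w = φ.inv.app W (r.hom.app W (ψ.inv.app W (r'.inv.app W w))) := by
  simp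

theorem inv_app_hom_app {D : Type (u + 1)} [Category.{u} D] {F F' : D ⥤ Type u} (e : F ≅ F')
    (W : D) (w : F.obj W) : e.inv.app W (e.hom.app W w) = w :=
  ConcreteCategory.congr_hom (e.hom_inv_id_app W) w

section Component

variable {X : Scheme.{u}} {Ω : Type u} [Field Ω] [IsAlgClosed Ω]
  {ξ : Spec (CommRingCat.of Ω) ⟶ X} {C : Scheme.{u}} [ConnectedSpace C] (h : C ⟶ X)
  {Ω₀ : Type u} [Field Ω₀] [IsAlgClosed Ω₀] {η : Spec (CommRingCat.of Ω₀) ⟶ C}
  (φ : FEt.fiber ξ ≅ FEt.fiber (η ≫ h))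

/-- The map of fundamental groups. -/
noncomputable def push (σ : FEt.piOne C η) : FEt.piOne X ξ :=
  φ ≪≫ (GaloisCat.restrictFiberIso h η).symm ≪≫
    Functor.isoWhiskerLeft (FEt.restrict h) σ ≪≫
    GaloisCat.restrictFiberIso h η ≪≫ φ.symm

/-- A path from the base point to a point coming from `C`. -/
noncomputable def path {Ω' : Type u} [Field Ω'] (y : Spec (CommRingCat.of Ω') ⟶ C)
    (ψ : FEt.fiber η ≅ FEt.fiber y) : FEt.fiber ξ ≅ FEt.fiber (y ≫ h) :=
  φ ≪≫ (GaloisCat.restrictFiberIso h η).symm ≪≫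
    Functor.isoWhiskerLeft (FEt.restrict h) ψ ≪≫ GaloisCat.restrictFiberIso h y

omit [ConnectedSpace C] [IsAlgClosed Ω] [IsAlgClosed Ω₀] in
theorem act_push (σ : FEt.piOne C η) (W : FEt.Cat X)
    (v : FEt.fiberObj η ((FEt.restrict h).obj W)) :
    act ξ (push h φ σ) W (φ.inv.app W ((GaloisCat.restrictFiberIso h η).hom.app W v)) =
      φ.inv.app W ((GaloisCat.restrictFiberIso h η).hom.app W
        (act η σ ((FEt.restrict h).obj W) v)) :=
  conj_apply φ (GaloisCat.restrictFiberIso h η) (Functor.isoWhiskerLeft (FEt.restrict h) σ) W v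

omit [ConnectedSpace C] [IsAlgClosed Ω] [IsAlgClosed Ω₀] in
theorem path_inv_apply {Ω' : Type u} [Field Ω'] (y : Spec (CommRingCat.of Ω') ⟶ C)
    (ψ : FEt.fiber η ≅ FEt.fiber y) (W : FEt.Cat X) (w : FEt.fiberObj (y ≫ h) W) :
    ((path h φ y ψ).inv.app W w : FEt.fiberObj ξ W) =
      φ.inv.app W ((GaloisCat.restrictFiberIso h η).hom.app W
        (ψ.inv.app _ ((GaloisCat.restrictFiberIso h y).inv.app W w))) :=
  comp_inv_apply φ (GaloisCat.restrictFiberIso h η) (Functor.isoWhiskerLeft (FEt.restrict h) ψ)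
    (GaloisCat.restrictFiberIso h y) W w

/-- A stable subset of a fibre gives a clopen subset over `C`. -/
theorem exists_local_clopen (W : FEt.Cat X) (O : Set (FEt.fiberObj ξ W))
    {F : Set (FEt.piOne C η)} (hF : PiSp.TopGenerates F)
    (hO : ∀ σ ∈ F, ∀ w, act ξ (push h φ σ) W w ∈ O ↔ w ∈ O) :
    ∃ A : Set (pullback W.hom h : Scheme.{u}), IsClopen A ∧
      ∀ {Ω' : Type u} [Field Ω'] [IsAlgClosed Ω'] (y : Spec (CommRingCat.of Ω') ⟶ C)
        (ψ : FEt.fiber η ≅ FEt.fiber y) (w : FEt.fiberObj (y ≫ h) W),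
        Fiber.point (pullback.lift w.1 y w.2) ∈ A ↔
          ((path h φ y ψ).inv.app W w : FEt.fiberObj ξ W) ∈ O := by
  let Oa : Set (FEt.fiberObj η ((FEt.restrict h).obj W)) :=
    {v | (φ.inv.app W ((GaloisCat.restrictFiberIso h η).hom.app W v) : FEt.fiberObj ξ W) ∈ O}
  have hOa : ∀ (σ : FEt.piOne C η) v, act η σ ((FEt.restrict h).obj W) v ∈ Oa ↔ v ∈ Oa :=
    fun σ v => apply_mem_iff η hF _ Oa (fun ρ hρ v => by
      have h1 := hO ρ hρ (φ.inv.app W ((GaloisCat.restrictFiberIso h η).hom.app W v))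
      rw [act_push] at h1
      exact h1) σ v
  obtain ⟨A, hAc, hA⟩ := exists_clopen η ((FEt.restrict h).obj W) Oa hOa
  refine ⟨A, hAc, fun {Ω'} _ _ y ψ w => ?_⟩
  let u₀ : FEt.fiberObj η ((FEt.restrict h).obj W) :=
    ψ.inv.app _ ((GaloisCat.restrictFiberIso h y).inv.app W w)
  have hv : (ψ.hom.app _ u₀ : FEt.fiberObj y ((FEt.restrict h).obj W)) =
      (GaloisCat.restrictFiberIso h y).inv.app W w :=
    ConcreteCategory.congr_hom (ψ.inv_hom_id_app _) _
  have hu : Fiber.point (pullback.lift w.1 y w.2) ∈ A ↔ u₀ ∈ Oa := by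
    rw [← hA y ψ u₀, hv]
    exact Iff.rfl
  rw [path_inv_apply]
  exact hu

end Component

variable {S S' : Scheme.{u}} [ConnectedSpace S] (g : S' ⟶ S) {Ω : Type u} [Field Ω] [IsAlgClosed Ω]
  (ξ : Spec (CommRingCat.of Ω) ⟶ S)

set_option maxHeartbeats 1000000 in
theorem exists_finite_generators [IsNoetherian S] [IsProper g] [Surjective g]
    (hfg : ∀ (C : S'.Opens), IsClosed (C : Set S') → ConnectedSpace C →
      ∀ (Ω : Type u) [Field Ω] [IsAlgClosed Ω] (η : Spec (CommRingCat.of Ω) ⟶ (C : Scheme.{u})),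
        ∃ F : Finset (FEt.piOne (C : Scheme.{u}) η),
          PiSp.TopGenerates (F : Set (FEt.piOne (C : Scheme.{u}) η))) :
    ∃ G : Finset (FEt.piOne S ξ), PiSp.TopGenerates (G : Set (FEt.piOne S ξ)) := by
  classical
  have : IsLocallyNoetherian S' := LocallyOfFiniteType.isLocallyNoetherian g
  have : CompactSpace S' := QuasiCompact.compactSpace_of_compactSpace g
  let R : Scheme.{u} := pullback g g
  let pr₁ : R ⟶ S' := pullback.fst g g
  let pr₂ : R ⟶ S' := pullback.snd g g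
  have : IsLocallyNoetherian R := LocallyOfFiniteType.isLocallyNoetherian (pr₁ ≫ g)
  have : CompactSpace R := QuasiCompact.compactSpace_of_compactSpace (pr₁ ≫ g)
  obtain ⟨I, _, C, hCc, hCconn, hCcov, hCdisj⟩ := exists_components S'
  obtain ⟨K, _, T, hTc, hTconn, hTcov, -⟩ := exists_components R
  -- base points
  let cp : ∀ a : I, (C a : Scheme.{u}) := fun a => (hCconn a).toNonempty.some
  let η := fun a : I => FullyFaithful.geomPt (cp a)
  let h := fun a : I => (C a).ι ≫ g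
  have φne : ∀ a : I, Nonempty (FEt.fiber ξ ≅ FEt.fiber (η a ≫ h a)) := fun a =>
    FiberUnique.nonempty_fiber_iso ξ (η a ≫ h a)
  let φ := fun a : I => (φne a).some
  choose Fa hFa using fun a : I => hfg (C a) (hCc a) (hCconn a) _ (η a)
  -- loops
  let tp : ∀ k : K, (T k : Scheme.{u}) := fun k => (hTconn k).toNonempty.some
  let tq := fun k : K => FullyFaithful.geomPt (tp k) ≫ (T k).ι
  choose a₁ ha₁ using fun k : K => hCcov (Fiber.point (tq k ≫ pr₁))
  choose a₂ ha₂ using fun k : K => hCcov (Fiber.point (tq k ≫ pr₂))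
  choose y₁ hy₁ using fun k : K => exists_lift_opens (C (a₁ k)) (tq k ≫ pr₁) (ha₁ k)
  choose y₂ hy₂ using fun k : K => exists_lift_opens (C (a₂ k)) (tq k ≫ pr₂) (ha₂ k)
  let ψ₁ := fun k : K => (FiberUnique.nonempty_fiber_iso (η (a₁ k)) (y₁ k)).some
  let ψ₂ := fun k : K => (FiberUnique.nonempty_fiber_iso (η (a₂ k)) (y₂ k)).some
  have hloop : ∀ k : K, y₁ k ≫ h (a₁ k) = y₂ k ≫ h (a₂ k) := fun k => by
    simp only [h, reassoc_of% (hy₁ k), reassoc_of% (hy₂ k)]
    exact congrArg (tq k ≫ ·) pullback.condition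
  let loop : K → FEt.piOne S ξ := fun k =>
    path (h (a₁ k)) (φ (a₁ k)) (y₁ k) (ψ₁ k) ≪≫ congrIso (hloop k) ≪≫ (path (h (a₂ k)) (φ (a₂ k)) (y₂ k) (ψ₂ k)).symm
  let Gset : Set (FEt.piOne S ξ) := (⋃ a : I, push (h a) (φ a) '' (Fa a : Set _)) ∪ Set.range loop
  have hGfin : Gset.Finite :=
    (Set.finite_iUnion fun a => (Fa a).finite_toSet.image _).union (Set.finite_range _)
  refine ⟨hGfin.toFinset, ?_⟩
  rw [Set.Finite.coe_toFinset]
  refine topGenerates_of_transitive ξ Gset fun W hW s t => ?_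
  let O : Set (FEt.fiberObj ξ W) := {w | ∃ σ ∈ Subgroup.closure Gset, act ξ σ W s = w}
  have hstable : ∀ σ ∈ Gset, ∀ w, act ξ σ W w ∈ O ↔ w ∈ O := fun σ hσ w => by
    constructor
    · rintro ⟨τ, hτ, hτs⟩
      refine ⟨σ⁻¹ * τ, mul_mem (inv_mem (Subgroup.subset_closure hσ)) hτ, ?_⟩
      rw [mul_apply, hτs, ← mul_apply, inv_mul_cancel, one_apply]
    · rintro ⟨τ, hτ, rfl⟩
      exact ⟨σ * τ, mul_mem (Subgroup.subset_closure hσ) hτ, mul_apply ξ σ τ W s⟩
  -- the clopen subsets over the components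
  choose A hAc hA using fun a : I => exists_local_clopen (h a) (φ a) W O (hFa a) fun ρ hρ =>
    hstable (push (h a) (φ a) ρ) (Or.inl (Set.mem_iUnion.mpr ⟨a, ρ, hρ, rfl⟩))
  let P : Scheme.{u} := pullback W.hom g
  let j : ∀ a : I, pullback W.hom (h a) ⟶ P := fun a =>
    pullback.lift (pullback.fst W.hom (h a)) (pullback.snd W.hom (h a) ≫ (C a).ι)
      (by rw [Category.assoc]; exact pullback.condition)
  have hjpb : ∀ a, IsPullback (j a) (pullback.snd W.hom (h a)) (pullback.snd W.hom g) (C a).ι :=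
    fun a => IsPullback.of_right (by
      simp only [j, pullback.lift_fst]
      exact IsPullback.of_hasPullback W.hom (h a)) (pullback.lift_snd _ _ _)
      (IsPullback.of_hasPullback W.hom g)
  have hjo : ∀ a, IsOpenImmersion (j a) := fun a =>
    MorphismProperty.of_isPullback (P := @IsOpenImmersion) (hjpb a).flip inferInstance
  have hjr : ∀ a, Set.range (j a).base = (pullback.snd W.hom g).base ⁻¹' (C a : Set S') := fun a => by
    ext z
    constructor
    · rintro ⟨v, rfl⟩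
      have := congr($((hjpb a).w).base v)
      simp only [Scheme.Hom.comp_apply] at this
      exact Set.mem_preimage.mpr (this ▸ ((pullback.snd W.hom (h a)).base v).2)
    · intro hz
      obtain ⟨v, hv⟩ := (Scheme.Pullback.exists_preimage_pullback (f := pullback.snd W.hom g)
        (g := (C a).ι) z ⟨_, hz⟩ rfl)
      exact ⟨(hjpb a).isoPullback.inv.base v, by
        rw [← hv.1, ← Scheme.Hom.comp_apply, (hjpb a).isoPullback_inv_fst]⟩
  have hsnd : ∀ a v, (pullback.snd W.hom g).base ((j a).base v) ∈ C a := fun a v =>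
    (hjr a).le ⟨v, rfl⟩
  let AA : Set P := ⋃ a : I, (j a).base '' A a
  have hAA : IsClopen AA := by
    refine isClopen_iUnion_of_finite fun a => ⟨?_, (j a).isOpenEmbedding.isOpenMap _ (hAc a).isOpen⟩
    rw [← isOpen_compl_iff]
    have : ((j a).base '' A a)ᶜ = (j a).base '' (A a)ᶜ ∪ (Set.range (j a).base)ᶜ := by
      ext z
      by_cases hz : z ∈ Set.range (j a).base
      · obtain ⟨v, rfl⟩ := hz
        refine ⟨fun hn => Or.inl ⟨v, fun hv => hn ⟨v, hv, rfl⟩, rfl⟩, ?_⟩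
        rintro (⟨v', hv', e⟩ | hn) ⟨v'', hv'', e'⟩
        · exact hv' ((j a).isOpenEmbedding.injective (e'.trans e.symm) ▸ hv'')
        · exact hn ⟨v, rfl⟩
      · exact iff_of_true (fun h => hz (Set.image_subset_range _ _ h)) (Or.inr hz)
    rw [this, hjr]
    exact ((j a).isOpenEmbedding.isOpenMap _ (hAc a).compl.isOpen).union
      ((hCc a).preimage (pullback.snd W.hom g).continuous).isOpen_compl
  have hmem : ∀ (a : I) {Ω' : Type u} [Field Ω'] [IsAlgClosed Ω']
      (y : Spec (CommRingCat.of Ω') ⟶ (C a : Scheme.{u})) (ψ : FEt.fiber (η a) ≅ FEt.fiber y)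
      (w : FEt.fiberObj (y ≫ h a) W) (z : Spec (CommRingCat.of Ω') ⟶ P),
      z ≫ pullback.fst W.hom g = w.1 → z ≫ pullback.snd W.hom g = y ≫ (C a).ι →
      (Fiber.point z ∈ AA ↔ ((path (h a) (φ a) y ψ).inv.app W w : FEt.fiberObj ξ W) ∈ O) := by
    intro a Ω' _ _ y ψ w z hz1 hz2
    refine Iff.trans ?_ (hA a y ψ w)
    let v := pullback.lift w.1 y w.2
    have hvz : z = v ≫ j a := by
      refine pullback.hom_ext ?_ ?_
      · exact hz1.trans ((pullback.lift_fst _ _ w.2).symm.trans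
          ((congrArg (v ≫ ·) (pullback.lift_fst _ _ _).symm).trans (Category.assoc _ _ _).symm))
      · exact hz2.trans ((congrArg (· ≫ (C a).ι) (pullback.lift_snd _ _ w.2).symm).trans
          ((Category.assoc _ _ _).trans ((congrArg (v ≫ ·) (pullback.lift_snd _ _ _).symm).trans
            (Category.assoc _ _ _).symm)))
    have hpt : Fiber.point z = (j a).base (Fiber.point v) := by rw [hvz]; rfl
    constructor
    · intro hz
      obtain ⟨b, hb⟩ := Set.mem_iUnion.mp hz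
      obtain ⟨v', hv', hv'z⟩ := hb
      have hab : b = a := hCdisj b a _ (hsnd b v') (by rw [hv'z, hpt]; exact hsnd a _)
      subst hab
      rw [hpt] at hv'z
      exact (j b).isOpenEmbedding.injective hv'z ▸ hv'
    · intro hz
      exact Set.mem_iUnion.mpr ⟨a, _, hz, hpt.symm⟩
  -- saturation
  let Q : Scheme.{u} := pullback W.hom (pr₁ ≫ g)
  let q₁ : Q ⟶ P := pullback.lift (pullback.fst W.hom (pr₁ ≫ g))
    (pullback.snd W.hom (pr₁ ≫ g) ≫ pr₁) (by rw [Category.assoc]; exact pullback.condition)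
  let q₂ : Q ⟶ P := pullback.lift (pullback.fst W.hom (pr₁ ≫ g))
    (pullback.snd W.hom (pr₁ ≫ g) ≫ pr₂) (by
      rw [Category.assoc, show pr₂ ≫ g = pr₁ ≫ g from pullback.condition.symm]
      exact pullback.condition)
  have : IsFinite W.hom := W.prop.1
  have : Etale W.hom := W.prop.2
  have hsat : q₁.base ⁻¹' AA = q₂.base ⁻¹' AA := by
    by_contra hne
    let E : Set Q := (q₁.base ⁻¹' AA \ q₂.base ⁻¹' AA) ∪ (q₂.base ⁻¹' AA \ q₁.base ⁻¹' AA)
    have h1 : IsClopen (q₁.base ⁻¹' AA) := hAA.preimage q₁.continuous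
    have h2 : IsClopen (q₂.base ⁻¹' AA) := hAA.preimage q₂.continuous
    have hE : IsClopen E := (h1.diff h2).union (h2.diff h1)
    obtain ⟨z₀, hz₀⟩ : E.Nonempty := Set.nonempty_iff_ne_empty.mpr fun hE0 => by
      rw [Set.union_empty_iff, Set.sdiff_eq_empty, Set.sdiff_eq_empty] at hE0
      exact hne (hE0.1.antisymm hE0.2)
    obtain ⟨k, hk⟩ := hTcov ((pullback.snd W.hom (pr₁ ≫ g)).base z₀)
    have himg := Basic.isClopen_image (pullback.snd W.hom (pr₁ ≫ g)) hE
    have hTk : (T k : Set R) ⊆ (pullback.snd W.hom (pr₁ ≫ g)).base '' E :=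
      (isConnected_iff_connectedSpace.mpr (hTconn k)).isPreconnected.subset_isClopen himg
        ⟨_, hk, z₀, hz₀, rfl⟩
    have htk : Fiber.point (tq k) = (tp k).1 :=
      congrArg (T k).ι.base (FullyFaithful.point_geomPt (tp k))
    obtain ⟨z, hzE, hz⟩ := hTk (show Fiber.point (tq k) ∈ T k from htk ▸ (tp k).2)
    obtain ⟨uz, huz, huzpt⟩ := Conservative.exists_lift_point (tq k)
      (pullback.snd W.hom (pr₁ ≫ g)) z hz
    have hw : (uz ≫ pullback.fst W.hom (pr₁ ≫ g)) ≫ W.hom = y₁ k ≫ h (a₁ k) := by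
      refine (Category.assoc _ _ _).trans ((congrArg (uz ≫ ·) pullback.condition).trans ?_)
      simp only [h, reassoc_of% huz, reassoc_of% (hy₁ k)]
    let w : FEt.fiberObj (y₁ k ≫ h (a₁ k)) W := ⟨_, hw⟩
    let w' : FEt.fiberObj (y₂ k ≫ h (a₂ k)) W := (congrIso (hloop k)).hom.app W w
    have e1 := hmem (a₁ k) (y₁ k) (ψ₁ k) w (uz ≫ q₁) (by simp only [Category.assoc, q₁, pullback.lift_fst]; rfl)
      (by simp only [Category.assoc, q₁, pullback.lift_snd, reassoc_of% huz, hy₁ k])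
    have e2 := hmem (a₂ k) (y₂ k) (ψ₂ k) w' (uz ≫ q₂)
      (by simp only [Category.assoc, q₂, pullback.lift_fst]; exact (congrIso_apply _ _ w).symm)
      (by simp only [Category.assoc, q₂, pullback.lift_snd, reassoc_of% huz, hy₂ k])
    have e3 := hstable (loop k) (Or.inr ⟨k, rfl⟩) ((path (h (a₁ k)) (φ (a₁ k)) (y₁ k) (ψ₁ k)).inv.app W w)
    have e4 : act ξ (loop k) W ((path (h (a₁ k)) (φ (a₁ k)) (y₁ k) (ψ₁ k)).inv.app W w) =
        (path (h (a₂ k)) (φ (a₂ k)) (y₂ k) (ψ₂ k)).inv.app W w' :=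
      act_loop (path (h (a₁ k)) (φ (a₁ k)) (y₁ k) (ψ₁ k)) (congrIso (hloop k)) (path (h (a₂ k)) (φ (a₂ k)) (y₂ k) (ψ₂ k)) W w
    rw [e4] at e3
    have hiff : z ∈ q₁.base ⁻¹' AA ↔ z ∈ q₂.base ⁻¹' AA := by
      rw [← huzpt]
      exact e1.trans (e3.symm.trans e2.symm)
    rcases hzE with ⟨h, h'⟩ | ⟨h, h'⟩
    · exact h' (hiff.mp h)
    · exact h' (hiff.mpr h)
  let f₁ : P ⟶ W.left := pullback.fst W.hom g
  have hpre : f₁.base ⁻¹' (f₁.base '' AA) = AA := by
    refine Set.Subset.antisymm ?_ (Set.subset_preimage_image _ _)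
    rintro z ⟨z', hz', hzz⟩
    obtain ⟨p, hp1, hp2⟩ := Scheme.Pullback.exists_preimage_pullback (f := f₁) (g := f₁) z' z hzz
    let m : pullback f₁ f₁ ⟶ Q := pullback.lift (pullback.fst f₁ f₁ ≫ f₁)
      (pullback.lift (pullback.fst f₁ f₁ ≫ pullback.snd W.hom g)
        (pullback.snd f₁ f₁ ≫ pullback.snd W.hom g) (by
          simp only [Category.assoc, ← pullback.condition]
          exact (reassoc_of% (pullback.condition (f := f₁) (g := f₁))) _))
      (by simp only [Category.assoc, pr₁, pullback.lift_fst_assoc]; exact congrArg (_ ≫ ·) pullback.condition)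
    have m1 : m ≫ q₁ = pullback.fst f₁ f₁ := pullback.hom_ext
      (by simp only [Category.assoc, q₁, m, pullback.lift_fst]; rfl)
      (by simp only [Category.assoc, q₁, m, pullback.lift_snd, pullback.lift_snd_assoc, pr₁, pullback.lift_fst])
    have m2 : m ≫ q₂ = pullback.snd f₁ f₁ := pullback.hom_ext
      (by simp only [Category.assoc, q₂, m, pullback.lift_fst]; exact pullback.condition)
      (by simp only [Category.assoc, q₂, m, pullback.lift_snd, pullback.lift_snd_assoc, pr₂])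
    have hm : m.base p ∈ q₁.base ⁻¹' AA := by
      rw [Set.mem_preimage, ← Scheme.Hom.comp_apply, m1, hp1]
      exact hz'
    rw [hsat, Set.mem_preimage, ← Scheme.Hom.comp_apply, m2, hp2] at hm
    exact hm
  have hD : IsClopen (f₁.base '' AA) := by
    refine ⟨f₁.isClosedMap _ hAA.isClosed, ?_⟩
    rw [← isClosed_compl_iff, ← Set.image_preimage_eq (f₁.base '' AA)ᶜ f₁.surjective,
      Set.preimage_compl, hpre]
    exact f₁.isClosedMap _ hAA.compl.isClosed
  obtain ⟨s'⟩ := (inferInstance : Nonempty S)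
  obtain ⟨x₀, -⟩ := g.surjective s'
  obtain ⟨a₀, -⟩ := hCcov x₀
  have hkey : ∀ w : FEt.fiberObj ξ W, ∃ zz : P, (zz ∈ AA ↔ w ∈ O) := fun w => by
    let e := path (h a₀) (φ a₀) (η a₀) (Iso.refl _)
    let w' : FEt.fiberObj (η a₀ ≫ h a₀) W := e.hom.app W w
    have hzw : w'.1 ≫ W.hom = (η a₀ ≫ (C a₀).ι) ≫ g := w'.2.trans (Category.assoc _ _ _).symm
    refine ⟨Fiber.point (pullback.lift w'.1 (η a₀ ≫ (C a₀).ι) hzw), ?_⟩
    refine (hmem a₀ (η a₀) (Iso.refl _) w' _ (pullback.lift_fst _ _ _) (pullback.lift_snd _ _ _)).trans ?_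
    exact Iff.of_eq (congrArg (fun x : FEt.fiberObj ξ W => x ∈ O) (inv_app_hom_app e W w))
  have huniv : f₁.base '' AA = Set.univ := by
    obtain ⟨zz, hzz⟩ := hkey s
    have hne : (f₁.base '' AA).Nonempty :=
      ⟨_, _, hzz.mpr ⟨1, one_mem _, one_apply ξ W s⟩, rfl⟩
    let V : W.left.Opens := ⟨f₁.base '' AA, hD.isOpen⟩
    let incl := Summand.clopenIncl W V hD.isClosed
    have : Mono ((MorphismProperty.Over.forget FEt.prop.{u} ⊤ S ⋙ Over.forget S).map incl) :=
      inferInstanceAs (Mono V.ι)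
    have : Mono incl :=
      Functor.mono_of_mono_map (MorphismProperty.Over.forget FEt.prop.{u} ⊤ S ⋙ Over.forget S) this
    have hni : IsInitial (Summand.clopenSub W V hD.isClosed) → False := fun hi => by
      obtain ⟨v, hv⟩ := hne
      exact isEmptyElim (α := (⊥_ Scheme.{u} : Scheme.{u}))
        ((hi.to (Coproduct.empty S)).left.base ⟨v, hv⟩)
    have := hW.noTrivialComponent _ incl hni
    refine Set.eq_univ_of_forall fun x => ?_
    have h' : IsIso ((MorphismProperty.Over.forget FEt.prop.{u} ⊤ S ⋙ Over.forget S).map incl) :=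
      inferInstance
    have h'' : IsIso V.ι := h'
    obtain ⟨v, hv⟩ := V.ι.surjective x
    exact hv ▸ v.2
  obtain ⟨zz, hzz⟩ := hkey t
  obtain ⟨σ, hσ, hσs⟩ := hzz.mp (hpre ▸ (show zz ∈ f₁.base ⁻¹' (f₁.base '' AA) by
    rw [huniv]; trivial))
  exact ⟨σ, hσ, hσs⟩

end Groth.Agent.H80.DescentGen
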