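import Groth.Agent.Lib.Depth.Local
import Groth.Agent.H54.DimFlat
import Mathlib.RingTheory.Localization.LocalizationLocalization

/-! Serre's condition `(S_k)` via absence of embedded primes in quotients by regular sequences. -/

set_option autoImplicit false
set_option backward.isDefEq.respectTransparency false
universe u

open RingTheory.Sequence Pointwise LocCoh IsLocalRing TensorProduct
open Groth.Agent.Lib.Depth

namespace Groth.Agent.H80.SkAss

variable {A : Type u} [CommRing A]

/-- Localisation commutes with reduction modulo an element. -/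
noncomputable def quotEquiv (S : Submonoid A) (M : Type u) [AddCommGroup M] [Module A M] (x : A) :
    LocalizedModule S (QuotSMulTop x M) ≃ₗ[Localization S]
      QuotSMulTop (algebraMap A (Localization S) x) (LocalizedModule S M) :=
  (IsLocalizedModule.isBaseChange S (Localization S)
      (LocalizedModule.mkLinearMap S (QuotSMulTop x M))).equiv.symm ≪≫ₗ
    (QuotSMulTop.algebraMapTensorEquivTensorQuotSMulTop x M (Localization S)).symm ≪≫ₗ
    QuotSMulTop.congr (algebraMap A (Localization S) x)
      (IsLocalizedModule.isBaseChange S (Localization S) (LocalizedModule.mkLinearMap S M)).equiv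

theorem weaklyRegular_cons_iff_localized (S : Submonoid A) (M : Type u) [AddCommGroup M] [Module A M]
    (x : A) (rs : List A) :
    IsWeaklyRegular (LocalizedModule S M) ((x :: rs).map (algebraMap A (Localization S))) ↔
      IsSMulRegular (LocalizedModule S M) x ∧
        IsWeaklyRegular (LocalizedModule S (QuotSMulTop x M)) (rs.map (algebraMap A (Localization S))) := by
  rw [List.map_cons, isWeaklyRegular_cons_iff, isSMulRegular_algebraMap_iff,
    (quotEquiv S M x).isWeaklyRegular_congr]

/-- Scaling by units does not affect weak regularity. -/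
theorem isWeaklyRegular_of_forall₂ {S : Type u} [CommRing S] {M : Type u} [AddCommGroup M] [Module S M]
    {as bs : List S} (h : List.Forall₂ Associated as bs) (hr : IsWeaklyRegular M as) :
    IsWeaklyRegular M bs := by
  induction h generalizing M with
  | nil => exact hr
  | @cons a b as bs hab _ ih =>
    obtain ⟨u, rfl⟩ := hab
    rw [isWeaklyRegular_cons_iff] at hr ⊢
    refine ⟨fun z w hzw => hr.1 ?_, ?_⟩
    · have := congrArg ((u⁻¹ : Sˣ) • ·) hzw
      simpa [Units.smul_def, ← mul_smul, mul_comm a, ← mul_assoc] using this
    · have he : (a * (u : S)) • (⊤ : Submodule S M) = a • (⊤ : Submodule S M) := by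
        ext z
        simp only [Submodule.mem_smul_pointwise_iff_exists, Submodule.mem_top, true_and]
        constructor
        · rintro ⟨y, rfl⟩; exact ⟨(u : S) • y, by rw [← mul_smul]⟩
        · rintro ⟨y, rfl⟩; exact ⟨((u⁻¹ : Sˣ) : S) • y, by rw [← mul_smul, mul_assoc, Units.mul_inv, mul_one]⟩
      exact ((Submodule.quotEquivOfEq _ _ he.symm).isWeaklyRegular_congr bs).1 (ih hr.2)

/-- Spreading out a regular sequence. -/
theorem exists_spread [IsNoetherianRing A] (p : Ideal A) [p.IsPrime] :
    ∀ (rs : List A) (M : Type u) [AddCommGroup M] [Module A M] [Module.Finite A M],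
      IsWeaklyRegular (LocalizedModule p.primeCompl M) (rs.map (algebraMap A (Localization.AtPrime p))) →
      ∃ g ∉ p, ∀ h : A, g ∣ h → IsWeaklyRegular (LocalizedModule (Submonoid.powers h) M)
        (rs.map (algebraMap A (Localization (Submonoid.powers h)))) := by
  intro rs
  induction rs with
  | nil => exact fun M _ _ _ _ => ⟨1, p.one_notMem, fun h _ => IsWeaklyRegular.nil _ _⟩
  | cons x rs ih =>
    intro M _ _ _ hr
    rw [weaklyRegular_cons_iff_localized] at hr
    obtain ⟨g2, hg2, hg2'⟩ := ih (QuotSMulTop x M) hr.2
    have hfg : (LinearMap.ker (LinearMap.lsmul A M x)).FG := IsNoetherian.noetherian _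
    obtain ⟨T, hT⟩ := hfg
    have hker : ∀ m ∈ LinearMap.ker (LinearMap.lsmul A M x), ∃ s : A, s ∉ p ∧ s • m = 0 := by
      intro m hm
      have h0 : x • LocalizedModule.mkLinearMap p.primeCompl M m = x • (0 : LocalizedModule p.primeCompl M) := by
        rw [smul_zero, ← map_smul, show x • m = 0 from hm, map_zero]
      obtain ⟨c, hc⟩ := (IsLocalizedModule.eq_zero_iff p.primeCompl (LocalizedModule.mkLinearMap p.primeCompl M)).1
        (hr.1 h0)
      exact ⟨c, c.2, hc⟩
    choose! s hs hsm using fun m (hm : m ∈ T) => hker m (hT ▸ Submodule.subset_span hm)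
    let g1 := ∏ m ∈ T, s m
    have hg1 : g1 ∉ p := by
      intro h
      obtain ⟨m, hm, hmp⟩ := (Ideal.IsPrime.prod_mem_iff (p := p)).1 h
      exact hs m hm hmp
    have hkill : ∀ m ∈ LinearMap.ker (LinearMap.lsmul A M x), g1 • m = 0 := by
      intro m hm
      rw [← hT] at hm
      induction hm using Submodule.span_induction with
      | mem y hy =>
        obtain ⟨c, hc⟩ := Finset.dvd_prod_of_mem s hy
        rw [show g1 = c * s y by rw [mul_comm]; exact hc, mul_smul, hsm y hy, smul_zero]
      | zero => simp
      | add a b _ _ ha hb => rw [smul_add, ha, hb, add_zero]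
      | smul c a _ ha => rw [smul_comm, ha, smul_zero]
    refine ⟨g1 * g2, fun h => (Ideal.IsPrime.mem_or_mem ‹_› h).elim hg1 hg2, fun h hh => ?_⟩
    rw [weaklyRegular_cons_iff_localized]
    refine ⟨?_, hg2' h (dvd_trans (dvd_mul_left g2 g1) hh)⟩
    intro z w hzw
    rw [← sub_eq_zero] at hzw ⊢
    simp only at hzw
    rw [← smul_sub] at hzw
    obtain ⟨⟨m, t⟩, hmt⟩ := IsLocalizedModule.mk'_surjective (Submonoid.powers h)
      (LocalizedModule.mkLinearMap (Submonoid.powers h) M) (z - w)
    simp only [Function.uncurry_apply_pair] at hmt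
    rw [← hmt] at hzw ⊢
    rw [← IsLocalizedModule.mk'_smul, IsLocalizedModule.mk'_eq_zero'] at hzw
    rw [IsLocalizedModule.mk'_eq_zero']
    obtain ⟨c, hc⟩ := hzw
    obtain ⟨d, rfl⟩ := dvd_trans (dvd_mul_right g1 g2) hh
    refine ⟨⟨g1 * d, Submonoid.mem_powers _⟩ * c, ?_⟩
    show ((g1 * d) * (c : A)) • m = 0
    rw [mul_smul, mul_smul]
    refine hkill _ ?_
    have hc' : (c : A) • (x • m) = 0 := hc
    simp [LinearMap.mem_ker, smul_comm x, hc']

variable [IsNoetherianRing A]

/-- Quotient by a regular sequence inside the prime, after localisation. -/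
theorem quot_localized (P : Ideal A) [P.IsPrime] :
    ∀ (rs : List A) (N : Type u) [AddCommGroup N] [Module A N] [Module.Finite A N],
      IsWeaklyRegular N rs → (∀ r ∈ rs, r ∈ P) →
      depth (Localization.AtPrime P) (LocalizedModule P.primeCompl (N ⧸ Ideal.ofList rs • (⊤ : Submodule A N))) + rs.length =
        depth (Localization.AtPrime P) (LocalizedModule P.primeCompl N) ∧
      Module.supportDim (Localization.AtPrime P) (LocalizedModule P.primeCompl (N ⧸ Ideal.ofList rs • (⊤ : Submodule A N))) + rs.length =
        Module.supportDim (Localization.AtPrime P) (LocalizedModule P.primeCompl N) := by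
  intro rs
  induction rs with
  | nil =>
    intro N _ _ _ _ _
    let e := Submodule.quotEquivOfEqBot (Ideal.ofList ([] : List A) • (⊤ : Submodule A N)) (by simp)
    let e' := IsLocalizedModule.mapEquiv P.primeCompl
      (LocalizedModule.mkLinearMap P.primeCompl _) (LocalizedModule.mkLinearMap P.primeCompl N)
      (Localization.AtPrime P) e
    simp only [List.length_nil, Nat.cast_zero, add_zero]
    exact ⟨Basic.depth_congr e', Module.supportDim_eq_of_equiv e'⟩
  | cons x rs ih =>
    intro N _ _ _ hreg hmem
    rw [isWeaklyRegular_cons_iff] at hreg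
    simp only [List.mem_cons, forall_eq_or_imp] at hmem
    obtain ⟨h1, h2⟩ := ih (QuotSMulTop x N) hreg.2 hmem.2
    let e := Submodule.quotOfListConsSMulTopEquivQuotSMulTopInner N x rs
    let e' := IsLocalizedModule.mapEquiv P.primeCompl
      (LocalizedModule.mkLinearMap P.primeCompl _) (LocalizedModule.mkLinearMap P.primeCompl _)
      (Localization.AtPrime P) e
    have := Module.Finite.of_isLocalizedModule P.primeCompl (Rₚ := Localization.AtPrime P)
      (LocalizedModule.mkLinearMap P.primeCompl N)
    have hxp : algebraMap A (Localization.AtPrime P) x ∈ maximalIdeal (Localization.AtPrime P) :=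
      (IsLocalization.AtPrime.to_map_mem_maximal_iff _ P x).mpr hmem.1
    have hregp : IsSMulRegular (LocalizedModule P.primeCompl N) (algebraMap A (Localization.AtPrime P) x) := by
      simpa using IsWeaklyRegular.of_isLocalizedModule (Localization.AtPrime P) P.primeCompl
        (LocalizedModule.mkLinearMap P.primeCompl N) ((isWeaklyRegular_singleton_iff N x).mpr hreg.1)
    rw [Basic.depth_congr e', Module.supportDim_eq_of_equiv e', List.length_cons, Nat.cast_succ,
      Nat.cast_succ, ← add_assoc, ← add_assoc, h1, h2]
    have eq := quotEquiv P.primeCompl N x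
    rw [Module.supportDim_eq_of_equiv eq, Basic.depth_congr eq]
    exact ⟨SES.idealDepth_quotSMulTop _ hxp hregp,
      Module.supportDim_quotSMulTop_succ_eq_supportDim hregp hxp⟩

/-- `N` has no embedded prime at `q`: an associated prime of positive dimension is embedded. -/
theorem exists_lt_ass (N : Type u) [AddCommGroup N] [Module A N] [Module.Finite A N] (P : Ideal A) [P.IsPrime]
    (hd : depth (Localization.AtPrime P) (LocalizedModule P.primeCompl N) = 0)
    (hdim : ¬ Module.supportDim (Localization.AtPrime P) (LocalizedModule P.primeCompl N) ≤ 0) :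
    P ∈ associatedPrimes A N ∧ ∃ Q ∈ associatedPrimes A N, Q < P := by
  have hnt : Nontrivial (LocalizedModule P.primeCompl N) := by
    rw [← not_subsingleton_iff_nontrivial]
    intro h
    exact hdim (by rw [Module.supportDim_eq_bot_of_subsingleton]; exact bot_le)
  have := Module.Finite.of_isLocalizedModule P.primeCompl (Rₚ := Localization.AtPrime P)
    (LocalizedModule.mkLinearMap P.primeCompl N)
  have hP : P ∈ associatedPrimes A N := by
    have hm := (Assoc.depth_eq_zero_iff (LocalizedModule P.primeCompl N)).1 hd
    rw [← Module.associatedPrimes.preimage_comap_associatedPrimes_eq_associatedPrimes_of_isLocalizedModule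
      P.primeCompl (Localization.AtPrime P) (LocalizedModule.mkLinearMap P.primeCompl N), Set.mem_preimage] at hm
    rwa [show Ideal.comap (algebraMap A (Localization.AtPrime P)) (maximalIdeal _) = P from
      IsLocalization.AtPrime.under_maximalIdeal _ P] at hm
  refine ⟨hP, ?_⟩
  have hann : Module.annihilator A N ≤ P := by
    have := IsAssociatedPrime.annihilator_le hP
    rwa [Submodule.annihilator_top] at this
  by_contra! hc
  refine hdim (CM.supportDim_localization_le_zero P N fun Q hQ hQP => ?_)
  obtain ⟨Q', hQ', hle⟩ := Ideal.exists_minimalPrimes_le (J := Q.asIdeal) hQ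
  have hQ'a := Module.associatedPrimes.minimalPrimes_annihilator_subset_associatedPrimes A N hQ'
  refine le_antisymm hQP ((le_of_eq ?_).trans hle)
  by_contra hne
  exact hc Q' hQ'a (lt_of_le_of_ne (hle.trans hQP) (Ne.symm hne))

/-- An embedded associated prime has depth zero and positive dimension. -/
theorem of_lt_ass (N : Type u) [AddCommGroup N] [Module A N] [Module.Finite A N] {p' q : Ideal A} [q.IsPrime]
    (hp' : p' ∈ associatedPrimes A N) (hq : q ∈ associatedPrimes A N) (hlt : p' < q) :
    depth (Localization.AtPrime q) (LocalizedModule q.primeCompl N) = 0 ∧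
      1 ≤ Module.supportDim (Localization.AtPrime q) (LocalizedModule q.primeCompl N) := by
  let S := Localization.AtPrime q
  let ψ := LocalizedModule.mkLinearMap q.primeCompl N
  have := Module.Finite.of_isLocalizedModule q.primeCompl (Rₚ := S) ψ
  have := IsAssociatedPrime.isPrime hp'
  have hdisj : Disjoint (q.primeCompl : Set A) (p' : Set A) :=
    Set.disjoint_left.2 fun a ha h => ha (hlt.le h)
  have hmem : ∀ (r : Ideal A) [r.IsPrime], Disjoint (q.primeCompl : Set A) (r : Set A) →
      r ∈ associatedPrimes A N → r.map (algebraMap A S) ∈ associatedPrimes S (LocalizedModule q.primeCompl N) := by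
    intro r _ hd hr
    rw [← Module.associatedPrimes.preimage_comap_associatedPrimes_eq_associatedPrimes_of_isLocalizedModule
      q.primeCompl S ψ, Set.mem_preimage]
    rwa [show (r.map (algebraMap A S)).comap (algebraMap A S) = r from
      IsLocalization.comap_map_of_isPrime_disjoint q.primeCompl S ‹_› hd]
  have h1 := hmem p' hdisj hp'
  have h2 : maximalIdeal S ∈ associatedPrimes S (LocalizedModule q.primeCompl N) := by
    rw [← IsLocalization.AtPrime.map_eq_maximalIdeal q S]
    exact hmem q (Set.disjoint_left.2 fun a ha h => ha h) hq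
  have : Nontrivial (LocalizedModule q.primeCompl N) := by
    by_contra hc
    have := not_nontrivial_iff_subsingleton.mp hc
    simp [associatedPrimes.eq_empty_of_subsingleton] at h2
  refine ⟨(Assoc.depth_eq_zero_iff _).2 h2, ?_⟩
  have := IsAssociatedPrime.isPrime h1
  have hlt' : p'.map (algebraMap A S) < maximalIdeal S := by
    refine lt_of_le_of_ne (le_maximalIdeal this.ne_top) fun h => hlt.ne ?_
    have e := congrArg (Ideal.comap (algebraMap A S)) h
    rwa [show (p'.map (algebraMap A S)).comap (algebraMap A S) = p' from
      IsLocalization.comap_map_of_isPrime_disjoint q.primeCompl S ‹_› hdisj,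
      show Ideal.comap (algebraMap A S) (maximalIdeal S) = q from IsLocalization.AtPrime.under_maximalIdeal S q] at e
  refine le_trans ?_ ((Assoc.ringKrullDim_quotient_add_one_le_of_lt hlt').trans
    (Assoc.ringKrullDim_quotient_le_supportDim _ h1))
  have : Nontrivial (S ⧸ maximalIdeal S) := Ideal.Quotient.nontrivial_iff.2 (maximalIdeal.isMaximal S).ne_top
  exact le_add_of_nonneg_left ringKrullDim_nonneg_of_nontrivial

/-- Depth and dimension of a localisation of a localisation. -/
theorem tower (g : A) (M : Type u) [AddCommGroup M] [Module A M] [Module.Finite A M]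
    (P : Ideal (Localization.Away g)) [P.IsPrime] :
    depth (Localization.AtPrime P) (LocalizedModule P.primeCompl (LocalizedModule (Submonoid.powers g) M)) =
        depth (Localization.AtPrime (P.comap (algebraMap A (Localization.Away g))))
          (LocalizedModule (P.comap (algebraMap A (Localization.Away g))).primeCompl M) ∧
      Module.supportDim (Localization.AtPrime P) (LocalizedModule P.primeCompl (LocalizedModule (Submonoid.powers g) M)) =
        Module.supportDim (Localization.AtPrime (P.comap (algebraMap A (Localization.Away g))))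
          (LocalizedModule (P.comap (algebraMap A (Localization.Away g))).primeCompl M) := by
  let L := Localization.Away g
  let p := P.comap (algebraMap A L)
  let S := Localization.AtPrime P
  have : IsLocalization.AtPrime S p :=
    IsLocalization.isLocalization_isLocalization_atPrime_isLocalization (Submonoid.powers g) S P
  let e : Localization.AtPrime p ≃ₐ[A] S := IsLocalization.algEquiv p.primeCompl _ _
  letI : Algebra (Localization.AtPrime p) S := e.toRingEquiv.toRingHom.toAlgebra
  have : IsScalarTower A (Localization.AtPrime p) S :=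
    IsScalarTower.of_algebraMap_eq fun a => (e.commutes a).symm
  have hs : Function.Surjective (algebraMap (Localization.AtPrime p) S) := e.surjective
  let N := LocalizedModule (Submonoid.powers g) M
  let ε1 : LocalizedModule P.primeCompl N ≃ₗ[S] S ⊗[A] M :=
    (IsLocalizedModule.isBaseChange P.primeCompl S (LocalizedModule.mkLinearMap P.primeCompl N)).equiv.symm ≪≫ₗ
      AlgebraTensorModule.congr (LinearEquiv.refl S S)
        (IsLocalizedModule.isBaseChange (Submonoid.powers g) L
          (LocalizedModule.mkLinearMap (Submonoid.powers g) M)).equiv.symm ≪≫ₗ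
      AlgebraTensorModule.cancelBaseChange A L S S M
  let eS : Localization.AtPrime p ≃ₗ[Localization.AtPrime p] S :=
    LinearEquiv.ofBijective (Algebra.linearMap _ S) e.bijective
  let ε2 : LocalizedModule p.primeCompl M ≃ₗ[Localization.AtPrime p] S ⊗[A] M :=
    (IsLocalizedModule.isBaseChange p.primeCompl (Localization.AtPrime p)
      (LocalizedModule.mkLinearMap p.primeCompl M)).equiv.symm ≪≫ₗ
      AlgebraTensorModule.congr eS (LinearEquiv.refl A M)
  have : Module.Finite S (S ⊗[A] M) := inferInstance
  have : Module.Finite (Localization.AtPrime p) (S ⊗[A] M) := Module.Finite.equiv ε2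
  constructor
  · rw [Basic.depth_congr (M' := S ⊗[A] M) ε1, Basic.depth_congr (M' := S ⊗[A] M) ε2, Basic.depth_eq_of_surjective hs]
  · rw [Module.supportDim_eq_of_equiv (N := S ⊗[A] M) ε1, Module.supportDim_eq_of_equiv (N := S ⊗[A] M) ε2,
      Groth.Agent.H54.DimFlat.supportDim_eq_of_surjective hs]

theorem main (k : ℕ) (M : Type u) [AddCommGroup M] [Module A M] [Module.Finite A M] :
    LocCoh.HasSk k A M ↔
      ∀ (g : A) (rs : List (Localization.Away g)), rs.length < k →
        IsWeaklyRegular (LocalizedModule (Submonoid.powers g) M) rs →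
        ∀ p ∈ associatedPrimes (Localization.Away g)
            (LocalizedModule (Submonoid.powers g) M ⧸
              (Ideal.ofList rs • (⊤ : Submodule (Localization.Away g) (LocalizedModule (Submonoid.powers g) M)))),
          ∀ q ∈ associatedPrimes (Localization.Away g)
            (LocalizedModule (Submonoid.powers g) M ⧸
              (Ideal.ofList rs • (⊤ : Submodule (Localization.Away g) (LocalizedModule (Submonoid.powers g) M)))),
            p ≤ q → p = q := by
  constructor
  · intro h g rs hlen hreg p' hp' q hq hle
    by_contra hne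
    have hqp := IsAssociatedPrime.isPrime hq
    have : Module.Finite (Localization.Away g) (LocalizedModule (Submonoid.powers g) M) :=
      Module.Finite.of_isLocalizedModule (Submonoid.powers g) (Rₚ := Localization.Away g)
        (LocalizedModule.mkLinearMap (Submonoid.powers g) M)
    obtain ⟨hd0, hd1⟩ := of_lt_ass _ hp' hq (lt_of_le_of_ne hle hne)
    have hann := IsAssociatedPrime.annihilator_le hq
    rw [Submodule.annihilator_top] at hann
    have hmem : ∀ r ∈ rs, r ∈ q := fun r hr => hann (Module.mem_annihilator.2 fun z => by
      obtain ⟨z, rfl⟩ := Submodule.Quotient.mk_surjective _ z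
      rw [← Submodule.Quotient.mk_smul, Submodule.Quotient.mk_eq_zero]
      exact Submodule.smul_mem_smul (Ideal.subset_span hr) trivial)
    obtain ⟨e1, e2⟩ := quot_localized q rs _ hreg hmem
    rw [hd0, zero_add, (tower g M q).1] at e1
    rw [(tower g M q).2] at e2
    have hk := h (q.comap (algebraMap A (Localization.Away g)))
    rw [← e1, ← e2] at hk
    have h1 : ((rs.length + 1 : ℕ) : WithBot ℕ∞) ≤ min (k : WithBot ℕ∞)
        (Module.supportDim (Localization.AtPrime q) (LocalizedModule q.primeCompl
          (LocalizedModule (Submonoid.powers g) M ⧸ Ideal.ofList rs • (⊤ : Submodule (Localization.Away g)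
            (LocalizedModule (Submonoid.powers g) M)))) + rs.length) := by
      refine le_min (by exact_mod_cast hlen) ?_
      rw [Nat.cast_succ, add_comm]
      exact add_le_add hd1 le_rfl
    have := h1.trans hk
    norm_cast at this
    omega
  · intro h p hp
    set S := Localization.AtPrime p
    set Mp := LocalizedModule p.primeCompl M
    by_contra hc
    rw [not_le, lt_min_iff] at hc
    obtain ⟨hck, hcd⟩ := hc
    have hnt : Nontrivial Mp := by
      rw [← not_subsingleton_iff_nontrivial]
      intro hsub
      rw [Module.supportDim_eq_bot_of_subsingleton] at hcd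
      exact not_lt_bot hcd
    have := Module.Finite.of_isLocalizedModule p.primeCompl (Rₚ := S) (LocalizedModule.mkLinearMap p.primeCompl M)
    have hI := Basic.smul_top_ne_top (R := S) (M := Mp) (I := maximalIdeal S) Ideal.IsPrime.ne_top'
    obtain ⟨r, hr⟩ := Local.exists_nat_eq_idealDepth (maximalIdeal S) Mp hI
    have hrd : depth S Mp = r := hr
    rw [hrd] at hck hcd
    obtain ⟨ys, hyl, hym, hyreg⟩ := (Basic.le_idealDepth_iff_of_ne_top hI r).1 hr.ge
    have hnum : ∀ y : S, ∃ a : A, Associated y (algebraMap A S a) := fun y => by
      obtain ⟨⟨a, s⟩, hs⟩ := IsLocalization.surj p.primeCompl y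
      exact ⟨a, (IsLocalization.map_units S s).unit, hs⟩
    choose num hnum using hnum
    let as := ys.map num
    have hreg : IsWeaklyRegular Mp (as.map (algebraMap A S)) := by
      refine isWeaklyRegular_of_forall₂ ?_ hyreg
      rw [List.map_map, List.forall₂_map_right_iff, List.forall₂_same]
      exact fun y _ => hnum y
    obtain ⟨g, hg, hgreg⟩ := exists_spread p as M hreg
    have hreg' := hgreg g dvd_rfl
    let L := Localization.Away g
    let P := p.map (algebraMap A L)
    have hdisj : Disjoint (Submonoid.powers g : Set A) (p : Set A) := Set.disjoint_left.2 fun a ha h => by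
      obtain ⟨n, rfl⟩ := ha
      exact hg (hp.mem_of_pow_mem n h)
    have hP : P.IsPrime := IsLocalization.isPrime_of_isPrime_disjoint (Submonoid.powers g) L p hp hdisj
    have hPp : P.comap (algebraMap A L) = p :=
      IsLocalization.comap_map_of_isPrime_disjoint (Submonoid.powers g) L hp hdisj
    let N := LocalizedModule (Submonoid.powers g) M
    have : Module.Finite L N :=
      Module.Finite.of_isLocalizedModule (Submonoid.powers g) (Rₚ := L)
        (LocalizedModule.mkLinearMap (Submonoid.powers g) M)
    let rs : List L := as.map (algebraMap A L)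
    have hlen : rs.length = r := by simp [rs, as, hyl]
    have hmemP : ∀ z ∈ rs, z ∈ P := by
      intro z hz
      simp only [rs, as, List.map_map, List.mem_map, Function.comp_apply] at hz
      obtain ⟨y, hy, rfl⟩ := hz
      refine Ideal.mem_map_of_mem _ ?_
      rw [← IsLocalization.AtPrime.to_map_mem_maximal_iff S p]
      obtain ⟨u, hu⟩ := hnum y
      rw [← hu]
      exact Ideal.mul_mem_right _ _ (hym y hy)
    obtain ⟨e1, e2⟩ := quot_localized P rs N hreg' hmemP
    obtain ⟨t1, t2⟩ := tower g M P
    rw [t1, hlen] at e1
    rw [t2, hlen] at e2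
    have hd : depth (Localization.AtPrime p) (LocalizedModule p.primeCompl M) = r := hrd
    have hgen : ∀ (q : Ideal A) [q.IsPrime], q = p →
        depth (Localization.AtPrime q) (LocalizedModule q.primeCompl M) = r ∧
          ((r : ℕ∞) : WithBot ℕ∞) < Module.supportDim (Localization.AtPrime q) (LocalizedModule q.primeCompl M) := by
      intro q _ hq
      subst hq
      exact ⟨hd, hcd⟩
    obtain ⟨f1, f2⟩ := hgen _ hPp
    rw [f1] at e1
    rw [← e2] at f2
    have hz : depth (Localization.AtPrime P) (LocalizedModule P.primeCompl (N ⧸ Ideal.ofList rs • (⊤ : Submodule L N))) = 0 := by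
      have hfin := e1
      generalize depth (Localization.AtPrime P)
        (LocalizedModule P.primeCompl (N ⧸ Ideal.ofList rs • (⊤ : Submodule L N))) = d at hfin ⊢
      cases d with
      | top => simp at hfin
      | coe d => norm_cast at hfin ⊢; omega
    have hpos : ¬ Module.supportDim (Localization.AtPrime P)
        (LocalizedModule P.primeCompl (N ⧸ Ideal.ofList rs • (⊤ : Submodule L N))) ≤ 0 := fun hle => by
      refine f2.not_ge ?_
      refine (add_le_add hle le_rfl).trans ?_
      simp
    obtain ⟨hPa, Q, hQa, hQP⟩ := exists_lt_ass (N ⧸ Ideal.ofList rs • (⊤ : Submodule L N)) P hz hpos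
    have hk' : rs.length < k := by rw [hlen]; exact_mod_cast hck
    exact hQP.ne (h g rs hk' hreg' Q hQa P hPa hQP.le)

end Groth.Agent.H80.SkAss
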