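import Groth.Agent.H80.AvramovMapComplete
import Groth.Agent.H26.CITransNhd
import Groth.Agent.H26.CIResidual
import Groth.Agent.H18.FEquidim.Loc
import Groth.Agent.H24.CompletionFlat
import Groth.Agent.Lib.LCFin.FibreDepth

/-!
# Complete intersections and flat local maps
-/

set_option autoImplicit false
set_option linter.style.haveILetI false
set_option linter.unusedSectionVars false

universe u

open CategoryTheory IsLocalRing RingTheory.Sequence
open scoped Pointwise TensorProduct

namespace Groth.Agent.H80.AvramovFlat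

set_option backward.isDefEq.respectTransparency false in
/-- A local map of complete local rings factors through a flat map with regular closed fibre followed by
a surjection. -/
theorem exists_factor {A B : Type u} [CommRing A] [CommRing B] [IsNoetherianRing A]
    [IsNoetherianRing B] [IsLocalRing A] [IsLocalRing B]
    [IsAdicComplete (maximalIdeal A) A] [IsAdicComplete (maximalIdeal B) B]
    [Algebra A B] [IsLocalHom (algebraMap A B)] :
    ∃ (S : Type u) (_ : CommRing S) (_ : IsNoetherianRing S) (_ : IsLocalRing S) (_ : Algebra A S)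
      (_ : Module.Flat A S)
      (_ : IsRegularLocalRing (S ⧸ Ideal.map (algebraMap A S) (maximalIdeal A)))
      (g : S →ₐ[A] B), Function.Surjective g := by
  obtain ⟨Λ, Λ', _, _, _, _, n, m, ρ, σ, τ, -, -, -, hR, hP, hρ, hσ, hsq, hflat, hloc, hreg⟩ :=
    H68.CohenLift.exists_presentation (A := A) (B := B)
  haveI := hR
  haveI := hP
  let R := MvPowerSeries (Fin n) Λ
  let P := MvPowerSeries (Fin m) Λ'
  letI : Algebra R P := τ.toAlgebra
  haveI : Module.Flat R P := hflat
  haveI : IsRegularLocalRing (P ⧸ (maximalIdeal R).map (algebraMap R P)) := hreg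
  have hsq' : ∀ r, σ (τ r) = algebraMap A B (ρ r) := RingHom.congr_fun hsq
  let I : Ideal R := RingHom.ker ρ
  have hI : I ≠ ⊤ := RingHom.ker_ne_top ρ
  set IP := I.map (algebraMap R P) with hIPdef
  have hIJ : IP ≤ RingHom.ker σ := Ideal.map_le_iff_le_comap.mpr fun r hr => by
    change σ (τ r) = 0
    rw [hsq', show ρ r = 0 from hr, map_zero]
  let S' := P ⧸ IP
  let e : A ≃+* R ⧸ I := (RingHom.quotientKerEquivOfSurjective hρ).symm
  letI : Algebra (R ⧸ I) S' := Ideal.Quotient.algebraQuotientOfLEComap Ideal.le_comap_map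
  letI : Algebra A (R ⧸ I) := e.toRingHom.toAlgebra
  letI : Algebra A S' := ((algebraMap (R ⧸ I) S').comp e.toRingHom).toAlgebra
  haveI : IsScalarTower A (R ⧸ I) S' := IsScalarTower.of_algebraMap_eq fun _ => rfl
  haveI : IsScalarTower R (R ⧸ I) S' :=
    IsScalarTower.of_algebraMap_eq (R := R) (S := R ⧸ I) (A := S') fun _ => rfl
  haveI : Module.Flat A (R ⧸ I) :=
    Module.Flat.of_linearEquiv (LinearEquiv.ofBijective (Algebra.linearMap A (R ⧸ I)) e.bijective).symm
  haveI : Module.Flat (R ⧸ I) S' := by
    let e' : ((R ⧸ I) ⊗[R] P) ≃ₗ[R] S' :=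
      (TensorProduct.quotTensorEquivQuotSMul P I).trans
        ((Submodule.quotEquivOfEq _ (IP.restrictScalars R) (Ideal.smul_top_eq_map I)).trans
          (Submodule.Quotient.restrictScalarsEquiv R IP))
    exact Module.Flat.of_linearEquiv (e'.extendScalarsOfSurjective Ideal.Quotient.mk_surjective).symm
  haveI : Module.Flat A S' := Module.Flat.trans A (R ⧸ I) S'
  have hIPtop : IP ≠ ⊤ := fun h => RingHom.ker_ne_top σ (top_le_iff.mp (h ▸ hIJ))
  haveI : Nontrivial S' := Ideal.Quotient.nontrivial_iff.mpr hIPtop
  haveI : IsLocalRing S' := IsLocalRing.of_surjective' _ Ideal.Quotient.mk_surjective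
  have heρ : ∀ r, e (ρ r) = Ideal.Quotient.mk I r := fun r =>
    (RingHom.quotientKerEquivOfSurjective hρ).symm_apply_eq.mpr rfl
  have hm : (maximalIdeal A).map (algebraMap A S') =
      ((maximalIdeal R).map (algebraMap R P)).map (Ideal.Quotient.mk IP) := by
    rw [← IsLocalRing.map_maximalIdeal_of_surjective ρ hρ, Ideal.map_map, Ideal.map_map]
    congr 1
    refine RingHom.ext fun r => ?_
    change algebraMap (R ⧸ I) S' (e (ρ r)) = _
    rw [heρ]
    rfl
  haveI : IsRegularLocalRing (S' ⧸ (maximalIdeal A).map (algebraMap A S')) := by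
    have e2 : IP ⊔ (maximalIdeal R).map (algebraMap R P) = (maximalIdeal R).map (algebraMap R P) :=
      sup_eq_right.mpr (Ideal.map_mono (IsLocalRing.le_maximalIdeal hI))
    exact IsRegularLocalRing.of_ringEquiv
      ((Ideal.quotEquivOfEq e2.symm).trans ((DoubleQuot.quotQuotEquivQuotSup IP _).symm.trans
        (Ideal.quotEquivOfEq hm.symm)))
  let g : S' →+* B := Ideal.Quotient.lift IP σ hIJ
  have hg : ∀ a, g (algebraMap A S' a) = algebraMap A B a := by
    intro a
    obtain ⟨r, rfl⟩ := hρ a
    change g (algebraMap (R ⧸ I) S' (e (ρ r))) = _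
    rw [heρ]
    exact hsq' r
  exact ⟨S', inferInstance, inferInstance, inferInstance, inferInstance, inferInstance, inferInstance,
    { g with commutes' := hg }, Ideal.Quotient.lift_surjective_of_surjective IP hIJ hσ⟩

set_option backward.isDefEq.respectTransparency false in
/-- The complete case. -/
theorem complete {A B : Type u} [CommRing A] [CommRing B] [IsNoetherianRing A]
    [IsNoetherianRing B] [IsLocalRing A] [IsLocalRing B]
    [IsAdicComplete (maximalIdeal A) A] [IsAdicComplete (maximalIdeal B) B]
    [Algebra A B] [IsLocalHom (algebraMap A B)] [Module.Flat A B]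
    [IsLocalRing (B ⧸ (maximalIdeal A).map (algebraMap A B))] :
    Pi1.IsCompleteIntersection B ↔
      (Pi1.IsCompleteIntersection A ∧
        Pi1.IsCompleteIntersection (B ⧸ (maximalIdeal A).map (algebraMap A B))) := by
  classical
  have key : ∀ (S : Type u) [CommRing S] [Algebra A S] (g : S →ₐ[A] B), Function.Surjective g →
      ∃ ψ : S ⧸ (maximalIdeal A).map (algebraMap A S) →+* B ⧸ (maximalIdeal A).map (algebraMap A B),
        Function.Surjective ψ ∧ RingHom.ker ψ =
          (RingHom.ker g).map (Ideal.Quotient.mk ((maximalIdeal A).map (algebraMap A S))) := by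
    intro S _ _ g hg
    set 𝔪S := (maximalIdeal A).map (algebraMap A S)
    set 𝔪B := (maximalIdeal A).map (algebraMap A B)
    have hmap : 𝔪S.map (g : S →+* B) = 𝔪B := by
      rw [Ideal.map_map]
      congr 1
      exact RingHom.ext g.commutes
    let φ : S →+* B ⧸ 𝔪B := (Ideal.Quotient.mk 𝔪B).comp (g : S →+* B)
    have hφ : RingHom.ker φ = RingHom.ker g ⊔ 𝔪S := by
      rw [show RingHom.ker φ = (RingHom.ker (Ideal.Quotient.mk 𝔪B)).comap (g : S →+* B) from rfl,
        Ideal.mk_ker, ← hmap, Ideal.comap_map_of_surjective' (g : S →+* B) hg, sup_comm]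
      rfl
    refine ⟨Ideal.Quotient.lift 𝔪S φ fun x hx => hφ.ge (Ideal.mem_sup_right hx),
      Ideal.Quotient.lift_surjective_of_surjective _ _ (Ideal.Quotient.mk_surjective.comp hg), ?_⟩
    rw [Ideal.ker_quotient_lift, hφ, Ideal.map_sup, Ideal.map_quotient_self, sup_bot_eq]
  have hquot : ∀ (S : Type u) [CommRing S] [Algebra A S] (g : S →ₐ[A] B), Function.Surjective g →
      Module.Flat A (S ⧸ RingHom.ker g) := fun S _ _ g hg =>
    Module.Flat.of_linearEquiv (Ideal.quotientKerAlgEquivOfSurjective hg).toLinearEquiv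
  constructor
  · intro hB
    obtain ⟨hA, S, _, _, _, _, _, _, g, hg, rs, hrs, hreg⟩ :=
      AvramovMapComplete.main.mp ⟨hB, Set.Finite.subset (Set.finite_singleton 0) fun p hp => by
        by_contra hc
        exact hp (Lib.Tor.Module.subsingleton_tor_of_flat_left A B (ResidueField A) p
          (Nat.pos_of_ne_zero fun h => hc (by simp [h])))⟩
    haveI : IsLocalHom (algebraMap A S) := ⟨fun a ha => by
      have := ha.map g
      rw [g.commutes] at this
      exact isUnit_of_map_unit (algebraMap A B) a this⟩
    obtain ⟨ψ, hψ, hker⟩ := key S g hg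
    haveI := hquot S g hg
    exact ⟨hA, H26.CITransNhd.ci_of_weaklyRegular (RingHom.ker g)
      (IsLocalRing.le_maximalIdeal (RingHom.ker_ne_top g)) rs hreg.toIsWeaklyRegular hrs ψ hψ hker⟩
  · rintro ⟨hA, hF⟩
    obtain ⟨S, _, _, _, _, _, _, g, hg⟩ := exists_factor (A := A) (B := B)
    haveI : IsLocalHom (algebraMap A S) := ⟨fun a ha => by
      have := ha.map g
      rw [g.commutes] at this
      exact isUnit_of_map_unit (algebraMap A B) a this⟩
    obtain ⟨ψ, hψ, hker⟩ := key S g hg
    haveI := hquot S g hg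
    obtain ⟨rs, hrs, hgen⟩ := (H26.CITransNhd.ci_iff (RingHom.ker g) ψ hψ hker).mp hF
    have hlift : ∀ r ∈ rs, ∃ x ∈ RingHom.ker g, Ideal.Quotient.mk ((maximalIdeal A).map (algebraMap A S)) x = r := fun r hr =>
      (Ideal.mem_map_iff_of_surjective _ Ideal.Quotient.mk_surjective).mp
        (hgen.le (Ideal.subset_span hr))
    choose! l hl using hlift
    have hls : (rs.map l).map (Ideal.Quotient.mk ((maximalIdeal A).map (algebraMap A S))) = rs := by
      rw [List.map_map]
      exact (List.map_congr_left fun r hr => (hl r hr).2).trans (List.map_id' _)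
    have hlmem : ∀ x ∈ rs.map l, x ∈ RingHom.ker g := fun x hx => by
      obtain ⟨r, hr, rfl⟩ := List.mem_map.mp hx
      exact (hl r hr).1
    have hfs : Ideal.ofList (rs.map l) = RingHom.ker g :=
      H26.CITransversal.eq_of_fibre (RingHom.ker g) (IsNoetherian.noetherian _) (rs.map l) hlmem
        (by rw [Ideal.map_ofList, hls, hgen])
    have hw : IsWeaklyRegular S (rs.map l) := by
      refine Lib.LCFin.FibreDepth.isWeaklyRegular_of_fibre (A := A) (rs.map l) S ?_
      have e : (maximalIdeal A).map (algebraMap A S) • (⊤ : Submodule S S) = (maximalIdeal A).map (algebraMap A S) := by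
        rw [smul_eq_mul, Ideal.mul_top]
      rw [(Submodule.quotEquivOfEq _ _ e).isWeaklyRegular_congr,
        ← isWeaklyRegular_map_algebraMap_iff (S ⧸ (maximalIdeal A).map (algebraMap A S)), Ideal.Quotient.algebraMap_eq, hls]
      exact hrs.toIsWeaklyRegular
    have hmem : ∀ x ∈ rs.map l, x ∈ maximalIdeal S := fun x hx =>
      IsLocalRing.le_maximalIdeal (RingHom.ker_ne_top g) (hlmem x hx)
    exact (AvramovMapComplete.main.mpr ⟨hA, S, inferInstance, inferInstance, inferInstance,
      inferInstance, inferInstance, inferInstance, g, hg, rs.map l, hfs,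
      IsRegular.of_isWeaklyRegular_of_mem_maximalIdeal S hmem hw⟩).1

/-- A local ring and its completion are complete intersections simultaneously. -/
theorem ci_completion_iff {A : Type u} [CommRing A] [IsNoetherianRing A] [IsLocalRing A] :
    Pi1.IsCompleteIntersection (AdicCompletion (maximalIdeal A) A) ↔
      Pi1.IsCompleteIntersection A := by
  haveI : Module.Flat A (AdicCompletion (maximalIdeal A) A) := AdicCompletion.flat_of_isNoetherian _
  refine H26.CIResidual.ci_iff AdicCompletion.maximalIdeal_eq_map.symm fun b => ?_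
  obtain ⟨y, hy⟩ := (AdicCompletion.residueField_map_bijective A).2 (residue _ b)
  obtain ⟨a, rfl⟩ := residue_surjective y
  rw [ResidueField.map_residue] at hy
  exact ⟨a, Ideal.Quotient.eq.mp hy.symm⟩

set_option backward.isDefEq.respectTransparency false in
theorem main {A B : Type u} [CommRing A] [CommRing B] [IsNoetherianRing A]
    [IsNoetherianRing B] [IsLocalRing A] [IsLocalRing B] [Algebra A B]
    [IsLocalHom (algebraMap A B)] [Module.Flat A B]
    [IsLocalRing (B ⧸ (maximalIdeal A).map (algebraMap A B))] :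
    Pi1.IsCompleteIntersection B ↔
      (Pi1.IsCompleteIntersection A ∧
        Pi1.IsCompleteIntersection (B ⧸ (maximalIdeal A).map (algebraMap A B))) := by
  obtain ⟨φ, hφ⟩ := H18.FEquidim.Loc.exists_cplMap A B
  let Ah := AdicCompletion (maximalIdeal A) A
  let Bh := AdicCompletion (maximalIdeal B) B
  letI : Algebra Ah Bh := φ.toAlgebra
  haveI : IsScalarTower A Ah Bh := IsScalarTower.of_algebraMap_eq' (by
    rw [IsScalarTower.algebraMap_eq A B Bh]
    exact hφ.symm)
  haveI : Module.Flat Ah Bh := H24.CompletionFlat.flat_completion A B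
  have hmap : (maximalIdeal Ah).map (algebraMap Ah Bh) =
      ((maximalIdeal A).map (algebraMap A B)).map (algebraMap B Bh) := by
    rw [AdicCompletion.maximalIdeal_eq_map, Ideal.map_map, Ideal.map_map]
    exact congrArg (fun f => Ideal.map f _) hφ
  haveI : IsLocalHom (algebraMap Ah Bh) := by
    refine ((local_hom_TFAE (algebraMap Ah Bh)).out 0 2).mpr ?_
    rw [hmap, AdicCompletion.maximalIdeal_eq_map]
    exact Ideal.map_mono (map_maximalIdeal_le _)
  haveI : Nontrivial (Bh ⧸ (maximalIdeal Ah).map (algebraMap Ah Bh)) :=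
    Ideal.Quotient.nontrivial_iff.mpr (ne_top_of_le_ne_top Ideal.IsPrime.ne_top'
      (map_maximalIdeal_le (algebraMap Ah Bh)))
  haveI : IsLocalRing (Bh ⧸ (maximalIdeal Ah).map (algebraMap Ah Bh)) :=
    IsLocalRing.of_surjective' _ Ideal.Quotient.mk_surjective
  obtain ⟨e⟩ := H26.CICompose.nonempty_completion_quotient ((maximalIdeal A).map (algebraMap A B))
  rw [← ci_completion_iff (A := B), ← ci_completion_iff (A := A),
    ← ci_completion_iff (A := B ⧸ (maximalIdeal A).map (algebraMap A B)),
    ← H26.CICongr.iff (e.trans (Ideal.quotEquivOfEq hmap.symm))]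
  exact complete

end Groth.Agent.H80.AvramovFlat
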