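import Groth.Agent.H80.RelativeCI
import Groth.Agent.H68.CohenLift
import Groth.Agent.H26.CIDefect
import Groth.Agent.H26.CICompose
import Groth.Agent.H26.CICongr
import Groth.Agent.S2169

/-!
# Complete intersection homomorphisms of complete local rings
-/

set_option autoImplicit false
set_option linter.style.haveILetI false
set_option linter.unusedSectionVars false

universe u

open CategoryTheory IsLocalRing RingTheory.Sequence
open scoped Pointwise TensorProduct

namespace Groth.Agent.H80.AvramovMapComplete

/-- A quotient of a regular local ring by a regular sequence which is complete is a complete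
intersection. -/
theorem ci_of_presentation {R A : Type u} [CommRing R] [IsRegularLocalRing R] [CommRing A]
    [IsLocalRing A] [IsNoetherianRing A] [IsAdicComplete (maximalIdeal A) A] (ρ : R →+* A)
    (hρ : Function.Surjective ρ) (rs : List R) (hrs : Ideal.ofList rs = RingHom.ker ρ)
    (hreg : IsRegular R rs) : Pi1.IsCompleteIntersection A := by
  have hne : RingHom.ker ρ ≤ maximalIdeal R := IsLocalRing.le_maximalIdeal (RingHom.ker_ne_top ρ)
  exact ⟨R, inferInstance, inferInstance, rs, fun r hr => hne (hrs ▸ Ideal.subset_span hr), hreg,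
    ⟨(AdicCompletion.ofAlgEquiv (maximalIdeal A)).symm.toRingEquiv.trans
      ((RingHom.quotientKerEquivOfSurjective hρ).symm.trans (Ideal.quotEquivOfEq hrs.symm))⟩⟩

set_option backward.isDefEq.respectTransparency false in
theorem main {A B : Type u} [CommRing A] [CommRing B] [IsNoetherianRing A]
    [IsNoetherianRing B] [IsLocalRing A] [IsLocalRing B]
    [IsAdicComplete (maximalIdeal A) A] [IsAdicComplete (maximalIdeal B) B]
    [Algebra A B] [IsLocalHom (algebraMap A B)] :
    (Pi1.IsCompleteIntersection B ∧
        Set.Finite {p : ℕ | ¬Subsingleton (DRing.Tor A p B (ResidueField A))}) ↔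
      (Pi1.IsCompleteIntersection A ∧
        ∃ (S : Type u) (_ : CommRing S) (_ : IsNoetherianRing S) (_ : IsLocalRing S) (_ : Algebra A S)
          (_ : Module.Flat A S)
          (_ : IsRegularLocalRing (S ⧸ Ideal.map (algebraMap A S) (maximalIdeal A)))
          (g : S →ₐ[A] B), Function.Surjective g ∧
            ∃ rs : List S, Ideal.ofList rs = RingHom.ker g ∧ IsRegular S rs) := by
  constructor
  · rintro ⟨hB, hfin⟩
    obtain ⟨Λ, Λ', _, _, _, _, n, m, ρ, σ, τ, -, -, -, hR, hP, hρ, hσ, hsq, hflat, hloc, hreg⟩ :=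
      H68.CohenLift.exists_presentation (A := A) (B := B)
    haveI := hR
    haveI := hP
    haveI := hreg
    let R := MvPowerSeries (Fin n) Λ
    let P := MvPowerSeries (Fin m) Λ'
    letI : Algebra R P := τ.toAlgebra
    haveI : IsLocalHom (algebraMap R P) := hloc
    haveI : Module.Flat R P := hflat
    haveI : IsRegularLocalRing (P ⧸ (maximalIdeal R).map (algebraMap R P)) := hreg
    have hsq' : ∀ r, σ (τ r) = algebraMap A B (ρ r) := RingHom.congr_fun hsq
    let I : Ideal R := RingHom.ker ρ
    let J : Ideal P := RingHom.ker σ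
    have hI : I ≠ ⊤ := RingHom.ker_ne_top ρ
    have hJ : J ≠ ⊤ := RingHom.ker_ne_top σ
    set IP := I.map (algebraMap R P) with hIPdef
    have hIJ : IP ≤ J := Ideal.map_le_iff_le_comap.mpr fun r hr => by
      change σ (τ r) = 0
      rw [hsq', show ρ r = 0 from hr, map_zero]
    let S' := P ⧸ IP
    let e : A ≃+* R ⧸ I := (RingHom.quotientKerEquivOfSurjective hρ).symm
    letI : Algebra (R ⧸ I) S' := Ideal.Quotient.algebraQuotientOfLEComap Ideal.le_comap_map
    letI : Algebra A (R ⧸ I) := e.toRingHom.toAlgebra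
    letI : Algebra A S' := ((algebraMap (R ⧸ I) S').comp e.toRingHom).toAlgebra
    haveI : IsScalarTower A (R ⧸ I) S' := IsScalarTower.of_algebraMap_eq fun _ => rfl
    haveI : IsScalarTower R (R ⧸ I) S' := IsScalarTower.of_algebraMap_eq (R := R) (S := R ⧸ I) (A := S') fun _ => rfl
    haveI : Module.Flat A (R ⧸ I) :=
      Module.Flat.of_linearEquiv (LinearEquiv.ofBijective (Algebra.linearMap A (R ⧸ I)) e.bijective).symm
    haveI : Module.Flat (R ⧸ I) S' := by
      let e' : ((R ⧸ I) ⊗[R] P) ≃ₗ[R] S' :=
        (TensorProduct.quotTensorEquivQuotSMul P I).trans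
          ((Submodule.quotEquivOfEq _ (IP.restrictScalars R) (Ideal.smul_top_eq_map I)).trans
            (Submodule.Quotient.restrictScalarsEquiv R IP))
      exact Module.Flat.of_linearEquiv (e'.extendScalarsOfSurjective Ideal.Quotient.mk_surjective).symm
    haveI : Module.Flat A S' := Module.Flat.trans A (R ⧸ I) S'
    have hIPtop : IP ≠ ⊤ := fun h => hJ (top_le_iff.mp (h ▸ hIJ))
    haveI : Nontrivial S' := Ideal.Quotient.nontrivial_iff.mpr hIPtop
    haveI : IsLocalRing S' := IsLocalRing.of_surjective' _ Ideal.Quotient.mk_surjective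
    have heρ : ∀ r, e (ρ r) = Ideal.Quotient.mk I r := fun r =>
      (RingHom.quotientKerEquivOfSurjective hρ).symm_apply_eq.mpr rfl
    have hm : (maximalIdeal A).map (algebraMap A S') =
        ((maximalIdeal R).map (algebraMap R P)).map (Ideal.Quotient.mk IP) := by
      rw [← IsLocalRing.map_maximalIdeal_of_surjective ρ hρ, Ideal.map_map, Ideal.map_map]
      congr 1
      refine RingHom.ext fun r => ?_
      change algebraMap (R ⧸ I) S' (e (ρ r)) = _
      rw [heρ]
      rfl
    haveI : IsRegularLocalRing (S' ⧸ (maximalIdeal A).map (algebraMap A S')) := by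
      have e2 : IP ⊔ (maximalIdeal R).map (algebraMap R P) = (maximalIdeal R).map (algebraMap R P) :=
        sup_eq_right.mpr (Ideal.map_mono (IsLocalRing.le_maximalIdeal hI))
      exact IsRegularLocalRing.of_ringEquiv
        ((Ideal.quotEquivOfEq e2.symm).trans ((DoubleQuot.quotQuotEquivQuotSup IP _).symm.trans
          (Ideal.quotEquivOfEq hm.symm)))
    let g : S' →+* B := Ideal.Quotient.lift IP σ hIJ
    have hg : ∀ a, g (algebraMap A S' a) = algebraMap A B a := by
      intro a
      obtain ⟨r, rfl⟩ := hρ a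
      change g (algebraMap (R ⧸ I) S' (e (ρ r))) = _
      rw [heρ]
      exact hsq' r
    let gA : S' →ₐ[A] B := { g with commutes' := hg }
    have hgs : Function.Surjective g := Ideal.Quotient.lift_surjective_of_surjective IP hIJ hσ
    letI : Algebra S' B := g.toAlgebra
    haveI : IsScalarTower A S' B := IsScalarTower.of_algebraMap_eq fun a => (hg a).symm
    haveI : Module.Finite S' B := Module.Finite.of_surjective (Algebra.linearMap S' B) hgs
    obtain ⟨N, hN⟩ := hfin.bddAbove
    have hfd := FiberTorDim.hasFiniteTorDim_of_torVanish (S := S') (maximalIdeal A) N B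
      fun p hp => by_contra fun hc => absurd (hN hc) (not_le.mpr hp)
    -- transport to `P ⧸ J`
    letI : Algebra S' (P ⧸ J) := (Ideal.Quotient.factor hIJ).toAlgebra
    haveI : IsScalarTower P S' (P ⧸ J) := IsScalarTower.of_algebraMap_eq (R := P) (S := S') (A := P ⧸ J) fun _ => rfl
    let eB : B ≃ₗ[S'] (P ⧸ J) :=
      { (RingHom.quotientKerEquivOfSurjective hσ).symm.toAddEquiv with
        map_smul' := fun s b => by
          obtain ⟨p, rfl⟩ := Ideal.Quotient.mk_surjective s
          exact ((RingHom.quotientKerEquivOfSurjective hσ).symm.map_mul (σ p) b).trans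
            (congrArg (· * _) ((RingHom.quotientKerEquivOfSurjective hσ).symm_apply_eq.mpr rfl)) }
    obtain ⟨d, hd⟩ := hfd
    obtain ⟨h1, rs', hrs', hreg'⟩ := RegularExtend.main IP J hIJ hJ
      ⟨d, RelativeCI.hasTorDimLE_of_equiv eB hd⟩ (S2169.result σ hσ hB)
    obtain ⟨rs, hrs, hregR⟩ := RelativeCI.exists_regular_of_map I hI h1
    refine ⟨ci_of_presentation ρ hρ rs hrs hregR, S', inferInstance, inferInstance, inferInstance,
      inferInstance, inferInstance, inferInstance, gA, hgs, rs', hrs'.trans ?_, hreg'⟩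
    ext s
    obtain ⟨p, rfl⟩ := Ideal.Quotient.mk_surjective s
    rw [RingHom.mem_ker]
    change Ideal.Quotient.mk IP p ∈ J.map (Ideal.Quotient.mk IP) ↔ σ p = 0
    rw [Ideal.mem_map_iff_of_surjective _ Ideal.Quotient.mk_surjective]
    constructor
    · rintro ⟨q, hq, hqp⟩
      have := congrArg g hqp
      exact this.symm.trans hq
    · exact fun hp => ⟨p, hp, rfl⟩
  · rintro ⟨hA, S, _, _, _, _, _, _, g, hg, rs, hrs, hreg⟩
    haveI : IsLocalHom (algebraMap A S) := ⟨fun a ha => by
      have := ha.map g
      rw [g.commutes] at this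
      exact isUnit_of_map_unit (algebraMap A B) a this⟩
    have hS := (H26.CIDefect.ci_iff_of_regular_fibre (A := A) (B := S)).mpr hA
    have hker : RingHom.ker g ≤ maximalIdeal S := IsLocalRing.le_maximalIdeal (RingHom.ker_ne_top g)
    let ψ : (S ⧸ Ideal.ofList rs) ≃ₐ[A] B :=
      (Ideal.quotientEquivAlgOfEq A hrs).trans (Ideal.quotientKerAlgEquivOfSurjective hg)
    haveI : IsLocalRing (S ⧸ Ideal.ofList rs) := ψ.symm.toRingEquiv.isLocalRing
    refine ⟨(H26.CICongr.iff ψ.toRingEquiv).mpr (H26.CICompose.ci_quotient hS rs hreg.toIsWeaklyRegular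
      fun r hr => hker (hrs ▸ Ideal.subset_span hr)), ?_⟩
    have h0 : DRing.HasTorDimLE A 0 S := fun N _ _ p hp =>
      Lib.Tor.Module.subsingleton_tor_of_flat_left A S N p hp
    have h1 := RelativeCI.hasTorDimLE_quotient rs 0 S h0 hreg.toIsWeaklyRegular
    have e : (Ideal.ofList rs • (⊤ : Submodule S S)) = Ideal.ofList rs := by
      rw [smul_eq_mul, Ideal.mul_top]
    have h2 := RelativeCI.hasTorDimLE_of_equiv
      (((Submodule.quotEquivOfEq _ _ e).restrictScalars A).trans ψ.toLinearEquiv) h1
    refine Set.Finite.subset (Set.finite_Iic (0 + rs.length)) fun p hp => ?_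
    by_contra hc
    exact hp (h2 _ p (not_le.mp hc))

end Groth.Agent.H80.AvramovMapComplete
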