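import Groth.Agent.Lib.BlowUpExists.Charts
import Groth.Prelude.Def_CurvBase

/-!
# The blowing up in an ideal of `A` which is a free ideal of an overring
-/

set_option autoImplicit false
set_option backward.isDefEq.respectTransparency false
universe u

open CategoryTheory CategoryTheory.Limits AlgebraicGeometry TopologicalSpace

namespace Groth.Agent.H80.BlowUpConductor

open Groth.Agent.Lib.Ideal Groth.Agent.Lib.BlowUpExists

variable {A B : Type u} [CommRing A] [CommRing B] [Algebra A B]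
  (hinj : Function.Injective (algebraMap A B)) (I : Ideal A)
  (hIB : (Ideal.map (algebraMap A B) I : Set B) ⊆ algebraMap A B '' (I : Set A))

include hinj hIB in
theorem existsUnique_lift {R : Type u} [CommRing R] (φ : A →+* R) (t : R) (ht : t ∈ nonZeroDivisors R)
    (hmap : I.map φ = Ideal.span {t}) : ∃! ψ : B →+* R, ψ.comp (algebraMap A B) = φ := by
  have hμ : ∀ (b : B) (x : A), x ∈ I → ∃ y ∈ I, algebraMap A B y = b * algebraMap A B x :=
    fun b x hx => hIB (Ideal.mul_mem_left _ b (Ideal.mem_map_of_mem _ hx))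
  choose! μ hμI hμ using hμ
  have hswap : ∀ b x y, x ∈ I → y ∈ I → μ b y * x = μ b x * y := fun b x y hx hy => hinj (by
    rw [map_mul, map_mul, hμ b y hy, hμ b x hx]; ring)
  have ht' : t ∈ I.map φ := hmap ▸ Ideal.mem_span_singleton_self t
  have hcancel : ∀ q q' : R, (∀ x ∈ I, q * φ x = q' * φ x) → q = q' := by
    intro q q' h
    have : ∀ z ∈ I.map φ, q * z = q' * z := by
      intro z hz
      induction hz using Submodule.span_induction with
      | mem z hz => obtain ⟨x, hx, rfl⟩ := hz; exact h x hx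
      | zero => rw [mul_zero, mul_zero]
      | add z w _ _ hz hw => rw [mul_add, mul_add, hz, hw]
      | smul r z _ hz => rw [smul_eq_mul, mul_left_comm, hz, mul_left_comm]
    exact (mul_cancel_right_mem_nonZeroDivisors ht).mp (this t ht')
  have hex : ∀ b, ∃ q : R, ∀ x ∈ I, q * φ x = φ (μ b x) := by
    intro b
    have key : ∀ z ∈ I.map φ, ∃ e ∈ I.map φ, ∀ x ∈ I, e * φ x = z * φ (μ b x) := by
      intro z hz
      induction hz using Submodule.span_induction with
      | mem z hz =>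
        obtain ⟨y, hy, rfl⟩ := hz
        refine ⟨φ (μ b y), Ideal.mem_map_of_mem _ (hμI b y hy), fun x hx => ?_⟩
        rw [← map_mul, ← map_mul, hswap b x y hx hy, mul_comm]
      | zero => exact ⟨0, zero_mem _, fun x _ => by rw [zero_mul, zero_mul]⟩
      | add z w _ _ hz hw =>
        obtain ⟨e, he, hez⟩ := hz
        obtain ⟨e', he', hew⟩ := hw
        exact ⟨e + e', add_mem he he', fun x hx => by rw [add_mul, add_mul, hez x hx, hew x hx]⟩
      | smul r z _ hz =>
        obtain ⟨e, he, hez⟩ := hz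
        exact ⟨r * e, Ideal.mul_mem_left _ r he, fun x hx => by
          rw [smul_eq_mul, mul_assoc, hez x hx, mul_assoc]⟩
    obtain ⟨e, he, hex⟩ := key t ht'
    rw [hmap] at he
    obtain ⟨q, rfl⟩ := Ideal.mem_span_singleton'.mp he
    refine ⟨q, fun x hx => (mul_cancel_right_mem_nonZeroDivisors ht).mp ?_⟩
    rw [mul_right_comm, hex x hx, mul_comm]
  choose q hq using hex
  have hμ_eq : ∀ b x y, x ∈ I → algebraMap A B y = b * algebraMap A B x → μ b x = y :=
    fun b x y hx h => hinj ((hμ b x hx).trans h.symm)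
  let ψ : B →+* R :=
    { toFun := q
      map_one' := hcancel _ _ fun x hx => by rw [hq 1 x hx, hμ_eq 1 x x hx (one_mul _).symm, one_mul]
      map_mul' := fun b c => hcancel _ _ fun x hx => by
        rw [hq (b * c) x hx, mul_assoc, hq c x hx, hq b _ (hμI c x hx)]
        exact congrArg φ (hμ_eq _ x _ hx (by rw [hμ b _ (hμI c x hx), hμ c x hx, mul_assoc]))
      map_zero' := hcancel _ _ fun x hx => by
        rw [hq 0 x hx, hμ_eq 0 x 0 hx (by simp), map_zero, zero_mul]
      map_add' := fun b c => hcancel _ _ fun x hx => by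
        rw [hq (b + c) x hx, add_mul, hq b x hx, hq c x hx, ← map_add]
        exact congrArg φ (hμ_eq _ x _ hx (by rw [map_add, hμ b x hx, hμ c x hx, add_mul])) }
  refine ⟨ψ, RingHom.ext fun a => hcancel _ _ fun x hx => ?_, fun χ hχ => RingHom.ext fun b =>
    hcancel _ _ fun x hx => ?_⟩
  · show q (algebraMap A B a) * φ x = φ a * φ x
    rw [hq _ x hx, hμ_eq _ x (a * x) hx (map_mul _ _ _), map_mul]
  · show χ b * φ x = q b * φ x
    rw [hq b x hx, ← hχ, RingHom.comp_apply, RingHom.comp_apply, hμ b x hx, map_mul]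

/-- The ideal of `idealSheaf A I` on the whole spectrum. -/
theorem ideal_top_idealSheaf :
    (Curv2.idealSheaf A I).ideal ⟨⊤, isAffineOpen_top _⟩ =
      I.map (Scheme.ΓSpecIso (CommRingCat.of A)).inv.hom :=
  Scheme.IdealSheafData.equivOfIsAffine.right_inv _

theorem ideal_top_specMap {R : CommRingCat.{u}} (φ : CommRingCat.of A ⟶ R) :
    ((Curv2.idealSheaf A I).comap (Spec.map φ)).ideal ⟨⊤, isAffineOpen_top _⟩ =
      (I.map φ.hom).map (Scheme.ΓSpecIso R).inv.hom := by
  rw [Comap.ideal_comap_top, ideal_top_idealSheaf, Ideal.map_map, Ideal.map_map,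
    ← CommRingCat.hom_comp, ← CommRingCat.hom_comp]
  congr 2
  exact (Scheme.ΓSpecIso_inv_naturality φ).symm

theorem map_eq_span_of_iso {R S : CommRingCat.{u}} (e : R ≅ S) {J : Ideal R} {s : S}
    (h : J.map e.hom.hom = Ideal.span {s}) : J = Ideal.span {e.inv.hom s} := by
  have := congrArg (Ideal.map e.inv.hom) h
  rwa [Ideal.map_map, ← CommRingCat.hom_comp, e.hom_inv_id, CommRingCat.hom_id, Ideal.map_id,
    Ideal.map_span, Set.image_singleton] at this

theorem nzd_iso {R S : CommRingCat.{u}} (e : R ≅ S) {s : R} (hs : s ∈ nonZeroDivisors R) :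
    e.hom.hom s ∈ nonZeroDivisors S :=
  map_mem_nonZeroDivisors' e.commRingCatIsoToRingEquiv hs
where map_mem_nonZeroDivisors' {R S : Type u} [CommRing R] [CommRing S] (e : R ≃+* S) {s : R}
    (hs : s ∈ nonZeroDivisors R) : e s ∈ nonZeroDivisors S :=
  mem_nonZeroDivisors_iff_right.mpr fun x hx => e.symm.injective (by
    rw [map_zero]
    refine mem_nonZeroDivisors_iff_right.mp hs _ (e.injective ?_)
    rw [map_mul, e.apply_symm_apply, hx, map_zero])

variable {I}

theorem local_data {Y : Scheme.{u}} (g : Y ⟶ Spec (CommRingCat.of A))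
    (hg : BlowUp.IsEffCartierIdeal ((Curv2.idealSheaf A I).comap g)) (y : Y) :
    ∃ (W : Y.affineOpens) (φ : CommRingCat.of A ⟶ Γ(Y, W.1)) (t : Γ(Y, W.1)), y ∈ W.1 ∧
      Spec.map φ = W.2.fromSpec ≫ g ∧ t ∈ nonZeroDivisors Γ(Y, W.1) ∧
      I.map φ.hom = Ideal.span {t} := by
  obtain ⟨W, hyW, t, ht, htW⟩ := hg y
  obtain ⟨φ, hφ⟩ : ∃ φ, Spec.map φ = W.2.fromSpec ≫ g := ⟨Spec.preimage _, Spec.map_preimage _⟩
  refine ⟨W, φ, t, hyW, hφ, ht, ?_⟩
  have e₁ : (⊤ : (Spec Γ(Y, W.1)).Opens) ≤ W.2.fromSpec ⁻¹ᵁ W.1 := by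
    intro z _
    exact W.2.range_fromSpec.le ⟨_, rfl⟩
  have h₁ : W.2.fromSpec.appLE W.1 ⊤ e₁ = (Scheme.ΓSpecIso Γ(Y, W.1)).inv := by
    rw [Scheme.Hom.appLE, W.2.fromSpec_app_self, Category.assoc, ← Functor.map_comp]
    exact (congrArg (_ ≫ ·) (CategoryTheory.Functor.map_id _ _)).trans (Category.comp_id _)
  have h2 := ideal_top_specMap I φ
  rw [hφ, Scheme.IdealSheafData.comap_comp,
    Comap.ideal_comap _ _ W ⟨⊤, isAffineOpen_top _⟩ e₁, h₁, htW, Ideal.map_span, Set.image_singleton] at h2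
  have := map_eq_span_of_iso (Scheme.ΓSpecIso Γ(Y, W.1)).symm h2.symm
  simpa [← ConcreteCategory.comp_apply] using this

include hinj hIB in
theorem hom_ext {Y : Scheme.{u}} (g : Y ⟶ Spec (CommRingCat.of A))
    (hg : BlowUp.IsEffCartierIdeal ((Curv2.idealSheaf A I).comap g))
    {h h' : Y ⟶ Spec (CommRingCat.of B)}
    (e : h ≫ Spec.map (CommRingCat.ofHom (algebraMap A B)) = g)
    (e' : h' ≫ Spec.map (CommRingCat.ofHom (algebraMap A B)) = g) : h = h' := by
  choose W φ t hyW hφ ht hmap using local_data g hg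
  refine (Y.openCoverOfIsOpenCover (fun y => (W y).1) (TopologicalSpace.IsOpenCover.mk
    (eq_top_iff.mpr fun y _ => Opens.mem_iSup.mpr ⟨y, hyW y⟩))).hom_ext _ _ fun y => ?_
  show (W y).1.ι ≫ h = (W y).1.ι ≫ h'
  rw [← (W y).2.isoSpec_hom_fromSpec, Category.assoc, Category.assoc]
  congr 1
  obtain ⟨ψ, hψ⟩ : ∃ ψ, Spec.map ψ = (W y).2.fromSpec ≫ h := ⟨Spec.preimage _, Spec.map_preimage _⟩
  obtain ⟨ψ', hψ'⟩ : ∃ ψ, Spec.map ψ = (W y).2.fromSpec ≫ h' := ⟨Spec.preimage _, Spec.map_preimage _⟩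
  have key : ∀ (k : Y ⟶ Spec (CommRingCat.of B)) (χ : CommRingCat.of B ⟶ Γ(Y, (W y).1)),
      k ≫ Spec.map (CommRingCat.ofHom (algebraMap A B)) = g → Spec.map χ = (W y).2.fromSpec ≫ k →
      χ.hom.comp (algebraMap A B) = (φ y).hom := by
    intro k χ hk hχ
    have : CommRingCat.ofHom (algebraMap A B) ≫ χ = φ y := by
      refine Spec.map_injective ?_
      rw [Spec.map_comp, hφ y, ← hk, hχ, Category.assoc]
    exact congrArg (fun f => f.hom) this
  rw [← hψ, ← hψ']
  congr 1
  exact CommRingCat.hom_ext ((existsUnique_lift hinj I hIB (φ y).hom (t y) (ht y) (hmap y)).unique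
    (key h ψ e hψ) (key h' ψ' e' hψ'))

include hinj hIB in
theorem isBlowUp (f : B) (hf : f ∈ nonZeroDivisors B)
    (hgen : Ideal.map (algebraMap A B) I = Ideal.span {f}) :
    BlowUp.IsBlowUp (Spec.map (CommRingCat.ofHom (algebraMap A B))) (Curv2.idealSheaf A I) := by
  refine ⟨fun x => ⟨⟨⊤, isAffineOpen_top _⟩, trivial,
    (Scheme.ΓSpecIso (CommRingCat.of B)).inv.hom f, nzd_iso (Scheme.ΓSpecIso (CommRingCat.of B)).symm hf, ?_⟩,
    fun Y g hg => ?_⟩
  · rw [ideal_top_specMap, CommRingCat.hom_ofHom, hgen, Ideal.map_span, Set.image_singleton]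
  choose W φ t hyW hφ ht hmap using local_data g hg
  have loc : ∀ y : Y, ∃ k : (W y).1.toScheme ⟶ Spec (CommRingCat.of B),
      k ≫ Spec.map (CommRingCat.ofHom (algebraMap A B)) = (W y).1.ι ≫ g := by
    intro y
    obtain ⟨ψ, hψ, -⟩ := existsUnique_lift hinj I hIB (φ y).hom (t y) (ht y) (hmap y)
    refine ⟨(W y).2.isoSpec.hom ≫ Spec.map (CommRingCat.ofHom ψ), ?_⟩
    rw [Category.assoc, ← Spec.map_comp, ← CommRingCat.ofHom_comp, hψ, CommRingCat.ofHom_hom, hφ y,
      IsAffineOpen.isoSpec_hom_fromSpec_assoc]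
  choose k hk using loc
  let 𝒰 := Y.openCoverOfIsOpenCover (fun y => (W y).1) (TopologicalSpace.IsOpenCover.mk
    (eq_top_iff.mpr fun y _ => Opens.mem_iSup.mpr ⟨y, hyW y⟩))
  have hcompat : ∀ y y' : Y, pullback.fst (W y).1.ι (W y').1.ι ≫ k y =
      pullback.snd (W y).1.ι (W y').1.ι ≫ k y' := by
    intro y y'
    refine hom_ext hinj hIB (pullback.fst (W y).1.ι (W y').1.ι ≫ (W y).1.ι ≫ g) ?_ ?_ ?_
    · rw [← Category.assoc, Scheme.IdealSheafData.comap_comp]
      exact EffCartier.isEffCartier_comap_of_flat _ hg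
    · exact (Category.assoc _ _ _).trans (congrArg (pullback.fst _ _ ≫ ·) (hk y))
    · refine (Category.assoc _ _ _).trans ((congrArg (pullback.snd _ _ ≫ ·) (hk y')).trans ?_)
      exact (pullback.condition_assoc g).symm
  have hglue : 𝒰.glueMorphisms k hcompat ≫ Spec.map (CommRingCat.ofHom (algebraMap A B)) = g := by
    refine 𝒰.hom_ext _ _ fun y => ?_
    rw [← Category.assoc]
    exact (congrArg (· ≫ Spec.map (CommRingCat.ofHom (algebraMap A B))) (𝒰.ι_glueMorphisms _ _ y)).trans (hk y)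
  exact ⟨_, hglue, fun h' hh' => hom_ext hinj hIB g hg hh' hglue⟩

end Groth.Agent.H80.BlowUpConductor
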