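import Groth.Agent.H80.AvramovFlat
import Groth.Agent.H26.CISpread
import Mathlib.RingTheory.RingHom.Flat

/-!
# Localizations of complete intersections
-/

set_option autoImplicit false
set_option linter.style.haveILetI false

universe u

open IsLocalRing RingTheory.Sequence

namespace Groth.Agent.H80.CILocalization

theorem main {A : Type u} [CommRing A] [IsNoetherianRing A] [IsLocalRing A]
    (hA : Pi1.IsCompleteIntersection A) (p : Ideal A) [p.IsPrime] :
    Pi1.IsCompleteIntersection (Localization.AtPrime p) := by
  let Ah := AdicCompletion (maximalIdeal A) A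
  haveI : Module.Flat A Ah := AdicCompletion.flat_of_isNoetherian _
  haveI : Module.FaithfullyFlat A Ah := Module.FaithfullyFlat.of_flat_of_isLocalHom
  obtain ⟨⟨P, hP⟩, hPp⟩ :=
    PrimeSpectrum.comap_surjective_of_faithfullyFlat (A := A) (B := Ah) ⟨p, inferInstance⟩
  have hQ : p = P.comap (algebraMap A Ah) := (congrArg PrimeSpectrum.asIdeal hPp).symm
  let ψ := Localization.localRingHom p P (algebraMap A Ah) hQ
  letI : Algebra (Localization.AtPrime p) (Localization.AtPrime P) := ψ.toAlgebra
  haveI : IsLocalHom (algebraMap (Localization.AtPrime p) (Localization.AtPrime P)) :=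
    Localization.isLocalHom_localRingHom p P (algebraMap A Ah) hQ
  haveI : Module.Flat (Localization.AtPrime p) (Localization.AtPrime P) :=
    RingHom.Flat.localRingHom (RingHom.flat_algebraMap_iff.mpr inferInstance) P p hQ
  haveI : IsNoetherianRing (Localization.AtPrime P) :=
    IsLocalization.isNoetherianRing P.primeCompl _ inferInstance
  haveI : Nontrivial (Localization.AtPrime P ⧸
      (maximalIdeal (Localization.AtPrime p)).map
        (algebraMap (Localization.AtPrime p) (Localization.AtPrime P))) :=
    Ideal.Quotient.nontrivial_iff.mpr (ne_top_of_le_ne_top Ideal.IsPrime.ne_top'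
      (map_maximalIdeal_le (algebraMap (Localization.AtPrime p) (Localization.AtPrime P))))
  haveI : IsLocalRing (Localization.AtPrime P ⧸
      (maximalIdeal (Localization.AtPrime p)).map
        (algebraMap (Localization.AtPrime p) (Localization.AtPrime P))) :=
    IsLocalRing.of_surjective' _ Ideal.Quotient.mk_surjective
  suffices h : Pi1.IsCompleteIntersection (Localization.AtPrime P) from
    ((AvramovFlat.main (A := Localization.AtPrime p) (B := Localization.AtPrime P)).mp h).1
  obtain ⟨R, _, _, rs, hrs, hreg, ⟨e⟩⟩ := hA
  haveI : IsNoetherianRing (R ⧸ Ideal.span {r | r ∈ rs}) := inferInstance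
  let I : Ideal R := Ideal.span {r | r ∈ rs}
  let x : PrimeSpectrum (R ⧸ I) := ⟨P.comap (e.symm : (R ⧸ I) →+* Ah), inferInstance⟩
  have hmap : P.primeCompl.map (e : Ah →+* R ⧸ I).toMonoidHom = x.asIdeal.primeCompl := by
    ext z
    constructor
    · rintro ⟨a, ha, rfl⟩ hz
      exact ha (by simpa [x] using hz)
    · exact fun hz => ⟨e.symm z, hz, e.apply_symm_apply z⟩
  let E : Localization.AtPrime P ≃+* Localization.AtPrime x.asIdeal :=
    IsLocalization.ringEquivOfRingEquiv (Localization.AtPrime P) (Localization.AtPrime x.asIdeal) e hmap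
  rw [← H26.CICongr.iff E, H26.CISpread.ci_iff I x]
  refine ⟨rs.map (algebraMap R (Localization.AtPrime (x.asIdeal.comap (Ideal.Quotient.mk I)))), ?_,
    (Ideal.map_ofList _ _).symm⟩
  refine hreg.toIsWeaklyRegular.isRegular_of_isLocalization_of_mem
    (Localization.AtPrime (x.asIdeal.comap (Ideal.Quotient.mk I))) (x.asIdeal.comap (Ideal.Quotient.mk I))
    fun r hr => ?_
  rw [Ideal.mem_comap, Ideal.Quotient.eq_zero_iff_mem.mpr (show r ∈ I from Ideal.subset_span (show r ∈ {r | r ∈ rs} from hr))]
  exact zero_mem _

theorem iff_atMaximal {A : Type u} [CommRing A] [IsNoetherianRing A] :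
    (∀ (p : Ideal A) [p.IsPrime], Pi1.IsCompleteIntersection (Localization.AtPrime p)) ↔
    (∀ (m : Ideal A) [m.IsMaximal], Pi1.IsCompleteIntersection (Localization.AtPrime m)) := by
  refine ⟨fun h m _ => h m, fun h p _ => ?_⟩
  obtain ⟨m, hm, hpm⟩ := Ideal.exists_le_maximal p Ideal.IsPrime.ne_top'
  haveI := hm
  have hd : Disjoint (m.primeCompl : Set A) p := Set.disjoint_left.mpr fun a ha hp => ha (hpm hp)
  haveI := IsLocalization.isPrime_of_isPrime_disjoint m.primeCompl (Localization.AtPrime m) p
    inferInstance hd
  let q := p.map (algebraMap A (Localization.AtPrime m))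
  have hq : q.comap (algebraMap A (Localization.AtPrime m)) = p :=
    IsLocalization.comap_map_of_isPrime_disjoint m.primeCompl (Localization.AtPrime m) inferInstance hd
  haveI : IsNoetherianRing (Localization.AtPrime m) :=
    IsLocalization.isNoetherianRing m.primeCompl _ inferInstance
  haveI : IsNoetherianRing (Localization.AtPrime q) :=
    IsLocalization.isNoetherianRing q.primeCompl _ inferInstance
  have h1 := main (h m) q
  haveI : IsLocalization.AtPrime (Localization.AtPrime q) p := by
    have h2 := IsLocalization.isLocalization_isLocalization_atPrime_isLocalization m.primeCompl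
      (S := Localization.AtPrime m) (Localization.AtPrime q) q
    revert h2
    simp only [IsLocalization.AtPrime]
    rw [show (q.comap (algebraMap A (Localization.AtPrime m))).primeCompl = p.primeCompl from
      Submonoid.ext fun a => not_congr (by rw [hq])]
    exact id
  haveI : IsNoetherianRing (Localization.AtPrime p) :=
    IsLocalization.isNoetherianRing p.primeCompl _ inferInstance
  exact (H26.CICongr.iff (IsLocalization.algEquiv p.primeCompl (Localization.AtPrime p)
    (Localization.AtPrime q)).toRingEquiv).mp h1

end Groth.Agent.H80.CILocalization
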