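import Groth.Prelude.Def_EtCech
import Groth.Agent.Lib.EtSite.DisjointCover
import Mathlib.AlgebraicGeometry.Limits
import Mathlib.CategoryTheory.Limits.Shapes.ConcreteCategory

/-!
The Čech complex of a finite family of étale schemes over `U` and that of their disjoint union.
-/

universe u

open CategoryTheory CategoryTheory.Limits AlgebraicGeometry Opposite
open Groth.Agent.Lib.EtSite

noncomputable section

namespace Groth.Agent.H80.CechDisjoint

section Cofan

variable {ι : Type (u + 1)} [Finite ι] {g : ι → Scheme.{u}} {S : Scheme.{u}} {f : ∀ i, g i ⟶ S}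
  (hc : IsColimit (Cofan.mk S f))

include hc

theorem inj_eq (i : ι) :
    f i = Sigma.ι g i ≫ ((coproductIsCoproduct g).coconePointUniqueUpToIso hc).hom :=
  (IsColimit.comp_coconePointUniqueUpToIso_hom (coproductIsCoproduct g) hc ⟨i⟩).symm

theorem isOpenImmersion_inj (i : ι) : IsOpenImmersion (f i) := by
  rw [inj_eq hc i]
  exact IsOpenImmersion.comp _ _

theorem exists_inj_eq (s : S) : ∃ (i : ι) (x : g i), (f i).base x = s := by
  let e := (coproductIsCoproduct g).coconePointUniqueUpToIso hc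
  have : ∃ (i : ι) (x : g i), (Sigma.ι g i).base x = e.inv.base s :=
    (sigmaOpenCover g).exists_eq (e.inv.base s)
  obtain ⟨i, x, hx⟩ := this
  refine ⟨i, x, ?_⟩
  rw [inj_eq hc i]
  change e.hom.base ((Sigma.ι g i).base x) = _
  rw [hx]
  exact congrArg (fun m => m.base s) e.inv_hom_id

theorem inj_eq_iff (i j : ι) (x : g i) (y : g j) (h : (f i).base x = (f j).base y) : i = j := by
  let e := (coproductIsCoproduct g).coconePointUniqueUpToIso hc
  rw [inj_eq hc i, inj_eq hc j] at h
  have h' : e.hom.base ((Sigma.ι g i).base x) = e.hom.base ((Sigma.ι g j).base y) := h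
  have hr : ∀ z, e.inv.base (e.hom.base z) = z := fun z => congrArg (fun m => m.base z) e.hom_inv_id
  exact congrArg Sigma.fst ((sigmaι_eq_iff g i j x y).1
    ((hr _).symm.trans ((congrArg e.inv.base h').trans (hr _))))

end Cofan

variable {X : Scheme.{u}} (F : EtCoh.Ab X) {U : X.Etale} [HasFiniteProducts (Over U)]
  {ι : Type (u + 1)} [Finite ι] (Uf : ι → Over U) {V : Over U} (incl : ∀ i, Uf i ⟶ V)
  (hV : IsColimit (Cofan.mk V.left.left fun i => (incl i).left.left))

section Power

variable {α : Type} [Finite α] (x : α → ι)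

/-- The map between the two products. -/
abbrev cmp : ∏ᶜ (Uf ∘ x) ⟶ ∏ᶜ fun _ : α => V :=
  Limits.Pi.map fun a => incl (x a)

/-- The set of points all whose coordinates lie in the prescribed members. -/
def pieceSet : Set ↥(∏ᶜ fun _ : α => V : Over U).left.left :=
  ⋂ a, (Limits.Pi.π (fun _ : α => V) a).left.left.base ⁻¹' Set.range (incl (x a)).left.left.base

include hV in
theorem isOpen_pieceSet : IsOpen (pieceSet Uf incl x) :=
  isOpen_iInter_of_finite fun a => by
    haveI := isOpenImmersion_inj hV (x a)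
    exact (incl (x a)).left.left.isOpenEmbedding.isOpen_range.preimage
      (Limits.Pi.π (fun _ : α => V) a).left.left.base.hom.continuous

include hV in
/-- The comparison is an open immersion onto `pieceSet`. -/
theorem cmp_range :
    IsOpenImmersion (cmp Uf incl x).left.left ∧
      ∀ w ∈ pieceSet Uf incl x, ∃ p, (cmp Uf incl x).left.left.base p = w := by
  let W : Over U := ∏ᶜ fun _ : α => V
  let O : W.left.left.Opens := ⟨pieceSet Uf incl x, isOpen_pieceSet Uf incl hV x⟩
  haveI : Etale W.left.hom := W.left.prop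
  let Oet : X.Etale := MorphismProperty.Over.mk ⊤ (O.ι ≫ W.left.hom)
    (inferInstance : Etale (O.ι ≫ W.left.hom))
  let ι0 : Oet ⟶ W.left := MorphismProperty.Over.homMk O.ι
  let OU : Over U := Over.mk (ι0 ≫ W.hom)
  let ιU : OU ⟶ W := Over.homMk ι0
  have hsub : ∀ a, Set.range (O.ι ≫ (Limits.Pi.π (fun _ : α => V) a).left.left).base ⊆
      Set.range (incl (x a)).left.left.base := by
    rintro a _ ⟨o, rfl⟩
    exact Set.mem_iInter.1 o.2 a
  haveI := fun a => isOpenImmersion_inj hV (x a)
  let l : ∀ a, O.toScheme ⟶ (Uf (x a)).left.left := fun a =>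
    IsOpenImmersion.lift (incl (x a)).left.left
      (O.ι ≫ (Limits.Pi.π (fun _ : α => V) a).left.left) (hsub a)
  have hl : ∀ a, l a ≫ (incl (x a)).left.left = O.ι ≫ (Limits.Pi.π (fun _ : α => V) a).left.left :=
    fun a => IsOpenImmersion.lift_fac _ _ _
  let b : ∀ a, Oet ⟶ (Uf (x a)).left := fun a => MorphismProperty.Over.homMk (l a) (by
    change l a ≫ (Uf (x a)).left.hom = O.ι ≫ W.left.hom
    rw [← MorphismProperty.Over.w (incl (x a)).left, ← Category.assoc, hl, Category.assoc]
    exact congrArg (O.ι ≫ ·) (MorphismProperty.Over.w (Limits.Pi.π (fun _ : α => V) a).left))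
  have hb : ∀ a, b a ≫ (incl (x a)).left = ι0 ≫ (Limits.Pi.π (fun _ : α => V) a).left :=
    fun a => MorphismProperty.Over.Hom.ext (hl a)
  let bU : ∀ a, OU ⟶ Uf (x a) := fun a => Over.homMk (b a) (by
    change b a ≫ (Uf (x a)).hom = ι0 ≫ W.hom
    rw [← Over.w (incl (x a)), ← Category.assoc, hb, Category.assoc, Over.w])
  have hbU : ∀ a, bU a ≫ incl (x a) = ιU ≫ Limits.Pi.π (fun _ : α => V) a := fun a =>
    Over.OverMorphism.ext (hb a)
  let φ : OU ⟶ ∏ᶜ (Uf ∘ x) := Limits.Pi.lift bU
  have hφ : φ ≫ cmp Uf incl x = ιU := Limits.Pi.hom_ext _ _ fun a => by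
    rw [Category.assoc, Limits.Pi.map_π, ← Category.assoc, Limits.Pi.lift_π]
    exact hbU a
  have hrange : Set.range (cmp Uf incl x).left.left.base ⊆ Set.range O.ι.base := by
    rintro _ ⟨p, rfl⟩
    rw [Scheme.Opens.range_ι]
    refine Set.mem_iInter.2 fun a => ⟨(Limits.Pi.π (Uf ∘ x) a).left.left.base p, ?_⟩
    have := congrArg (fun m : (∏ᶜ (Uf ∘ x)) ⟶ V => m.left.left.base p)
      (Limits.Pi.map_π (fun a => incl (x a)) a)
    exact this.symm
  let m := IsOpenImmersion.lift O.ι (cmp Uf incl x).left.left hrange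
  have hm : m ≫ O.ι = (cmp Uf incl x).left.left := IsOpenImmersion.lift_fac _ _ _
  let m0 : (∏ᶜ (Uf ∘ x) : Over U).left ⟶ Oet := MorphismProperty.Over.homMk m (by
    change m ≫ O.ι ≫ W.left.hom = _
    rw [← Category.assoc, hm]
    exact MorphismProperty.Over.w (cmp Uf incl x).left)
  have hm0 : m0 ≫ ι0 = (cmp Uf incl x).left := MorphismProperty.Over.Hom.ext hm
  let mU : ∏ᶜ (Uf ∘ x) ⟶ OU := Over.homMk m0 (by
    change m0 ≫ ι0 ≫ W.hom = _
    rw [← Category.assoc, hm0]
    exact Over.w (cmp Uf incl x))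
  have hmU : mU ≫ ιU = cmp Uf incl x := Over.OverMorphism.ext hm0
  have h1 : mU ≫ φ = 𝟙 _ := Limits.Pi.hom_ext _ _ fun a => by
    rw [Category.assoc, Limits.Pi.lift_π, Category.id_comp]
    refine Over.OverMorphism.ext (MorphismProperty.Over.Hom.ext ((cancel_mono (incl (x a)).left.left).1 ?_))
    change (m ≫ l a) ≫ _ = _
    rw [Category.assoc, hl, ← Category.assoc, hm]
    exact congrArg (fun q : (∏ᶜ (Uf ∘ x)) ⟶ V => q.left.left) (Limits.Pi.map_π (fun a => incl (x a)) a)
  have h2 : φ ≫ mU = 𝟙 _ := by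
    refine Over.OverMorphism.ext (MorphismProperty.Over.Hom.ext ((cancel_mono O.ι).1 ?_))
    change (φ.left.left ≫ m) ≫ O.ι = 𝟙 O.toScheme ≫ O.ι
    rw [Category.assoc, hm, Category.id_comp]
    exact congrArg (fun q : OU ⟶ W => q.left.left) hφ
  haveI : IsIso m := ⟨φ.left.left,
    congrArg (fun q : (∏ᶜ (Uf ∘ x)) ⟶ ∏ᶜ (Uf ∘ x) => q.left.left) h1,
    congrArg (fun q : OU ⟶ OU => q.left.left) h2⟩
  refine ⟨hm ▸ IsOpenImmersion.comp _ _, fun w hw => ?_⟩
  refine ⟨φ.left.left.base (⟨w, hw⟩ : O.toScheme), ?_⟩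
  exact congrArg (fun q : OU ⟶ W => q.left.left.base (⟨w, hw⟩ : O.toScheme)) hφ

end Power

variable {α : Type} [Finite α]

include hV in
theorem isDisjointCover :
    DisjointCover.IsDisjointCover (fun x : α → ι => (∏ᶜ (Uf ∘ x) : Over U).left)
      (fun x => (cmp Uf incl x).left) where
  isOpenImmersion x := (cmp_range Uf incl hV x).1
  exists_eq w := by
    choose i p hp using fun a : α => exists_inj_eq hV ((Limits.Pi.π (fun _ : α => V) a).left.left.base w)
    obtain ⟨q, hq⟩ := (cmp_range Uf incl hV i).2 w (Set.mem_iInter.2 fun a => ⟨p a, hp a⟩)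
    exact ⟨i, q, hq⟩
  disjoint x y p q h := funext fun a => by
    have hx := congrArg (fun m : (∏ᶜ (Uf ∘ x)) ⟶ V => m.left.left.base p)
      (Limits.Pi.map_π (fun a => incl (x a)) a)
    have hy := congrArg (fun m : (∏ᶜ (Uf ∘ y)) ⟶ V => m.left.left.base q)
      (Limits.Pi.map_π (fun a => incl (y a)) a)
    refine inj_eq_iff hV (x a) (y a) ((Limits.Pi.π (Uf ∘ x) a).left.left.base p)
      ((Limits.Pi.π (Uf ∘ y) a).left.left.base q) (hx.symm.trans (Eq.trans ?_ hy))
    exact congrArg (Limits.Pi.π (fun _ : α => V) a).left.left.base h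

/-- Sections on a disjoint cover: bijectivity. -/
theorem bijective_sections {W : X.Etale} {β : Type (u + 1)} {D : β → X.Etale} {o : ∀ j, D j ⟶ W}
    (h : DisjointCover.IsDisjointCover D o) :
    Function.Bijective fun (s : F.obj.obj (op W)) (j : β) => F.obj.map (o j).op s := by
  refine ⟨fun s t hst => ?_, fun x => ?_⟩
  · have hF : Presieve.IsSheaf X.smallEtaleTopology (F.obj ⋙ forget AddCommGrpCat.{u + 1}) :=
      (isSheaf_iff_isSheaf_of_type _ _).1
        ((sheafCompose X.smallEtaleTopology (forget AddCommGrpCat.{u + 1})).obj F).2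
    refine ((hF _ (Basic.ofArrows_mem D o h.exists_eq)).isSeparatedFor.ext fun Y g hg => ?_)
    obtain ⟨j, a, rfl⟩ := (Sieve.mem_ofArrows_iff _ _ _).1 hg
    have := congrArg (F.obj.map a.op) (congrFun hst j)
    change (F.obj ⋙ forget _).map (a ≫ o j).op s = (F.obj ⋙ forget _).map (a ≫ o j).op t
    simp only [op_comp, Functor.map_comp]
    exact this
  · obtain ⟨s, hs⟩ := h.exists_glue F x
    exact ⟨s, funext hs⟩

/-- The morphism of formal coproducts. -/
def toUnion : (FormalCoproduct.mk _ Uf : FormalCoproduct.{u + 1} (Over U)) ⟶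
    FormalCoproduct.mk PUnit.{u + 2} (fun _ => V) where
  f _ := PUnit.unit
  φ i := incl i

include hV in
theorem isIso_cosimplicial (n : SimplexCategory) :
    IsIso (((FormalCoproduct.evalOp.{u + 1} (Over U) AddCommGrpCat.{u + 1}).obj
      ((Over.forget U).op ⋙ F.obj)).map
        (((FormalCoproduct.cechFunctor.map (toUnion Uf incl)).app (op n)).op)) := by
  let I := ToType n → ι
  let P := ((FormalCoproduct.mk PUnit.{u + 2} fun _ => V).power (ToType n))
  let z : ToType n → PUnit.{u + 2} := fun _ => PUnit.unit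
  rw [ConcreteCategory.isIso_iff_bijective]
  haveI : Unique (ToType n → PUnit.{u + 2}) := Pi.unique
  let A : (ToType n → PUnit.{u + 2}) → AddCommGrpCat.{u + 1} := fun i =>
    F.obj.obj (op (∏ᶜ ((fun _ => V) ∘ i) : Over U).left)
  let B : I → AddCommGrpCat.{u + 1} := fun i => F.obj.obj (op (∏ᶜ (Uf ∘ i) : Over U).left)
  let g : ∏ᶜ A ⟶ ∏ᶜ B := Limits.Pi.lift fun i =>
    Limits.Pi.π A default ≫ F.obj.map (cmp Uf incl i).left.op
  show Function.Bijective g
  let eS := Concrete.productEquiv A
  let eT := Concrete.productEquiv B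
  have hb := bijective_sections F (isDisjointCover (α := ToType n) Uf incl hV)
  have hc := hb.comp ((Equiv.piUnique fun i => ToType (A i)).bijective.comp eS.bijective)
  have key : ∀ s, eT (g s) = (fun (s : F.obj.obj (op (∏ᶜ fun _ : ToType n => V : Over U).left))
      (j : I) => F.obj.map (cmp Uf incl j).left.op s) (eS s default) := fun s => by
    funext i
    simp only [eS, eT]
    rw [Concrete.productEquiv_apply_apply, Concrete.productEquiv_apply_apply]
    exact ConcreteCategory.congr_hom (Limits.Pi.lift_π (fun i =>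
      Limits.Pi.π A default ≫ F.obj.map (cmp Uf incl i).left.op) i) s
  exact ⟨fun a b h => hc.1 ((key a).symm.trans ((congrArg eT h).trans (key b))), fun y =>
    (hc.2 (eT y)).imp fun a ha => eT.injective ((key a).trans ha)⟩

include hV in
theorem main : Nonempty (EtCech.cechComplex Uf F.obj ≅
    EtCech.cechComplex (fun _ : PUnit.{u + 2} => V) F.obj) := by
  let Q := (FormalCoproduct.evalOp.{u + 1} (Over U) AddCommGrpCat.{u + 1}).obj
    ((Over.forget U).op ⋙ F.obj)
  let σ : (FormalCoproduct.mk _ Uf : FormalCoproduct.{u + 1} (Over U)).cech ⟶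
      (FormalCoproduct.mk PUnit.{u + 2} fun _ => V).cech :=
    FormalCoproduct.cechFunctor.map (toUnion Uf incl)
  let τ := Functor.whiskerRight (NatTrans.rightOp σ) Q
  haveI : ∀ n, IsIso (τ.app n) := fun n => isIso_cosimplicial F Uf incl hV n
  haveI : IsIso τ := NatIso.isIso_of_isIso_app τ
  exact ⟨(AlgebraicTopology.alternatingCofaceMapComplex AddCommGrpCat.{u + 1}).mapIso
    (asIso τ).symm⟩

end Groth.Agent.H80.CechDisjoint
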