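import Groth.Agent.Lib.Henselian.LocalRing
import Groth.Agent.Lib.Henselian.Finite
import Mathlib

/-!
Finite domain extensions of complete discrete valuation rings are henselian local rings.
-/

set_option autoImplicit false

universe u

namespace Groth.Agent.H80.CompleteDVRExt

theorem henselianLocalRing_base (A : Type u) [CommRing A] [IsLocalRing A]
    [IsAdicComplete (IsLocalRing.maximalIdeal A) A] : HenselianLocalRing A :=
  Groth.Agent.Lib.Henselian.LocalRing.henselianLocalRing_of_henselianRing

theorem isLocalRing_of_finite_domain (A B : Type u) [CommRing A] [HenselianLocalRing A]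
    [CommRing B] [IsDomain B] [Algebra A B] [Module.Finite A B] : IsLocalRing B := by
  classical
  obtain ⟨ι, hι, C, hC, hloc, ⟨e⟩⟩ :=
    Groth.Agent.Lib.Henselian.Finite.exists_ringEquiv_pi_isLocalRing A B
  have hne : Nonempty ι := by
    by_contra h
    have : IsEmpty ι := not_nonempty_iff.mp h
    exact zero_ne_one (α := B) (e.injective (Subsingleton.elim _ _))
  obtain ⟨i⟩ := hne
  have hsub : ∀ j, j = i := by
    intro j
    by_contra hne
    have h0 : e.symm (Pi.single i 1) * e.symm (Pi.single j 1) = 0 := by
      rw [← map_mul, show (Pi.single i 1 : ∀ l, C l) * Pi.single j 1 = 0 from funext fun l => by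
        rcases eq_or_ne l i with rfl | h
        · simp [Ne.symm hne]
        · simp [h], map_zero]
    rcases mul_eq_zero.mp h0 with h | h
    · exact one_ne_zero (α := C i) (by simpa using congrFun ((map_eq_zero_iff _ e.symm.injective).mp h) i)
    · exact one_ne_zero (α := C j) (by simpa using congrFun ((map_eq_zero_iff _ e.symm.injective).mp h) j)
  letI : Unique ι := { default := i, uniq := hsub }
  exact (e.trans (RingEquiv.piUnique C)).symm.isLocalRing

theorem henselianLocalRing_finite (A B : Type u) [CommRing A] [IsLocalRing A]
    [IsAdicComplete (IsLocalRing.maximalIdeal A) A]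
    [CommRing B] [IsDomain B] [Algebra A B] [Module.Finite A B] : HenselianLocalRing B :=
  haveI := henselianLocalRing_base A
  haveI := isLocalRing_of_finite_domain A B
  Groth.Agent.Lib.Henselian.LocalRing.henselianLocalRing_of_isIntegral A B

end Groth.Agent.H80.CompleteDVRExt
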