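import Groth.Agent.H80.DiscEtale
import Groth.Agent.S0249
import Mathlib.RingTheory.Etale.Locus

/-!
# Purity of the branch locus for finite flat algebras
-/

universe u v

namespace Groth.Agent.H80.PurityFlat

variable (A : Type u) (B : Type v) [CommRing A] [CommRing B] [Algebra A B] [IsNoetherianRing A]
  [IsLocalRing A] [Module.Finite A B] [Module.Flat A B]

/-- A finite flat algebra over a Noetherian local ring of dimension at least two which is unramified
outside the closed point is etale. -/
theorem etale_of_unramified_punctured (hdim : (2 : WithBot ℕ∞) ≤ ringKrullDim A)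
    (h : ∀ q : PrimeSpectrum B, q.asIdeal.comap (algebraMap A B) ≠ IsLocalRing.maximalIdeal A →
      Algebra.IsUnramifiedAt A q.asIdeal) : Algebra.Etale A B := by
  classical
  have : Module.Free A B := Module.free_of_flat_of_isLocalRing
  let b := Module.Free.chooseBasis A B
  by_cases hd : IsUnit (Algebra.discr A b)
  · exact DiscEtale.etale_of_isUnit_discr b hd
  exfalso
  obtain ⟨p, hp, hdp, hp1⟩ := Groth.Agent.S0249.result A
    (le_trans (by norm_num) hdim) _ ((IsLocalRing.mem_maximalIdeal _).mpr hd)
  have hpm : p ≠ IsLocalRing.maximalIdeal A := fun e => by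
    rw [e] at hp1
    rw [← IsLocalRing.maximalIdeal_height_eq_ringKrullDim, hp1] at hdim
    norm_num at hdim
  have := DiscEtale.formallyUnramified_fibre (B := B) p fun q hq => h q (hq ▸ hpm)
  rw [DiscEtale.formallyUnramified_iff_discr (b.baseChange p.ResidueField),
    DiscEtale.discr_baseChange] at this
  exact this (Ideal.algebraMap_residueField_eq_zero.mpr hdp)

end Groth.Agent.H80.PurityFlat

open TensorProduct

namespace Groth.Agent.H80.PurityFlat

/-- A finite flat algebra over a Noetherian ring which is unramified over the primes of height at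
most one is etale. -/
theorem etale_of_unramified_dim (A B : Type u) [CommRing A] [CommRing B] [Algebra A B]
    [IsNoetherianRing A] [Module.Finite A B] [Module.Flat A B]
    (h : ∀ p : PrimeSpectrum A, (2 : WithBot ℕ∞) ≤ ringKrullDim (Localization.AtPrime p.asIdeal) ∨
      ∀ q : PrimeSpectrum B, q.asIdeal.comap (algebraMap A B) = p.asIdeal →
        Algebra.IsUnramifiedAt A q.asIdeal) : Algebra.Etale A B := by
  have : IsNoetherianRing B := IsNoetherianRing.of_finite A B
  have : Module.Finite A (Ω[B⁄A]) := Module.Finite.trans B _
  have := Module.finitePresentation_of_finite A B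
  suffices hsub : Subsingleton (Ω[B⁄A]) by
    have : Algebra.FormallyUnramified A B := ⟨hsub⟩
    exact Algebra.Etale.of_formallyUnramified_of_flat
  rw [← Module.support_eq_empty_iff (R := A), Set.eq_empty_iff_forall_notMem]
  intro p
  induction hn : p.asIdeal.height using WellFoundedLT.induction generalizing p with
  | _ n ih =>
    intro hp
    rcases h p with hdim | hunr
    · let Ap := Localization.AtPrime p.asIdeal
      let Bp := Ap ⊗[A] B
      let : Algebra B Bp := Algebra.TensorProduct.rightAlgebra
      have : IsScalarTower A B Bp := Algebra.TensorProduct.right_isScalarTower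
      let e := KaehlerDifferential.tensorKaehlerEquivBase A Ap B Bp
      have het : Algebra.Etale Ap Bp := etale_of_unramified_punctured Ap Bp hdim fun Q hQ => by
        let r : PrimeSpectrum Ap := Q.comap (algebraMap Ap Bp)
        let p' : PrimeSpectrum A := r.comap (algebraMap A Ap)
        have hp' : p'.asIdeal < p.asIdeal := by
          have hle : r.asIdeal ≤ IsLocalRing.maximalIdeal Ap := IsLocalRing.le_maximalIdeal r.2.ne_top
          have hlt : r.asIdeal < IsLocalRing.maximalIdeal Ap := lt_of_le_of_ne hle hQ
          have h1 : p'.asIdeal = r.asIdeal.comap (algebraMap A Ap) := rfl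
          refine lt_of_lt_of_eq (h1.trans_lt ?_) (IsLocalization.AtPrime.under_maximalIdeal Ap p.asIdeal)
          exact lt_of_le_of_ne (Ideal.comap_mono hle) fun e => hlt.ne (by
            rw [← IsLocalization.map_under p.asIdeal.primeCompl Ap r.asIdeal,
              ← IsLocalization.map_under p.asIdeal.primeCompl Ap (IsLocalRing.maximalIdeal Ap)]
            exact congrArg (Ideal.map (algebraMap A Ap)) e)
        have hns := ih _ (hn ▸ Ideal.height_strict_mono_of_isPrime_of_isPrime hp') p' rfl
        rw [Module.support_eq_zeroLocus, PrimeSpectrum.mem_zeroLocus, Set.not_subset] at hns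
        obtain ⟨a, ha, hap⟩ := hns
        have ha' : ∀ ω : Ω[Bp⁄Ap], algebraMap Ap Bp (algebraMap A Ap a) • ω = 0 := fun ω => by
          refine (algebraMap_smul Bp (algebraMap A Ap a) ω).trans ?_
          obtain ⟨t, rfl⟩ := e.surjective ω
          rw [← map_smul, algebraMap_smul Ap]
          convert e.map_zero
          induction t using TensorProduct.induction_on with
          | zero => exact smul_zero _
          | add x y hx hy => rw [smul_add, hx, hy, add_zero]
          | tmul x w => rw [← TensorProduct.tmul_smul, Module.mem_annihilator.mp ha w, TensorProduct.tmul_zero]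
        have hQu : Q ∈ Algebra.unramifiedLocus Ap Bp := by
          rw [Algebra.unramifiedLocus_eq_compl_support]
          change Q ∉ Module.support Bp (Ω[Bp⁄Ap])
          rw [Module.support_eq_zeroLocus, PrimeSpectrum.mem_zeroLocus, Set.not_subset]
          exact ⟨_, Module.mem_annihilator.mpr ha', hap⟩
        exact hQu
      rw [Module.mem_support_iff, ← not_subsingleton_iff_nontrivial] at hp
      refine hp ?_
      have : Subsingleton (Ap ⊗[A] Ω[B⁄A]) := e.subsingleton
      exact (IsLocalizedModule.linearEquiv p.asIdeal.primeCompl
        (LocalizedModule.mkLinearMap p.asIdeal.primeCompl (Ω[B⁄A]))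
        (TensorProduct.mk A Ap (Ω[B⁄A]) 1)).subsingleton
    · have := DiscEtale.formallyUnramified_fibre (B := B) p.asIdeal hunr
      rw [Module.mem_support_iff_nontrivial_residueField_tensorProduct, ← not_subsingleton_iff_nontrivial] at hp
      let k := p.asIdeal.ResidueField
      let : Algebra B (k ⊗[A] B) := Algebra.TensorProduct.rightAlgebra
      exact hp (KaehlerDifferential.tensorKaehlerEquivBase A k B (k ⊗[A] B)).subsingleton

end Groth.Agent.H80.PurityFlat
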