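import Groth.Agent.H47.GenericFree
import Mathlib.Algebra.Polynomial.Module.Basic
import Mathlib.RingTheory.FiniteType
import Mathlib.RingTheory.Adjoin.FG
import Mathlib.RingTheory.Noetherian.Basic
import Mathlib.Algebra.Module.Projective
import Mathlib.Algebra.Module.LocalizedModule.Basic
import Mathlib.RingTheory.Localization.BaseChange
import Mathlib.LinearAlgebra.DFinsupp

/-! Generic flatness of the cokernel of a map from a finite `A`-module to a finite `B`-module,
by the Rees construction for a filtration by finite `A`-submodules. -/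

set_option autoImplicit false
set_option backward.isDefEq.respectTransparency false
universe u
open TensorProduct Groth.Agent.H47.GenericFree

namespace Groth.Agent.H80.CokerGF

/-- An increasing exhaustive filtration with projective quotients gives a projective module. -/
theorem projective_of_filtration {A : Type u} [CommRing A] {M : Type u} [AddCommGroup M] [Module A M]
    (N : ℕ → Submodule A M) (h0 : N 0 = ⊥) (hmono : ∀ j, N j ≤ N (j + 1))
    (htop : ∀ m, ∃ j, m ∈ N j)
    (Q : ℕ → Type u) [∀ j, AddCommGroup (Q j)] [∀ j, Module A (Q j)] [∀ j, Module.Projective A (Q j)]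
    (q : ∀ j, N (j + 1) →ₗ[A] Q j) (hq : ∀ j, Function.Surjective (q j))
    (hker : ∀ j (x : N (j + 1)), q j x = 0 ↔ (x : M) ∈ N j) : Module.Projective A M := by
  classical
  choose sec hsec using fun j => Module.projective_lifting_property (q j) LinearMap.id (hq j)
  have hsec' : ∀ j a, q j (sec j a) = a := fun j a => LinearMap.congr_fun (hsec j) a
  let s : ∀ j, Q j →ₗ[A] M := fun j => (N (j + 1)).subtype ∘ₗ sec j
  let ψ : (Π₀ j, Q j) →ₗ[A] M := DFinsupp.lsum ℕ s
  have hmono' : Monotone N := monotone_nat_of_le_succ hmono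
  have hsmem : ∀ j a, s j a ∈ N (j + 1) := fun j a => (sec j a).2
  have hsurj : Function.Surjective ψ := by
    rw [← LinearMap.range_eq_top, eq_top_iff]
    rintro m -
    obtain ⟨j, hj⟩ := htop m
    suffices ∀ j, N j ≤ LinearMap.range ψ from this j hj
    intro j
    induction j with
    | zero => simp [h0]
    | succ j ih =>
      intro x hx
      have h1 : q j (⟨x, hx⟩ - sec j (q j ⟨x, hx⟩)) = 0 := by rw [map_sub, hsec', sub_self]
      have h2 : x - s j (q j ⟨x, hx⟩) ∈ N j := (hker j _).1 h1
      have h3 : s j (q j ⟨x, hx⟩) ∈ LinearMap.range ψ :=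
        ⟨DFinsupp.single j (q j ⟨x, hx⟩), DFinsupp.lsum_single ℕ s j _⟩
      simpa using add_mem (ih h2) h3
  have hinj : Function.Injective ψ := by
    rw [injective_iff_map_eq_zero]
    intro a ha
    have key : ∀ J, (∑ j ∈ Finset.range J, s j (a j)) = 0 → ∀ j < J, a j = 0 := by
      intro J
      induction J with
      | zero => intro _ j hj; exact absurd hj (Nat.not_lt_zero j)
      | succ J ih =>
        intro hsum
        rw [Finset.sum_range_succ] at hsum
        have hmem : (∑ j ∈ Finset.range J, s j (a j)) ∈ N J :=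
          Submodule.sum_mem _ fun j hj => hmono' (Finset.mem_range.1 hj) (hsmem j (a j))
        have hJ : a J = 0 := by
          rw [← hsec' J (a J), hker]
          show s J (a J) ∈ N J
          rw [eq_neg_of_add_eq_zero_right hsum]
          exact neg_mem hmem
        rw [hJ, map_zero, add_zero] at hsum
        intro j hj
        rcases Nat.lt_succ_iff_lt_or_eq.1 hj with h | h
        · exact ih hsum j h
        · exact h ▸ hJ
    obtain ⟨J, hJ⟩ : ∃ J, a.support ⊆ Finset.range J := a.support.exists_nat_subset_range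
    have hs : ψ a = ∑ j ∈ Finset.range J, s j (a j) := by
      rw [DFinsupp.lsum_apply_apply, DFinsupp.sumAddHom_apply, DFinsupp.sum]
      refine Finset.sum_subset hJ fun j _ hj => ?_
      simp [DFinsupp.notMem_support_iff.1 hj]
    ext j
    by_cases hj : j ∈ a.support
    · exact key J (hs ▸ ha) j (Finset.mem_range.1 (hJ hj))
    · simpa using DFinsupp.notMem_support_iff.1 hj
  exact Module.Projective.of_equiv (LinearEquiv.ofBijective ψ ⟨hinj, hsurj⟩)

/-- Filtration by submodules with projective quotients after inverting `f`. -/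
theorem projective_localized_of_filtration {R : Type u} [CommRing R] {M : Type u} [AddCommGroup M]
    [Module R M] (f : R) (N : ℕ → Submodule R M) (h0 : N 0 = ⊥)
    (hmono : ∀ j, N j ≤ N (j + 1)) (htop : ∀ m, ∃ j, m ∈ N j)
    (h : ∀ j, Module.Projective (Localization.Away f)
      (Localization.Away f ⊗[R] ((N (j + 1)) ⧸ (N j).comap (N (j + 1)).subtype))) :
    Module.Projective (Localization.Away f) (Localization.Away f ⊗[R] M) := by
  let A := Localization.Away f
  have : Module.Flat R A := IsLocalization.flat A (Submonoid.powers f)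
  let N' : ℕ → Submodule A (A ⊗[R] M) := fun j => LinearMap.range ((N j).subtype.baseChange A)
  have hinj : ∀ j, Function.Injective ((N j).subtype.baseChange A) := fun j => by
    rw [LinearMap.baseChange_eq_ltensor]
    exact Module.Flat.lTensor_preserves_injective_linearMap _ (N j).subtype_injective
  have hfac : ∀ {i j} (hij : N i ≤ N j) z, ((N j).subtype.baseChange A)
      ((Submodule.inclusion hij).baseChange A z) = (N i).subtype.baseChange A z := by
    intro i j hij z
    rw [← LinearMap.comp_apply, ← LinearMap.baseChange_comp]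
    rfl
  have hmono' : ∀ j, N' j ≤ N' (j + 1) := by
    rintro j _ ⟨z, rfl⟩
    exact ⟨_, hfac (hmono j) z⟩
  let e : ∀ j, (A ⊗[R] N (j + 1)) ≃ₗ[A] N' (j + 1) := fun j =>
    LinearEquiv.ofInjective _ (hinj (j + 1))
  refine projective_of_filtration N' ?_ hmono' ?_
    (fun j => A ⊗[R] ((N (j + 1)) ⧸ (N j).comap (N (j + 1)).subtype))
    (fun j => (((N j).comap (N (j + 1)).subtype).mkQ.baseChange A) ∘ₗ (e j).symm.toLinearMap) ?_ ?_
  · rw [eq_bot_iff]
    rintro _ ⟨z, rfl⟩
    rw [Submodule.mem_bot]
    induction z using TensorProduct.induction_on with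
    | zero => simp
    | tmul a x =>
      have hx : (x : M) = 0 := (Submodule.mem_bot R).1 (le_of_eq h0 x.2)
      simp [LinearMap.baseChange_tmul, hx]
    | add x y hx hy => simp [hx, hy]
  · intro z
    induction z using TensorProduct.induction_on with
    | zero => exact ⟨0, zero_mem _⟩
    | tmul a x =>
      obtain ⟨j, hj⟩ := htop x
      exact ⟨j, a ⊗ₜ ⟨x, hj⟩, by simp⟩
    | add x y hx hy =>
      obtain ⟨i, hi⟩ := hx
      obtain ⟨j, hj⟩ := hy
      have hm : Monotone N' := monotone_nat_of_le_succ hmono'
      exact ⟨max i j, add_mem (hm (le_max_left i j) hi) (hm (le_max_right i j) hj)⟩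
  · intro j
    simp only [LinearMap.coe_comp, LinearEquiv.coe_coe]
    refine Function.Surjective.comp ?_ (e j).symm.surjective
    rw [LinearMap.baseChange_eq_ltensor]
    exact LinearMap.lTensor_surjective _ (Submodule.mkQ_surjective _)
  · intro j x
    have hex : Function.Exact (Submodule.inclusion (hmono j))
        ((N j).comap (N (j + 1)).subtype).mkQ := by
      intro y
      simp only [Submodule.mkQ_apply, Submodule.Quotient.mk_eq_zero, Submodule.mem_comap,
        Submodule.subtype_apply, Set.mem_range]
      exact ⟨fun hy => ⟨⟨y, hy⟩, Subtype.ext rfl⟩, fun ⟨z, hz⟩ => hz ▸ z.2⟩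
    have hex' := lTensor_exact A hex (Submodule.mkQ_surjective _)
    constructor
    · intro hx
      have hx' : ((N j).comap (N (j + 1)).subtype).mkQ.lTensor A ((e j).symm x) = 0 := hx
      obtain ⟨z, hz⟩ := (hex' _).1 hx'
      refine ⟨z, ?_⟩
      rw [← hfac (hmono j) z]
      simp only [LinearMap.baseChange_eq_ltensor]
      rw [hz]
      exact congrArg Subtype.val ((e j).apply_symm_apply x)
    · rintro ⟨z, hz⟩
      show ((N j).comap (N (j + 1)).subtype).mkQ.lTensor A ((e j).symm x) = 0
      refine (hex' _).2 ⟨z, ?_⟩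
      refine hinj (j + 1) ?_
      rw [← LinearMap.baseChange_eq_ltensor, hfac, hz]
      exact congrArg Subtype.val ((e j).apply_symm_apply x).symm

/-- `X` is a retract of `G` as soon as `F ↠ X` factors through a map `F → G` killing its kernel. -/
theorem projective_retract {R : Type u} [CommRing R] (T : Type u) [CommRing T] [Algebra R T]
    {F G X : Type u} [AddCommGroup F] [Module R F] [AddCommGroup G] [Module R G] [AddCommGroup X]
    [Module R X] (p : F →ₗ[R] X) (hp : Function.Surjective p) (g : F →ₗ[R] G) (r : G →ₗ[R] X)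
    (hg : LinearMap.ker p ≤ LinearMap.ker g) (hr : ∀ x, r (g x) = p x)
    [Module.Projective T (T ⊗[R] G)] : Module.Projective T (T ⊗[R] X) := by
  let ι : X →ₗ[R] G := (LinearMap.ker p).liftQ g hg ∘ₗ (p.quotKerEquivOfSurjective hp).symm.toLinearMap
  have h : r ∘ₗ ι = LinearMap.id := by
    refine LinearMap.ext fun x => ?_
    obtain ⟨a, rfl⟩ := hp x
    have : (p.quotKerEquivOfSurjective hp).symm (p a) = Submodule.Quotient.mk a := by
      rw [LinearEquiv.symm_apply_eq]; simp
    simp [ι, this, hr]
  refine Module.Projective.of_split (ι.baseChange T) (r.baseChange T) ?_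
  rw [← LinearMap.baseChange_comp, h, LinearMap.baseChange_id]

/-- A layer `N2/N1` is a retract of `W/K`. -/
theorem projective_layer {R : Type u} [CommRing R] (T : Type u) [CommRing T] [Algebra R T]
    {M W G F : Type u} [AddCommGroup M] [Module R M] [AddCommGroup W] [Module R W] [AddCommGroup F]
    [Module R F] [AddCommGroup G] [Module R G]
    (N1 N2 : Submodule R M) (ψ : F →ₗ[R] M) (hψ : LinearMap.range ψ = N2)
    (q : W →ₗ[R] G) (hq : Function.Surjective q) (π : W →ₗ[R] F) (g : F →ₗ[R] W)
    (hπg : ∀ x, π (g x) = x) (hK : ∀ w, q w = 0 → ψ (π w) ∈ N1) (hg : ∀ x, ψ x ∈ N1 → q (g x) = 0)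
    [Module.Projective T (T ⊗[R] G)] :
    Module.Projective T (T ⊗[R] (N2 ⧸ N1.comap N2.subtype)) := by
  let p : F →ₗ[R] N2 ⧸ N1.comap N2.subtype :=
    (N1.comap N2.subtype).mkQ ∘ₗ ψ.codRestrict N2 (fun x => hψ ▸ LinearMap.mem_range_self ψ x)
  have hp : Function.Surjective p := by
    intro z
    obtain ⟨⟨y, hy⟩, rfl⟩ := Submodule.Quotient.mk_surjective _ z
    obtain ⟨x, hx⟩ : y ∈ LinearMap.range ψ := hψ.symm ▸ hy
    exact ⟨x, congrArg (Submodule.Quotient.mk) (Subtype.ext hx)⟩
  let r : G →ₗ[R] N2 ⧸ N1.comap N2.subtype :=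
    (LinearMap.ker q).liftQ (p ∘ₗ π) (fun w hw => (Submodule.Quotient.mk_eq_zero _).2 (hK w hw)) ∘ₗ
      (q.quotKerEquivOfSurjective hq).symm.toLinearMap
  refine projective_retract T p hp (q ∘ₗ g) r
    (fun x hx => hg x ((Submodule.Quotient.mk_eq_zero (N1.comap N2.subtype)).1 hx)) (fun x => ?_)
  have : (q.quotKerEquivOfSurjective hq).symm (q (g x)) = Submodule.Quotient.mk (g x) := by
    rw [LinearEquiv.symm_apply_eq]; simp
  simp [r, this, hπg]

/-- generic freeness of `W / tW` -/
theorem gf_quot {R : Type u} [CommRing R] [IsDomain R] [IsNoetherianRing R] {S W : Type u} [CommRing S]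
    [Algebra R S] [Algebra.FiniteType R S] [AddCommGroup W] [Module S W] [Module R W]
    [IsScalarTower R S W] [Module.Finite S W] (t : S) :
    ∃ (G : Type u) (_ : AddCommGroup G) (_ : Module R G) (q : W →ₗ[R] G), Function.Surjective q ∧
      (∀ v, q v = 0 ↔ ∃ w, t • w = v) ∧ GF R G := by
  let K : Submodule S W := LinearMap.range (LinearMap.lsmul S W t)
  have hgf : GF R (W ⧸ K) := gf_of_finiteType S (W ⧸ K)
  refine ⟨W ⧸ K, inferInstance, Submodule.Quotient.module' K, K.mkQ.restrictScalars R, ?_, ?_, hgf⟩
  · intro z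
    obtain ⟨v, rfl⟩ := Submodule.Quotient.mk_surjective K z
    exact ⟨v, rfl⟩
  · intro v
    exact (Submodule.Quotient.mk_eq_zero K).trans LinearMap.mem_range

section Rees

variable {A B : Type u} [CommRing A] [CommRing B] [Algebra A B]
variable {N : Type u} [AddCommGroup N] [Module B N] [Module A N] [IsScalarTower A B N]
variable (Y : Finset B) (F0 : Submodule A N)

/-- the filtration `B_{≤ d} • F0` -/
def F : ℕ → Submodule A N
  | 0 => F0
  | d + 1 => F d ⊔ ⨆ y ∈ Y, (F d).map ((LinearMap.lsmul B N y).restrictScalars A)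

theorem F_mono (d : ℕ) : F Y F0 d ≤ F Y F0 (d + 1) := le_sup_left

theorem smul_mem_F {y : B} (hy : y ∈ Y) {d : ℕ} {x : N} (hx : x ∈ F Y F0 d) :
    y • x ∈ F Y F0 (d + 1) :=
  (le_iSup₂_of_le (f := fun y (_ : y ∈ Y) => (F Y F0 d).map ((LinearMap.lsmul B N y).restrictScalars A))
    y hy le_rfl |> fun h => le_sup_of_le_right (a := F Y F0 d) h) ⟨x, hx, rfl⟩

theorem exhaust (hY : Algebra.adjoin A (Y : Set B) = ⊤) (hF : Submodule.span B (F0 : Set N) = ⊤)
    (n : N) : ∃ d, n ∈ F Y F0 d := by
  have hm : Monotone (F Y F0) := monotone_nat_of_le_succ (F_mono Y F0)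
  let U : Submodule A N := ⨆ d, F Y F0 d
  have hU : ∀ x, x ∈ U ↔ ∃ d, x ∈ F Y F0 d := fun x =>
    Submodule.mem_iSup_of_directed _ hm.directed_le
  have hs : ∀ (b : B) (x : N), x ∈ U → b • x ∈ U := by
    intro b
    have hb : b ∈ Algebra.adjoin A (Y : Set B) := hY ▸ Algebra.mem_top
    induction hb using Algebra.adjoin_induction with
    | mem y hy =>
      intro x hx
      obtain ⟨d, hd⟩ := (hU x).1 hx
      exact (hU _).2 ⟨d + 1, smul_mem_F Y F0 hy hd⟩
    | algebraMap a => intro x hx; rw [algebraMap_smul]; exact U.smul_mem a hx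
    | add p q _ _ hp hq => intro x hx; rw [add_smul]; exact add_mem (hp x hx) (hq x hx)
    | mul p q _ _ hp hq => intro x hx; rw [mul_smul]; exact hp _ (hq x hx)
  rw [← hU]
  have hn : n ∈ Submodule.span B (F0 : Set N) := hF ▸ trivial
  induction hn using Submodule.span_induction with
  | mem x hx => exact (hU x).2 ⟨0, hx⟩
  | zero => exact zero_mem _
  | add a b _ _ ha hb => exact add_mem ha hb
  | smul c a _ ha => exact hs c a ha

open Polynomial in
/-- the Rees algebra -/
noncomputable abbrev S : Subalgebra A B[X] :=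
  Algebra.adjoin A (((fun y : B => C y * X) '' (Y : Set B)) ∪ {X})

open Polynomial PolynomialModule in
/-- the Rees module -/
noncomputable def W : Submodule (S (A := A) Y) (PolynomialModule B N) where
  carrier := {v | ∀ d, v.coeff d ∈ F Y F0 d}
  add_mem' ha hb d := by simpa using add_mem (ha d) (hb d)
  zero_mem' d := by simp
  smul_mem' := by
    rintro ⟨s, hs⟩ v
    show (∀ d, v.coeff d ∈ F Y F0 d) → ∀ d, (s • v).coeff d ∈ F Y F0 d
    induction hs using Algebra.adjoin_induction generalizing v with
    | mem z hz =>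
      intro hv d
      rcases hz with ⟨y, hy, rfl⟩ | rfl
      · dsimp only
        rw [C_mul_X_eq_monomial, monomial_smul_apply]
        rcases d with _ | d
        · simp
        · simpa using smul_mem_F Y F0 hy (hv d)
      · rw [← monomial_one_one_eq_X, monomial_smul_apply]
        rcases d with _ | d
        · simp
        · simpa using F_mono Y F0 d (hv d)
    | algebraMap a =>
      intro hv d
      rw [IsScalarTower.algebraMap_apply A B B[X], Polynomial.algebraMap_eq, ← monomial_zero_left,
        monomial_smul_apply]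
      simpa [algebraMap_smul] using (F Y F0 d).smul_mem a (hv d)
    | add p q _ _ hp hq =>
      intro hv d
      rw [add_smul]
      simpa using add_mem (hp hv d) (hq hv d)
    | mul p q _ _ hp hq => intro hv d; rw [mul_smul]; exact hp (hq hv) d

open Polynomial in
theorem W_fg (hF0 : F0.FG) : (W Y F0).FG := by
  classical
  obtain ⟨g, hg⟩ := hF0
  let P := Submodule.span (S (A := A) Y) ((fun x => PolynomialModule.single B 0 x) '' (g : Set N))
  suffices P = W Y F0 from this ▸ Submodule.fg_span (g.finite_toSet.image _)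
  refine le_antisymm (Submodule.span_le.2 ?_) fun v hv => ?_
  · rintro _ ⟨x, hx, rfl⟩ d
    rcases d with _ | d
    · simpa [F, ← hg] using Submodule.subset_span hx
    · simp
  · have key : ∀ d, F Y F0 d ≤ (P.restrictScalars A).comap
        ((PolynomialModule.lsingle B d).restrictScalars A) := by
      intro d
      induction d with
      | zero =>
        rw [show F Y F0 0 = F0 from rfl, ← hg, Submodule.span_le]
        exact fun x hx => Submodule.subset_span ⟨x, hx, rfl⟩
      | succ d ih =>
        refine sup_le (fun x hx => ?_) (iSup₂_le fun y hy => ?_)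
        · have := P.smul_mem (⟨X, Algebra.subset_adjoin (.inr rfl)⟩ : S (A := A) Y) (ih hx)
          change (X : B[X]) • PolynomialModule.single B d x ∈ P at this
          rw [← monomial_one_one_eq_X, PolynomialModule.monomial_smul_single, one_smul, add_comm] at this
          exact this
        · rintro _ ⟨x, hx, rfl⟩
          have := P.smul_mem (⟨C y * X, Algebra.subset_adjoin (.inl ⟨y, hy, rfl⟩)⟩ : S (A := A) Y) (ih hx)
          change (C y * X : B[X]) • PolynomialModule.single B d x ∈ P at this
          rw [C_mul_X_eq_monomial, PolynomialModule.monomial_smul_single, add_comm] at this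
          exact this
    have : v = ∑ d ∈ v.coeff.support, PolynomialModule.single B d (v.coeff d) := by
      apply PolynomialModule.coeff_injective
      rw [PolynomialModule.coeff_sum]
      exact (Finsupp.sum_single v.coeff).symm
    rw [this]
    exact sum_mem fun d _ => key d (hv d)

/-- synthesis cannot find this one because the module of `HasQuotient` is an out-parameter -/
noncomputable instance instHasQuotientW :
    HasQuotient (W Y F0) (Submodule (S (A := A) Y) (W Y F0)) :=
  @Submodule.hasQuotient (S (A := A) Y) (W Y F0) _ _ _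

end Rees

set_option maxHeartbeats 1600000 in
open Polynomial in
theorem main {R A B : Type u} [CommRing R] [IsDomain R] [IsNoetherianRing R] [CommRing A] [CommRing B]
    [Algebra R A] [Algebra A B] [Algebra R B] [IsScalarTower R A B] [Algebra.FiniteType R A]
    [Algebra.FiniteType A B]
    {N : Type u} [AddCommGroup N] [Module B N] [Module A N] [Module R N] [IsScalarTower A B N]
    [IsScalarTower R A N] [Module.Finite B N] (P : Submodule A N) (hP : P.FG) :
    ∃ f : R, f ≠ 0 ∧
      Module.Flat (Localization.Away f) (Localization.Away f ⊗[R] (N ⧸ P)) := by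
  classical
  have : IsScalarTower R B N := ⟨fun r b n => by
    rw [← IsScalarTower.algebraMap_smul A r b, smul_assoc, IsScalarTower.algebraMap_smul]⟩
  obtain ⟨Y, hY⟩ := Algebra.FiniteType.out (R := A) (A := B)
  obtain ⟨g, hg⟩ := Module.Finite.fg_top (R := B) (M := N)
  let F0 : Submodule A N := P ⊔ Submodule.span A (g : Set N)
  have hF0 : F0.FG := hP.sup (Submodule.fg_span g.finite_toSet)
  have hgen : Submodule.span B (F0 : Set N) = ⊤ :=
    top_le_iff.1 (hg ▸ Submodule.span_mono fun x hx =>
      Submodule.mem_sup_right (Submodule.subset_span hx))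
  have hm : Monotone (F Y F0) := monotone_nat_of_le_succ (F_mono Y F0)
  have hPF : ∀ d, P ≤ F Y F0 d := fun d => le_sup_left.trans (hm (Nat.zero_le d) : F0 ≤ _)
  -- the Rees algebra and module
  have hS : Algebra.FiniteType A (S (A := A) Y) := by
    refine (Subalgebra.fg_iff_finiteType _).1 (Subalgebra.fg_def.2
      ⟨((fun y : B => C y * X) '' (Y : Set B)) ∪ {X},
        (Y.finite_toSet.image _).union (Set.finite_singleton _), rfl⟩)
  have : Algebra.FiniteType R (S (A := A) Y) := Algebra.FiniteType.trans (R := R) (S := A) inferInstance hS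
  have : Module.Finite (S (A := A) Y) (W Y F0) := Module.Finite.iff_fg.2 (W_fg Y F0 hF0)
  let t : S (A := A) Y := ⟨X, Algebra.subset_adjoin (.inr rfl)⟩
  obtain ⟨G, iG, iMG, q, hqs, hq0, f1, hf1, hfree1⟩ :=
    gf_quot (R := R) (W := ↥(W Y F0)) t
  -- the bottom layer
  let mk : N →ₗ[A] N ⧸ P := P.mkQ
  have : Module.Finite A (F0.map mk) := Module.Finite.iff_fg.2 (hF0.map mk)
  obtain ⟨f2, hf2, hfree2⟩ := gf_of_finiteType (R := R) A (F0.map mk)
  refine ⟨f1 * f2, mul_ne_zero hf1 hf2, ?_⟩
  let T := Localization.Away (f1 * f2)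
  have hG : Module.Free T (T ⊗[R] G) := free_of_dvd (dvd_mul_right f1 f2)
  have hB : Module.Free T (T ⊗[R] (F0.map mk)) := free_of_dvd (dvd_mul_left f2 f1)
  -- the filtration of the quotient
  let Nf : ℕ → Submodule R (N ⧸ P) := fun j =>
    Nat.rec ⊥ (fun d _ => ((F Y F0 d).map mk).restrictScalars R) j
  suffices Module.Projective T (T ⊗[R] (N ⧸ P)) from inferInstance
  refine projective_localized_of_filtration _ Nf rfl ?_ ?_ ?_
  · rintro (_ | d)
    · exact bot_le
    · exact Submodule.map_mono (F_mono Y F0 d)
  · intro m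
    obtain ⟨n, rfl⟩ := Submodule.Quotient.mk_surjective _ m
    obtain ⟨d, hd⟩ := exhaust Y F0 hY hgen n
    exact ⟨d + 1, ⟨n, hd, rfl⟩⟩
  intro j
  rcases j with _ | d
  · refine projective_layer T (Nf 0) (Nf (0 + 1)) (((F0.map mk).subtype).restrictScalars R) ?_
      (LinearMap.id : (F0.map mk) →ₗ[R] (F0.map mk)) (fun x => ⟨x, rfl⟩) LinearMap.id LinearMap.id
      (fun _ => rfl) ?_ ?_
    · exact SetLike.ext' (by simp [Nf, LinearMap.coe_range, F]; rfl)
    · intro w hw
      simp only [LinearMap.id_apply] at hw
      subst hw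
      exact zero_mem _
    · intro x hx
      exact Subtype.ext ((Submodule.mem_bot R).1 hx)
  · let ψ : (F Y F0 (d + 1)).restrictScalars R →ₗ[R] N ⧸ P :=
      mk.restrictScalars R ∘ₗ ((F Y F0 (d + 1)).restrictScalars R).subtype
    let g : (F Y F0 (d + 1)).restrictScalars R →ₗ[R] W Y F0 :=
      { toFun := fun x => ⟨PolynomialModule.single B (d + 1) (x : N), fun e => by
            by_cases he : d + 1 = e
            · subst he; simpa using x.2
            · simp [Finsupp.single_eq_of_ne (Ne.symm he)]⟩
        map_add' := fun x y => Subtype.ext (PolynomialModule.single_add _ _ _)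
        map_smul' := fun r x => Subtype.ext
          (((PolynomialModule.lsingle B (d + 1)).restrictScalars R).map_smul r (x : N)) }
    let π : W Y F0 →ₗ[R] (F Y F0 (d + 1)).restrictScalars R :=
      { toFun := fun v => ⟨v.1.coeff (d + 1), v.2 (d + 1)⟩
        map_add' := fun v w => Subtype.ext (by simp)
        map_smul' := fun r v => Subtype.ext (by simp; rfl) }
    refine projective_layer (W := ↥(W Y F0)) T (Nf (d + 1)) (Nf (d + 1 + 1)) ψ ?_ q
      hqs π g (fun x => ?_) ?_ ?_
    · refine le_antisymm ?_ ?_
      · rintro _ ⟨x, rfl⟩; exact ⟨x.1, x.2, rfl⟩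
      · rintro _ ⟨x, hx, rfl⟩; exact ⟨⟨x, hx⟩, rfl⟩
    · exact Subtype.ext (by simp [π, g])
    · intro v hv
      obtain ⟨w, rfl⟩ := (hq0 v).1 hv
      refine ⟨w.1.coeff d, w.2 d, ?_⟩
      show mk _ = mk _
      congr 1
      show _ = ((X : B[X]) • w.1).coeff (d + 1)
      rw [← monomial_one_one_eq_X, PolynomialModule.monomial_smul_apply]
      simp
    · intro x hx
      obtain ⟨y, hy, hxy⟩ := hx
      have h : (x : N) - y ∈ P := (Submodule.Quotient.eq P).1 hxy.symm
      have hxd : (x : N) ∈ F Y F0 d := by simpa using add_mem (hPF d h) hy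
      refine (hq0 _).2 ⟨⟨PolynomialModule.single B d (x : N), fun e => by
        by_cases he : d = e
        · subst he; simpa using hxd
        · simp [Finsupp.single_eq_of_ne (Ne.symm he)]⟩, Subtype.ext ?_⟩
      show (X : B[X]) • PolynomialModule.single B d (x : N) = PolynomialModule.single B (d + 1) (x : N)
      rw [← monomial_one_one_eq_X, PolynomialModule.monomial_smul_single, one_smul, add_comm]

end Groth.Agent.H80.CokerGF
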