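import Groth.Agent.Lib.Depth.CM
import Groth.Agent.Lib.Depth.Ext
import Groth.Agent.Lib.Depth.Local
import Groth.Agent.H18.Hartshorne
import Groth.Agent.S2085
import Mathlib.RingTheory.GradedAlgebra.Radical
import Mathlib.RingTheory.GradedAlgebra.HomogeneousLocalization
import Mathlib.AlgebraicGeometry.ProjectiveSpectrum.Basic

/-!
# Depth of degree zero localisations of graded rings
-/

set_option autoImplicit false
set_option backward.isDefEq.respectTransparency false
universe u
open DirectSum LocCoh RingTheory.Sequence Pointwise IsLocalRing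
open Groth.Agent.Lib.Depth

namespace Groth.Agent.H80.ProjStalkDepth

/-- Depth along an arbitrary map into a Noetherian ring. -/
theorem idealDepth_map_le {R S : Type u} [CommRing R] [CommRing S] [IsNoetherianRing S]
    [Algebra R S] (J : Ideal R) (M : Type u) [AddCommGroup M] [Module R M] [Module S M]
    [IsScalarTower R S M] [Module.Finite S M] :
    idealDepth (J.map (algebraMap R S)) M ≤ idealDepth J M := by
  refine ENat.forall_natCast_le_iff_le.mp fun n hn => ?_
  induction n generalizing M with
  | zero => simp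
  | succ n ih =>
    by_cases hJ : J • (⊤ : Submodule R M) = ⊤
    · rw [Basic.idealDepth_of_smul_top_eq hJ]; exact le_top
    have hJ' := mt (Basic.smul_top_eq_top_iff_map (S := S) J).mpr hJ
    have h1 : ∀ P ∈ associatedPrimes S M, ¬ J ≤ P.comap (algebraMap R S) := by
      intro P hP hle
      have h0 := (Assoc.idealDepth_eq_zero_iff _ M hJ').mpr ⟨P, hP, Ideal.map_le_iff_le_comap.mpr hle⟩
      rw [h0] at hn
      simp at hn
    have h2 : ¬ ((J : Set R) ⊆ ⋃ P ∈ associatedPrimes S M, (P.comap (algebraMap R S) : Set R)) := by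
      intro h
      obtain ⟨P, hP, hle⟩ := (Ideal.subset_union_prime_finite (associatedPrimes.finite S M) ⊥ ⊥
        (fun P hP _ _ => have := IsAssociatedPrime.isPrime hP; Ideal.IsPrime.comap _)).mp h
      exact h1 P hP hle
    obtain ⟨x, hxJ, hx⟩ := Set.not_subset.mp h2
    have hreg : IsSMulRegular M (algebraMap R S x) := by
      by_contra hc
      have : algebraMap R S x ∈ ⋃ P ∈ associatedPrimes S M, (P : Set S) := by
        rw [biUnion_associatedPrimes_eq_compl_regular S M]; exact hc
      simp only [Set.mem_iUnion, SetLike.mem_coe] at this hx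
      obtain ⟨P, hP, hmem⟩ := this
      exact hx ⟨P, hP, Ideal.mem_comap.mpr hmem⟩
    have hregR : IsSMulRegular M x := (isSMulRegular_algebraMap_iff (M := M) (A := S) (r := x)).mp hreg
    have hn' : (n : ℕ∞) ≤ idealDepth (J.map (algebraMap R S)) (QuotSMulTop (algebraMap R S x) M) := by
      rw [← SES.idealDepth_quotSMulTop _ (Ideal.mem_map_of_mem _ hxJ) hreg, Nat.cast_succ] at hn
      exact (ENat.add_le_add_iff_right ENat.one_ne_top).mp hn
    let e : QuotSMulTop x M ≃ₗ[R] QuotSMulTop (algebraMap R S x) M :=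
      Submodule.quotEquivOfEq _ ((algebraMap R S x • (⊤ : Submodule S M)).restrictScalars R) (by
          ext m
          simp [Submodule.mem_smul_pointwise_iff_exists]) ≪≫ₗ
        Submodule.Quotient.restrictScalarsEquiv R _
    have h3 := ih (QuotSMulTop (algebraMap R S x) M) hn'
    rw [← Basic.idealDepth_congr J e, Basic.le_idealDepth_iff] at h3
    rcases h3 with h | ⟨rs, hl, hmem, hw⟩
    · exfalso
      apply hJ
      refine top_le_iff.mp fun m _ => ?_
      have hm : Submodule.Quotient.mk m ∈ J • (⊤ : Submodule R (QuotSMulTop x M)) := by rw [h]; trivial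
      rw [← Submodule.range_mkQ (x • (⊤ : Submodule R M)), ← Submodule.map_top,
        ← Submodule.map_smul'', ← Submodule.mkQ_apply, ← Submodule.mem_comap,
        Submodule.comap_map_mkQ, Submodule.mem_sup] at hm
      obtain ⟨a, ha, b, hb, rfl⟩ := hm
      refine add_mem ?_ hb
      obtain ⟨c, -, rfl⟩ := (Submodule.mem_smul_pointwise_iff_exists a x ⊤).mp ha
      exact Submodule.smul_mem_smul hxJ trivial
    · have hlen : (x :: rs).length = n + 1 := by rw [List.length_cons, hl]
      have h4 := Basic.length_le_idealDepth ((isWeaklyRegular_cons_iff M x rs).mpr ⟨hregR, hw⟩)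
        (I := J) (fun r hr => by
          rcases List.mem_cons.mp hr with rfl | hr
          · exact hxJ
          · exact hmem r hr)
      rwa [hlen] at h4

/-- Regular sequences descend along ring maps for which every ideal is contracted. -/
theorem idealDepth_le_self {R S : Type u} [CommRing R] [CommRing S] [Algebra R S]
    (hc : ∀ (I : Ideal R) (c : R), algebraMap R S c ∈ I.map (algebraMap R S) → c ∈ I) (J : Ideal R) :
    idealDepth J S ≤ idealDepth J R := by
  refine ENat.forall_natCast_le_iff_le.mp fun n hn => ?_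
  rw [Basic.le_idealDepth_iff] at hn ⊢
  rcases hn with h | ⟨rs, hl, hmem, hw⟩
  · left
    rw [smul_eq_mul, Ideal.mul_top, Ideal.eq_top_iff_one]
    apply hc
    have : algebraMap R S 1 ∈ J • (⊤ : Submodule R S) := by rw [h]; trivial
    rwa [Ideal.smul_top_eq_map, Submodule.restrictScalars_mem] at this
  · refine Or.inr ⟨rs, hl, hmem, ⟨fun i hi => ?_⟩⟩
    have h := hw.regular_mod_prev i hi
    rw [isSMulRegular_quotient_iff_mem_of_smul_mem] at h ⊢
    intro c hcm
    rw [smul_eq_mul, Ideal.mul_top] at hcm ⊢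
    apply hc
    have := h (algebraMap R S c) (by
      rw [Ideal.smul_top_eq_map, Submodule.restrictScalars_mem, Algebra.smul_def, ← map_mul]
      exact Ideal.mem_map_of_mem _ hcm)
    rwa [Ideal.smul_top_eq_map, Submodule.restrictScalars_mem] at this

variable {A : Type u} [CommRing A] (𝒜 : ℕ → AddSubgroup A) [GradedRing 𝒜]
  (p : Ideal A) [p.IsPrime] {R₀ : Type u} [CommRing R₀]
  (e : R₀ ≃+* HomogeneousLocalization.AtPrime 𝒜 p)

/-- The map to the localisation. -/
noncomputable def φ : R₀ →+* Localization.AtPrime p :=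
  (algebraMap (HomogeneousLocalization.AtPrime 𝒜 p) (Localization.AtPrime p)).comp e.toRingHom

theorem φ_apply (c : R₀) : φ 𝒜 p e c = (e c).val := rfl

theorem φ_injective : Function.Injective (φ 𝒜 p e) :=
  (HomogeneousLocalization.val_injective _).comp e.injective

theorem φ_symm_mk (z : HomogeneousLocalization.NumDenSameDeg 𝒜 p.primeCompl) :
    φ 𝒜 p e (e.symm (HomogeneousLocalization.mk z)) =
      Localization.mk (z.num : A) ⟨z.den, z.den_mem⟩ := by
  rw [φ_apply, e.apply_symm_apply, HomogeneousLocalization.val_mk]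

theorem num_eq (c : R₀) (z : HomogeneousLocalization.NumDenSameDeg 𝒜 p.primeCompl)
    (hz : e c = HomogeneousLocalization.mk z) :
    algebraMap A (Localization.AtPrime p) (z.den : A) * φ 𝒜 p e c =
      algebraMap A (Localization.AtPrime p) (z.num : A) := by
  rw [φ_apply, hz, HomogeneousLocalization.val_mk, Localization.mk_eq_mk']
  exact IsLocalization.mk'_spec' _ (z.num : A) ⟨(z.den : A), z.den_mem⟩

theorem num_mem_iff (P : Ideal (Localization.AtPrime p)) (c : R₀)
    (z : HomogeneousLocalization.NumDenSameDeg 𝒜 p.primeCompl)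
    (hz : e c = HomogeneousLocalization.mk z) :
    (z.num : A) ∈ P.comap (algebraMap A _) ↔ φ 𝒜 p e c ∈ P := by
  rw [Ideal.mem_comap, ← num_eq 𝒜 p e c z hz]
  exact Ideal.unit_mul_mem_iff_mem P (IsLocalization.map_units _ (⟨z.den, z.den_mem⟩ : p.primeCompl))

/-- Every ideal of the degree zero localisation is contracted. -/
theorem contracted (I : Ideal R₀) (c : R₀) (hc : φ 𝒜 p e c ∈ I.map (φ 𝒜 p e)) : c ∈ I := by
  let K : Ideal A :=
    { carrier := {a | ∀ (b : A) (D : ℕ) (g : A) (hg : g ∈ 𝒜 D) (hgp : g ∈ p.primeCompl),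
        e.symm (HomogeneousLocalization.mk
          ⟨D, decompose 𝒜 (b * a) D, ⟨g, hg⟩, hgp⟩) ∈ I}
      zero_mem' := fun b D g hg hgp => by
        have : HomogeneousLocalization.mk (⟨D, decompose 𝒜 (b * 0) D, ⟨g, hg⟩, hgp⟩ :
            HomogeneousLocalization.NumDenSameDeg 𝒜 p.primeCompl) = 0 := by
          apply HomogeneousLocalization.val_injective
          rw [HomogeneousLocalization.val_mk, HomogeneousLocalization.val_zero]
          simp [Localization.mk_zero]
        rw [this, map_zero]; exact zero_mem I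
      add_mem' := fun {a a'} ha ha' b D g hg hgp => by
        have : HomogeneousLocalization.mk (⟨D, decompose 𝒜 (b * (a + a')) D, ⟨g, hg⟩, hgp⟩ :
            HomogeneousLocalization.NumDenSameDeg 𝒜 p.primeCompl) =
            HomogeneousLocalization.mk ⟨D, decompose 𝒜 (b * a) D, ⟨g, hg⟩, hgp⟩ +
            HomogeneousLocalization.mk ⟨D, decompose 𝒜 (b * a') D, ⟨g, hg⟩, hgp⟩ := by
          apply HomogeneousLocalization.val_injective
          rw [HomogeneousLocalization.val_add]
          simp only [HomogeneousLocalization.val_mk]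
          rw [Localization.add_mk_self]
          congr 1
          rw [mul_add, decompose_add, DirectSum.add_apply, AddMemClass.coe_add]
        rw [this, map_add]; exact add_mem (ha b D g hg hgp) (ha' b D g hg hgp)
      smul_mem' := fun r a ha b D g hg hgp => by
        rw [smul_eq_mul, ← mul_assoc]; exact ha (b * r) D g hg hgp }
  have hK : I.map (φ 𝒜 p e) ≤ K.map (algebraMap A _) := by
    refine Ideal.map_le_iff_le_comap.mpr fun w hw => ?_
    obtain ⟨z, hz⟩ := HomogeneousLocalization.mk_surjective (e w)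
    have hzK : (z.num : A) ∈ K := by
      intro b D g hg hgp
      by_cases hle : z.deg ≤ D
      · have hmem : (decompose 𝒜 b (D - z.deg) : A) * (z.den : A) ∈ 𝒜 D := by
          have h := SetLike.mul_mem_graded (decompose 𝒜 b (D - z.deg)).2 z.den.2
          rwa [Nat.sub_add_cancel hle] at h
        have : HomogeneousLocalization.mk (⟨D, decompose 𝒜 (b * (z.num : A)) D, ⟨g, hg⟩, hgp⟩ :
            HomogeneousLocalization.NumDenSameDeg 𝒜 p.primeCompl) =
            HomogeneousLocalization.mk ⟨D, ⟨_, hmem⟩, ⟨g, hg⟩, hgp⟩ * e w := by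
          rw [← hz]
          apply HomogeneousLocalization.val_injective
          rw [HomogeneousLocalization.val_mul]
          simp only [HomogeneousLocalization.val_mk]
          rw [Localization.mk_mul, Localization.mk_eq_mk_iff, Localization.r_iff_exists]
          refine ⟨1, ?_⟩
          rw [coe_decompose_mul_of_right_mem_of_le 𝒜 z.num.2 hle]
          simp only [OneMemClass.coe_one, Submonoid.coe_mul, one_mul]
          ring
        rw [this, map_mul, e.symm_apply_apply]
        exact Ideal.mul_mem_left I _ hw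
      · have : HomogeneousLocalization.mk (⟨D, decompose 𝒜 (b * (z.num : A)) D, ⟨g, hg⟩, hgp⟩ :
            HomogeneousLocalization.NumDenSameDeg 𝒜 p.primeCompl) = 0 := by
          apply HomogeneousLocalization.val_injective
          rw [HomogeneousLocalization.val_mk, HomogeneousLocalization.val_zero]
          simp only [coe_decompose_mul_of_right_mem_of_not_le 𝒜 z.num.2 hle, Localization.mk_zero]
        rw [this, map_zero]; exact zero_mem I
    exact (num_mem_iff 𝒜 p e _ w z hz.symm).mp (Ideal.mem_comap.mpr (Ideal.mem_map_of_mem _ hzK))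
  obtain ⟨z, hz⟩ := HomogeneousLocalization.mk_surjective (e c)
  have h1 : algebraMap A (Localization.AtPrime p) (z.num : A) ∈ K.map (algebraMap A _) := by
    rw [← num_eq 𝒜 p e c z hz.symm]
    exact Ideal.mul_mem_left _ _ (hK hc)
  obtain ⟨m, hm, hmK⟩ := (IsLocalization.algebraMap_mem_map_algebraMap_iff p.primeCompl _ _ _).mp h1
  obtain ⟨j, hj⟩ : ∃ j, (decompose 𝒜 m j : A) ∉ p := by
    by_contra hcon
    push Not at hcon
    classical
    exact hm (by rw [← DirectSum.sum_support_decompose 𝒜 m]; exact Ideal.sum_mem _ fun i _ => hcon i)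
  have hden : (decompose 𝒜 m j : A) * (z.den : A) ∈ 𝒜 (j + z.deg) :=
    SetLike.mul_mem_graded (decompose 𝒜 m j).2 z.den.2
  have h2 := hmK 1 (j + z.deg) _ hden (p.primeCompl.mul_mem hj z.den_mem)
  have h3 : HomogeneousLocalization.mk (⟨j + z.deg, decompose 𝒜 (1 * (m * (z.num : A))) (j + z.deg),
      ⟨_, hden⟩, p.primeCompl.mul_mem hj z.den_mem⟩ :
      HomogeneousLocalization.NumDenSameDeg 𝒜 p.primeCompl) = e c := by
    rw [← hz]
    apply HomogeneousLocalization.val_injective
    simp only [HomogeneousLocalization.val_mk]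
    rw [Localization.mk_eq_mk_iff, Localization.r_iff_exists]
    refine ⟨1, ?_⟩
    rw [one_mul (m * (z.num : A)),
      coe_decompose_mul_of_right_mem_of_le 𝒜 z.num.2 (Nat.le_add_left _ _), Nat.add_sub_cancel]
    simp only [OneMemClass.coe_one, one_mul]
    ring
  rw [h3, e.symm_apply_apply] at h2
  exact h2

theorem comap_map_eq (I : Ideal R₀) : (I.map (φ 𝒜 p e)).comap (φ 𝒜 p e) = I :=
  le_antisymm (fun c hc => contracted 𝒜 p e I c hc) Ideal.le_comap_map

include e in
theorem isNoetherianRing [IsNoetherianRing A] : IsNoetherianRing R₀ := by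
  have : IsNoetherianRing (Localization.AtPrime p) :=
    IsLocalization.isNoetherianRing p.primeCompl _ inferInstance
  have hs : StrictMono (fun I : Ideal R₀ => I.map (φ 𝒜 p e)) := fun I J h =>
    lt_of_le_of_ne (Ideal.map_mono h.le) fun he => h.ne (by
      rw [← comap_map_eq 𝒜 p e I, show I.map (φ 𝒜 p e) = J.map (φ 𝒜 p e) from he, comap_map_eq 𝒜 p e J])
  have : WellFoundedGT (Ideal R₀) := hs.wellFoundedGT
  exact isNoetherianRing_iff.mpr (isNoetherian_iff'.mpr this)

theorem exists_over (q : Ideal R₀) [q.IsPrime] :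
    ∃ P : Ideal (Localization.AtPrime p), P.IsPrime ∧ P.comap (φ 𝒜 p e) = q :=
  (Ideal.comap_map_eq_self_iff_of_isPrime q).mp (comap_map_eq 𝒜 p e q)

/-- The homogeneous prime of `A` below a prime of the localisation. -/
def core (P : Ideal (Localization.AtPrime p)) : Ideal A :=
  ((P.comap (algebraMap A (Localization.AtPrime p))).homogeneousCore 𝒜).toIdeal

theorem core_le (P : Ideal (Localization.AtPrime p)) : core 𝒜 p P ≤ P.comap (algebraMap A _) :=
  Ideal.toIdeal_homogeneousCore_le 𝒜 _

theorem core_isPrime (P : Ideal (Localization.AtPrime p)) [P.IsPrime] : (core 𝒜 p P).IsPrime :=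
  Ideal.IsPrime.homogeneousCore (Ideal.IsPrime.comap _)

variable {d : ℕ} {f : A} (hd : 0 < d) (hf : f ∈ 𝒜 d) (hfp : f ∉ p)

include hd hf hfp in
theorem homog_mem_of_le {q q' : Ideal R₀} (hqq : q ≤ q') {P P' : Ideal (Localization.AtPrime p)}
    [P'.IsPrime] (hP : P.comap (φ 𝒜 p e) = q) (hP' : P'.comap (φ 𝒜 p e) = q') {i : ℕ} {a : A}
    (ha : a ∈ 𝒜 i) (haP : a ∈ P.comap (algebraMap A _)) : a ∈ P'.comap (algebraMap A _) := by
  let z : HomogeneousLocalization.NumDenSameDeg 𝒜 p.primeCompl :=
    ⟨d * i, ⟨a ^ d, by simpa [nsmul_eq_mul] using SetLike.pow_mem_graded d ha⟩,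
      ⟨f ^ i, by simpa [nsmul_eq_mul, mul_comm] using SetLike.pow_mem_graded i hf⟩,
      p.primeCompl.pow_mem hfp i⟩
  let c : R₀ := e.symm (HomogeneousLocalization.mk z)
  have hc : e c = HomogeneousLocalization.mk z := e.apply_symm_apply _
  have h1 : c ∈ q := by
    rw [← hP, Ideal.mem_comap, ← num_mem_iff 𝒜 p e P c z hc]
    exact Ideal.pow_mem_of_mem _ haP d hd
  have h2 : c ∈ P'.comap (φ 𝒜 p e) := hP' ▸ hqq h1
  rw [Ideal.mem_comap, ← num_mem_iff 𝒜 p e P' c z hc] at h2
  exact (Ideal.IsPrime.comap _).mem_of_pow_mem d h2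

include hd hf hfp in
theorem core_lt {q q' : Ideal R₀} (hqq : q < q') {P P' : Ideal (Localization.AtPrime p)}
    [P'.IsPrime] (hP : P.comap (φ 𝒜 p e) = q) (hP' : P'.comap (φ 𝒜 p e) = q') :
    core 𝒜 p P < core 𝒜 p P' := by
  refine lt_of_le_of_ne ?_ fun he => ?_
  · intro a ha
    classical
    rw [← DirectSum.sum_support_decompose 𝒜 a]
    refine Ideal.sum_mem _ fun i _ => Ideal.mem_homogeneousCore_of_homogeneous_of_mem ⟨i, SetLike.coe_mem _⟩ ?_
    exact homog_mem_of_le 𝒜 p e hd hf hfp hqq.le hP hP' (SetLike.coe_mem _)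
      (core_le 𝒜 p P ((HomogeneousIdeal.isHomogeneous _) i ha))
  · refine hqq.not_ge fun c hc => ?_
    obtain ⟨z, hz⟩ := HomogeneousLocalization.mk_surjective (e c)
    rw [← hP, Ideal.mem_comap, ← num_mem_iff 𝒜 p e P c z hz.symm]
    apply core_le 𝒜 p P
    rw [he]
    refine Ideal.mem_homogeneousCore_of_homogeneous_of_mem ⟨z.deg, z.num.2⟩ ?_
    rw [num_mem_iff 𝒜 p e P' c z hz.symm, ← Ideal.mem_comap, hP']
    exact hc

include e hd hf hfp in
theorem ringKrullDim_le : ringKrullDim R₀ ≤ ringKrullDim (Localization.AtPrime p) := by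
  choose P hP hPq using fun q : PrimeSpectrum R₀ => exists_over 𝒜 p e q.asIdeal
  have hle : ∀ q, core 𝒜 p (P q) ≤ p := fun q => (core_le 𝒜 p (P q)).trans fun a ha => by
    by_contra hap
    exact (hP q).ne_top ((P q).eq_top_of_isUnit_mem (Ideal.mem_comap.mp ha)
      (IsLocalization.map_units _ (⟨a, hap⟩ : p.primeCompl)))
  let g : PrimeSpectrum R₀ → Set.Iic (⟨p, inferInstance⟩ : PrimeSpectrum A) := fun q =>
    ⟨⟨core 𝒜 p (P q), have := hP q; core_isPrime 𝒜 p (P q)⟩, hle q⟩
  have hg : StrictMono g := fun q q' h => by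
    have := hP q'
    exact (core_lt 𝒜 p e hd hf hfp (PrimeSpectrum.asIdeal_lt_asIdeal q q' |>.mpr h) (hPq q) (hPq q') :)
  exact Order.krullDim_le_of_strictMono
    (fun q => (IsLocalization.AtPrime.primeSpectrumOrderIso (Localization.AtPrime p) p).symm (g q))
    ((OrderIso.strictMono _).comp hg)

include e hd hf hfp in
theorem depth_le [IsNoetherianRing A] [IsLocalRing R₀] (hp : p.IsHomogeneous 𝒜) :
    depth (Localization.AtPrime p) (Localization.AtPrime p) ≤ depth R₀ R₀ := by
  have : IsNoetherianRing (Localization.AtPrime p) :=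
    IsLocalization.isNoetherianRing p.primeCompl _ inferInstance
  let _ : Algebra R₀ (Localization.AtPrime p) := (φ 𝒜 p e).toAlgebra
  have hrad : ((maximalIdeal R₀).map (φ 𝒜 p e)).radical =
      (maximalIdeal (Localization.AtPrime p)).radical := by
    rw [(maximalIdeal.isMaximal _).isPrime.radical]
    refine le_antisymm ?_ ?_
    · rw [← (maximalIdeal.isMaximal (Localization.AtPrime p)).isPrime.radical]
      refine Ideal.radical_mono (le_maximalIdeal fun h => ?_)
      have := comap_map_eq 𝒜 p e (maximalIdeal R₀)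
      rw [h, Ideal.comap_top] at this
      exact (maximalIdeal.isMaximal R₀).ne_top this.symm
    · rw [← Localization.AtPrime.map_eq_maximalIdeal, Ideal.map_le_iff_le_comap]
      intro a ha
      classical
      rw [← DirectSum.sum_support_decompose 𝒜 a]
      refine Ideal.sum_mem _ fun i _ => ?_
      have hai : (decompose 𝒜 a i : A) ∈ p := hp i ha
      let z : HomogeneousLocalization.NumDenSameDeg 𝒜 p.primeCompl :=
        ⟨d * i, ⟨(decompose 𝒜 a i : A) ^ d, by
            simpa [nsmul_eq_mul] using SetLike.pow_mem_graded d (decompose 𝒜 a i).2⟩,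
          ⟨f ^ i, by simpa [nsmul_eq_mul, mul_comm] using SetLike.pow_mem_graded i hf⟩,
          p.primeCompl.pow_mem hfp i⟩
      let c : R₀ := e.symm (HomogeneousLocalization.mk z)
      have hc : e c = HomogeneousLocalization.mk z := e.apply_symm_apply _
      have hcm : c ∈ maximalIdeal R₀ := fun hu => by
        have h1 : IsUnit (φ 𝒜 p e c) := hu.map _
        have h2 : φ 𝒜 p e c ∈ maximalIdeal (Localization.AtPrime p) := by
          rw [← num_mem_iff 𝒜 p e _ c z hc, Ideal.mem_comap, ← Localization.AtPrime.map_eq_maximalIdeal]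
          exact Ideal.mem_map_of_mem _ (Ideal.pow_mem_of_mem _ hai d hd)
        exact h2 h1
      have h3 : (decompose 𝒜 a i : A) ^ d ∈
          ((maximalIdeal R₀).map (φ 𝒜 p e)).comap (algebraMap A _) :=
        (num_mem_iff 𝒜 p e _ c z hc).mpr (Ideal.mem_map_of_mem _ hcm)
      rw [Ideal.mem_comap, map_pow] at h3
      exact Ideal.mem_comap.mpr ⟨d, h3⟩
  calc depth (Localization.AtPrime p) (Localization.AtPrime p)
      = idealDepth ((maximalIdeal R₀).map (φ 𝒜 p e)) (Localization.AtPrime p) :=
        (Ext.idealDepth_radical_eq _ _ hrad).symm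
    _ ≤ idealDepth (maximalIdeal R₀) (Localization.AtPrime p) :=
        idealDepth_map_le (maximalIdeal R₀) (Localization.AtPrime p)
    _ ≤ depth R₀ R₀ := idealDepth_le_self (fun I c h => contracted 𝒜 p e I c h) _

include e hd hf hfp in
theorem isCohenMacaulayLocalRing [IsCohenMacaulayRing A] [IsLocalRing R₀] (hp : p.IsHomogeneous 𝒜) :
    IsCohenMacaulayLocalRing R₀ := by
  have := isNoetherianRing 𝒜 p e
  have := IsCohenMacaulayRing.isCohenMacaulayLocalRing_localization p
  exact CM.isCohenMacaulayLocalRing_iff.mpr ((ringKrullDim_le 𝒜 p e hd hf hfp).trans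
    ((CM.isCohenMacaulayLocalRing_iff.mp this).trans
      (WithBot.coe_le_coe.mpr (depth_le 𝒜 p e hd hf hfp hp))))

include e hd hf hfp in
theorem hasSk_one [IsNoetherianRing A] (hA : HasSk 1 A A) : HasSk 1 R₀ R₀ := by
  have := isNoetherianRing 𝒜 p e
  have : IsNoetherianRing (Localization.AtPrime p) :=
    IsLocalization.isNoetherianRing p.primeCompl _ inferInstance
  refine (Groth.Agent.S2085.result).mp fun q hq => ?_
  have hann : Module.annihilator R₀ R₀ = ⊥ := Module.annihilator_eq_bot.mpr inferInstance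
  rw [hann]
  have := IsAssociatedPrime.isPrime hq
  obtain ⟨-, c, hc⟩ := isAssociatedPrime_iff.mp hq
  let N : Submodule (Localization.AtPrime p) (Localization.AtPrime p) :=
    Submodule.span _ {φ 𝒜 p e c}
  have hN : (Module.annihilator (Localization.AtPrime p) N).comap (φ 𝒜 p e) = q := by
    ext y
    rw [hc, Ideal.mem_comap, Submodule.mem_annihilator_span_singleton,
      Submodule.mem_colon_singleton, Submodule.mem_bot, smul_eq_mul, smul_eq_mul, ← map_mul,
      map_eq_zero_iff _ (φ_injective 𝒜 p e)]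
  obtain ⟨P, hPmin, hPq⟩ := Ideal.exists_minimalPrimes_comap_eq (φ 𝒜 p e) q
    (I := Module.annihilator (Localization.AtPrime p) N)
    (by rw [hN, Ideal.minimalPrimes_eq_subsingleton_self]; exact Set.mem_singleton q)
  have hass : IsAssociatedPrime P N :=
    Module.associatedPrimes.minimalPrimes_annihilator_subset_associatedPrimes _ _ hPmin
  have hassS : IsAssociatedPrime P (Localization.AtPrime p) :=
    hass.map_of_injective N.subtype N.injective_subtype
  have hPp := hPmin.1.1
  have hassA : P.comap (algebraMap A (Localization.AtPrime p)) ∈ associatedPrimes A A :=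
    Module.associatedPrimes.comap_mem_associatedPrimes_of_mem_associatedPrimes_of_isLocalizedModule_of_fg
      p.primeCompl (Algebra.linearMap A (Localization.AtPrime p)) _ hassS (IsNoetherian.noetherian _)
  have hminA := Groth.Agent.H18.Hartshorne.height_eq_zero_of_associated hA hassA
  refine ⟨⟨inferInstance, bot_le⟩, fun q' hq' hle => ?_⟩
  have := hq'.1
  by_contra hne
  obtain ⟨P', hP', hPq'⟩ := exists_over 𝒜 p e q'
  have hlt := core_lt 𝒜 p e hd hf hfp (lt_of_le_not_ge hle hne) hPq' hPq
  exact (lt_of_lt_of_le hlt (core_le 𝒜 p P)).not_ge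
    (hminA.2 ⟨core_isPrime 𝒜 p P', bot_le⟩ (hlt.le.trans (core_le 𝒜 p P)))

omit [p.IsPrime] in
theorem exists_deg [p.IsPrime] (h : ¬ (HomogeneousIdeal.irrelevant 𝒜).toIdeal ≤ p) :
    ∃ (d : ℕ) (f : A), 0 < d ∧ f ∈ 𝒜 d ∧ f ∉ p := by
  obtain ⟨a, ha, hap⟩ := SetLike.not_le_iff_exists.mp h
  classical
  by_contra hc
  push Not at hc
  refine hap ?_
  rw [← DirectSum.sum_support_decompose 𝒜 a]
  refine Ideal.sum_mem _ fun i _ => ?_
  rcases Nat.eq_zero_or_pos i with rfl | hi
  · have h0 : GradedRing.proj 𝒜 0 a = 0 := (HomogeneousIdeal.mem_irrelevant_iff 𝒜 a).mp ha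
    rw [GradedRing.proj_apply] at h0
    rw [h0]
    exact zero_mem p
  · exact hc i _ hi (SetLike.coe_mem _)

end Groth.Agent.H80.ProjStalkDepth
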