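import Groth.Prelude.Def_DualLC
import Groth.Agent.Lib.Cyc.DimFormula
import Groth.Agent.Lib.Depth.Local
import Groth.Agent.Lib.Depth.Basic
import Groth.Agent.Lib.LCFin.FinitenessThm
import Groth.Agent.H80.ProjStalkDepth
import Mathlib.RingTheory.Ideal.GoingUp
import Mathlib.RingTheory.Localization.LocalizationLocalization
import Mathlib.RingTheory.Localization.Finiteness

/-!
# The cutoff invariant along finite algebras
-/

set_option autoImplicit false
set_option linter.style.haveILetI false

universe u

open LocCoh IsLocalRing Groth.Agent.Lib.Depth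

namespace Groth.Agent.H80.CutoffFinite

/-- Two steps of localisation compute the depth at the prime. -/
theorem depth_localization_localization {R S : Type u} [CommRing R] [CommRing S] [Algebra R S]
    (T : Submonoid R) [IsLocalization T S] (M N : Type u) [AddCommGroup M] [Module R M]
    [AddCommGroup N] [Module R N] [Module S N] [IsScalarTower R S N] (f : M →ₗ[R] N)
    [IsLocalizedModule T f] (P' : Ideal S) [P'.IsPrime] (P : Ideal R) [P.IsPrime]
    (hP : P'.comap (algebraMap R S) = P) :
    depth (Localization.AtPrime P') (LocalizedModule P'.primeCompl N) =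
      depth (Localization.AtPrime P) (LocalizedModule P.primeCompl M) := by
  subst hP
  set P := P'.comap (algebraMap R S) with hP
  let g := LocalizedModule.mkLinearMap P'.primeCompl N
  let ψ : M →ₗ[R] LocalizedModule P'.primeCompl N := g.restrictScalars R ∘ₗ f
  let K := Localization.AtPrime P'
  haveI hK : IsLocalization.AtPrime K P :=
    IsLocalization.isLocalization_isLocalization_atPrime_isLocalization T K P'
  haveI : IsLocalizedModule P.primeCompl ψ := by
    refine ⟨fun s => ?_, fun y => ?_, fun {x₁ x₂} h => ?_⟩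
    · have hu : IsUnit (algebraMap R K s.1) := IsLocalization.map_units K s
      rw [Module.End.isUnit_iff]
      have key : ∀ y : LocalizedModule P'.primeCompl N,
          algebraMap R (Module.End R (LocalizedModule P'.primeCompl N)) s.1 y =
            algebraMap R K s.1 • y := fun y => by
        rw [Module.algebraMap_end_apply, algebraMap_smul]
      constructor
      · intro a b h
        rw [key, key] at h
        exact hu.smul_left_cancel.mp h
      · intro b
        refine ⟨((hu.unit⁻¹ : Kˣ) : K) • b, ?_⟩
        rw [key, smul_smul, IsUnit.mul_val_inv, one_smul]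
    · obtain ⟨⟨z, t⟩, hzt⟩ := IsLocalizedModule.surj P'.primeCompl g y
      obtain ⟨⟨m, u⟩, hmu⟩ := IsLocalizedModule.surj T f z
      obtain ⟨⟨r, v⟩, hrv⟩ := IsLocalization.surj T (t : S)
      have hu : (u : R) ∉ P := fun h => ‹P'.IsPrime›.ne_top
        (Ideal.eq_top_of_isUnit_mem _ h (IsLocalization.map_units S u))
      have hr : r ∉ P := fun h => by
        rw [hP, Ideal.mem_comap, ← hrv] at h
        exact (‹P'.IsPrime›.mem_or_mem h).elim t.2 fun h' =>
          ‹P'.IsPrime›.ne_top (Ideal.eq_top_of_isUnit_mem _ h' (IsLocalization.map_units S v))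
      refine ⟨⟨(v : R) • m, ⟨r, hr⟩ * ⟨u, hu⟩⟩, ?_⟩
      rw [Submonoid.smul_def] at hzt hmu ⊢
      change (r * (u : R)) • y = g (f ((v : R) • m))
      rw [map_smul, ← hmu, ← algebraMap_smul S (v : R), map_smul, ← algebraMap_smul S (u : R) z,
        map_smul, ← hzt, smul_smul, smul_smul, ← algebraMap_smul S (r * (u : R)), map_mul, ← hrv]
      congr 1
      ring
    · obtain ⟨t, ht⟩ := IsLocalizedModule.exists_of_eq (S := P'.primeCompl) (f := g) h
      obtain ⟨⟨r, v⟩, hrv⟩ := IsLocalization.surj T (t : S)
      have hr : r ∉ P := fun h => by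
        rw [hP, Ideal.mem_comap, ← hrv] at h
        exact (‹P'.IsPrime›.mem_or_mem h).elim t.2 fun h' =>
          ‹P'.IsPrime›.ne_top (Ideal.eq_top_of_isUnit_mem _ h' (IsLocalization.map_units S v))
      have h' : f (r • x₁) = f (r • x₂) := by
        rw [map_smul, map_smul, ← algebraMap_smul S r, ← algebraMap_smul S r, ← hrv, mul_comm,
          mul_smul, mul_smul]
        exact congrArg _ (by simpa [Submonoid.smul_def] using ht)
      obtain ⟨w, hw⟩ := IsLocalizedModule.exists_of_eq (S := T) (f := f) h'
      have hw' : (w : R) ∉ P := fun h => ‹P'.IsPrime›.ne_top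
        (Ideal.eq_top_of_isUnit_mem _ h (IsLocalization.map_units S w))
      refine ⟨⟨w, hw'⟩ * ⟨r, hr⟩, ?_⟩
      simpa [Submonoid.smul_def, mul_smul] using hw
  let e : Localization.AtPrime P ≃ₐ[R] K := IsLocalization.algEquiv P.primeCompl _ _
  letI : Algebra (Localization.AtPrime P) K := e.toAlgHom.toRingHom.toAlgebra
  haveI : IsScalarTower R (Localization.AtPrime P) K :=
    IsScalarTower.of_algebraMap_eq fun r => (e.commutes r).symm
  letI : Module (Localization.AtPrime P) (LocalizedModule P'.primeCompl N) :=
    Module.compHom _ (algebraMap (Localization.AtPrime P) K)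
  haveI : IsScalarTower (Localization.AtPrime P) K (LocalizedModule P'.primeCompl N) :=
    IsScalarTower.of_algebraMap_smul fun _ _ => rfl
  haveI : IsScalarTower R (Localization.AtPrime P) (LocalizedModule P'.primeCompl N) :=
    IsScalarTower.of_algebraMap_smul fun r y => by
      change algebraMap (Localization.AtPrime P) K (algebraMap R _ r) • y = r • y
      rw [← IsScalarTower.algebraMap_apply, algebraMap_smul]
  rw [← Basic.depth_eq_of_surjective (R := Localization.AtPrime P) (S := K) e.surjective]
  exact (Basic.depth_congr ((IsLocalizedModule.iso P.primeCompl ψ).extendScalarsOfIsLocalization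
    P.primeCompl (Localization.AtPrime P))).symm

section Finite

variable {A B : Type u} [CommRing A] [CommRing B] [Algebra A B] [IsNoetherianRing A]
  [IsNoetherianRing B] [Module.Finite A B]
  (M : Type u) [AddCommGroup M] [Module B M] [Module A M] [IsScalarTower A B M] [Module.Finite B M]

/-- The depth of `M_p` is the least depth of the `M_P`, `P` over `p`. -/
theorem depth_localization_eq_iInf (p : PrimeSpectrum A) :
    depth (Localization.AtPrime p.asIdeal) (LocalizedModule p.asIdeal.primeCompl M) =
      ⨅ (P : PrimeSpectrum B) (_ : P.asIdeal.comap (algebraMap A B) = p.asIdeal),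
        depth (Localization.AtPrime P.asIdeal) (LocalizedModule P.asIdeal.primeCompl M) := by
  let T := Algebra.algebraMapSubmonoid B p.asIdeal.primeCompl
  let Ap := Localization.AtPrime p.asIdeal
  let B' := Localization T
  let N := LocalizedModule T M
  let f := LocalizedModule.mkLinearMap T M
  letI : Algebra Ap B' := localizationAlgebra p.asIdeal.primeCompl B
  haveI : IsScalarTower A Ap B' := IsScalarTower.of_algebraMap_eq fun a => by
    rw [RingHom.algebraMap_toAlgebra]
    exact ((IsLocalization.map_eq (S := Ap) _ a).trans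
      (IsScalarTower.algebraMap_apply A B B' a).symm).symm
  haveI : Module.Finite Ap B' := Module.Finite.of_isLocalization A B p.asIdeal.primeCompl
  haveI : IsNoetherianRing B' := IsLocalization.isNoetherianRing T B' inferInstance
  haveI : Module.Finite B' N := Module.Finite.of_isLocalizedModule T f
  letI : Module Ap N := Module.compHom N (algebraMap Ap B')
  haveI : IsScalarTower Ap B' N := IsScalarTower.of_algebraMap_smul fun _ _ => rfl
  haveI : IsScalarTower A B' N := IsScalarTower.of_algebraMap_smul fun a y => by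
    rw [IsScalarTower.algebraMap_apply A B B', algebraMap_smul, algebraMap_smul]
  haveI : IsScalarTower A Ap N := IsScalarTower.of_algebraMap_smul fun a y => by
    change algebraMap Ap B' (algebraMap A Ap a) • y = a • y
    rw [← IsScalarTower.algebraMap_apply, algebraMap_smul]
  haveI : IsLocalizedModule p.asIdeal.primeCompl (f.restrictScalars A) := by
    refine ⟨fun s => ?_, fun y => ?_, fun {x₁ x₂} h => ?_⟩
    · have hu : IsUnit (algebraMap A Ap s.1) := IsLocalization.map_units Ap s
      rw [Module.End.isUnit_iff]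
      have key : ∀ y : N, algebraMap A (Module.End A N) s.1 y = algebraMap A Ap s.1 • y := fun y => by
        rw [Module.algebraMap_end_apply, algebraMap_smul]
      constructor
      · intro a b h
        rw [key, key] at h
        exact hu.smul_left_cancel.mp h
      · intro b
        refine ⟨((hu.unit⁻¹ : Apˣ) : Ap) • b, ?_⟩
        rw [key, smul_smul, IsUnit.mul_val_inv, one_smul]
    · obtain ⟨⟨m, ⟨_, a, ha, rfl⟩⟩, hm⟩ := IsLocalizedModule.surj T f y
      exact ⟨⟨m, ⟨a, ha⟩⟩, by simpa [Submonoid.smul_def] using hm⟩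
    · obtain ⟨⟨_, a, ha, rfl⟩, hc⟩ := IsLocalizedModule.exists_of_eq (S := T) (f := f) h
      exact ⟨⟨a, ha⟩, by simpa [Submonoid.smul_def] using hc⟩
  rw [Basic.depth_congr ((IsLocalizedModule.iso p.asIdeal.primeCompl (f.restrictScalars A)).extendScalarsOfIsLocalization
    p.asIdeal.primeCompl Ap), LocCoh.depth,
    Local.idealDepth_eq_map_of_finite B' (maximalIdeal Ap) N, Local.idealDepth_eq_iInf]
  refine le_antisymm (le_iInf₂ fun P hP => ?_) (le_iInf₂ fun P' hP' => ?_)
  · have hdisj : Disjoint (T : Set B) (P.asIdeal : Set B) := by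
      rw [Set.disjoint_left]
      rintro _ ⟨a, ha, rfl⟩ h
      exact ha (hP ▸ h : a ∈ p.asIdeal)
    haveI hpr := IsLocalization.isPrime_of_isPrime_disjoint T B' P.asIdeal P.2 hdisj
    have hc := IsLocalization.under_map_of_isPrime_disjoint T B' P.2 hdisj
    refine (iInf₂_le ⟨_, hpr⟩ ?_).trans (le_of_eq
      (depth_localization_localization T M N f _ P.asIdeal hc))
    change (maximalIdeal Ap).map (algebraMap Ap B') ≤ P.asIdeal.map (algebraMap B B')
    rw [← Localization.AtPrime.map_eq_maximalIdeal, Ideal.map_map, ← IsScalarTower.algebraMap_eq,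
      IsScalarTower.algebraMap_eq A B B', ← Ideal.map_map]
    exact Ideal.map_mono (Ideal.map_le_iff_le_comap.mpr hP.ge)
  · let P : PrimeSpectrum B := ⟨P'.asIdeal.comap (algebraMap B B'), inferInstance⟩
    refine (iInf₂_le P ?_).trans (le_of_eq
      (depth_localization_localization T M N f P'.asIdeal P.asIdeal rfl).symm)
    refine le_antisymm (fun a ha => ?_) fun a ha => ?_
    · by_contra h
      exact P'.2.ne_top (Ideal.eq_top_of_isUnit_mem _ ha
        (IsLocalization.map_units B' (⟨algebraMap A B a,
          Submonoid.mem_map_of_mem _ (show a ∈ p.asIdeal.primeCompl from h)⟩ : T)))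
    · change algebraMap B B' (algebraMap A B a) ∈ P'.asIdeal
      rw [← IsScalarTower.algebraMap_apply, IsScalarTower.algebraMap_apply A Ap B']
      exact hP' (Ideal.mem_map_of_mem _ ((IsLocalization.AtPrime.to_map_mem_maximal_iff Ap p.asIdeal a).mpr ha))

set_option backward.isDefEq.respectTransparency false in
omit [Module.Finite A B] [IsNoetherianRing B] in
/-- Chains between primes of a finite algebra over a universally catenary ring. -/
theorem height_Ici_eq [Module.Finite A B] [IsNoetherianRing B] (hA : CAlg.IsUniversallyCatenary A)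
    (P Q : PrimeSpectrum B) (h : P ≤ Q) :
    Order.height (⟨Q, h⟩ : Set.Ici P) =
      Order.height (⟨PrimeSpectrum.comap (algebraMap A B) Q, Ideal.comap_mono h⟩ :
        Set.Ici (PrimeSpectrum.comap (algebraMap A B) P)) := by
  let p := PrimeSpectrum.comap (algebraMap A B) P
  rw [← Lib.LCFin.FinitenessThm.height_map_mk_eq P Q h,
    ← Lib.LCFin.FinitenessThm.height_map_mk_eq p (PrimeSpectrum.comap (algebraMap A B) Q) (Ideal.comap_mono h)]
  let R := A ⧸ p.asIdeal
  let T := B ⧸ P.asIdeal
  letI : Algebra R T := Ideal.Quotient.algebraQuotientOfLEComap le_rfl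
  haveI : IsScalarTower A R T := IsScalarTower.of_algebraMap_eq fun _ => rfl
  haveI : Module.Finite R T := Module.Finite.of_restrictScalars_finite A R T
  have hinj : Function.Injective (algebraMap R T) := Ideal.quotientMap_injective
  haveI : FaithfulSMul R T := (faithfulSMul_iff_algebraMap_injective _ _).mpr hinj
  obtain ⟨n, φ, hφ⟩ := Algebra.FiniteType.iff_quotient_mvPolynomial''.mp
    (inferInstance : Algebra.FiniteType R T)
  haveI : Algebra.IsAlgebraic R T := Algebra.IsIntegral.isAlgebraic
  obtain ⟨t, ht, ht'⟩ := Lib.Cyc.DimFormula.height_ker_add_trdeg_of_injective φ hφ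
  have ht0 : t = 0 := by exact_mod_cast (ht.symm.trans trdeg_eq_zero)
  subst ht0
  rw [Nat.cast_zero, add_zero] at ht'
  let q := (PrimeSpectrum.comap (algebraMap A B) Q).asIdeal.map (Ideal.Quotient.mk p.asIdeal)
  let QT := Q.asIdeal.map (Ideal.Quotient.mk P.asIdeal)
  haveI hQT : QT.IsPrime := Ideal.map_isPrime_of_surjective Ideal.Quotient.mk_surjective
    (by rw [Ideal.mk_ker]; exact h)
  have hcQ : QT.comap (Ideal.Quotient.mk P.asIdeal) = Q.asIdeal := by
    rw [Ideal.comap_map_of_surjective' _ Ideal.Quotient.mk_surjective, Ideal.mk_ker]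
    exact sup_eq_left.mpr h
  have hqle : p.asIdeal ≤ (PrimeSpectrum.comap (algebraMap A B) Q).asIdeal := Ideal.comap_mono h
  haveI hq : q.IsPrime := Ideal.map_isPrime_of_surjective Ideal.Quotient.mk_surjective
    (by rw [Ideal.mk_ker]; exact hqle)
  have hqc : QT.comap (algebraMap R T) = q := by
    refine Ideal.comap_injective_of_surjective (Ideal.Quotient.mk p.asIdeal) Ideal.Quotient.mk_surjective ?_
    rw [Ideal.comap_map_of_surjective' _ Ideal.Quotient.mk_surjective, Ideal.mk_ker, sup_eq_left.mpr hqle,
      Ideal.comap_comap]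
    change QT.comap ((Ideal.Quotient.mk P.asIdeal).comp (algebraMap A B)) = _
    rw [← Ideal.comap_comap, hcQ]
    rfl
  -- the residue extension
  let T' := T ⧸ QT
  letI : Algebra (R ⧸ q) T' := Ideal.Quotient.algebraQuotientOfLEComap hqc.ge
  haveI : IsScalarTower R (R ⧸ q) T' := IsScalarTower.of_algebraMap_smul (R := R) (A := R ⧸ q) (M := T') fun r y => by
    obtain ⟨y, rfl⟩ := Ideal.Quotient.mk_surjective (I := QT) y
    rw [Algebra.smul_def (R := R ⧸ q), Algebra.smul_def (R := R)]
    rfl
  haveI : Module.Finite (R ⧸ q) T' := Module.Finite.of_restrictScalars_finite R (R ⧸ q) T'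
  haveI : FaithfulSMul (R ⧸ q) T' :=
    (faithfulSMul_iff_algebraMap_injective _ _).mpr (Ideal.quotientMap_injective' hqc.le)
  haveI : Algebra.IsAlgebraic (R ⧸ q) T' := Algebra.IsIntegral.isAlgebraic
  obtain ⟨s, hs, hs'⟩ := Lib.Cyc.DimFormula.height_ker_add_trdeg (p := q)
    ((Ideal.Quotient.mkₐ R QT).comp φ) ((Ideal.Quotient.mkₐ_surjective R QT).comp hφ)
  have hs0 : s = 0 := by exact_mod_cast (hs.symm.trans trdeg_eq_zero)
  subst hs0
  rw [Nat.cast_zero, add_zero] at hs'
  have hcat : CAlg.IsCatenary (MvPolynomial (Fin n) R) := hA.2 _ inferInstance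
  have key := (Lib.Cyc.DimFormula.height_map_add φ.toRingHom hφ QT).2 inferInstance hcat
  have hker : RingHom.ker ((Ideal.Quotient.mkₐ R QT).comp φ) = QT.comap φ.toRingHom := by
    ext z
    exact Ideal.Quotient.eq_zero_iff_mem
  rw [← hker, hs'] at key
  change QT.height + (RingHom.ker φ).height = _ at key
  rw [ht'] at key
  exact (ENat.add_left_injective_of_ne_top (ENat.natCast_ne_top n)) key

set_option backward.isDefEq.respectTransparency false in
theorem main (hA : CAlg.IsUniversallyCatenary A) (I : Ideal A) :
    Dual2.cutoff B (I.map (algebraMap A B)) M = Dual2.cutoff A I M := by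
  refine le_antisymm ?_ ?_
  · refine le_iInf fun p => le_iInf fun q => le_iInf fun h => le_iInf₂ fun hp hq => ?_
    rw [depth_localization_eq_iInf (B := B) M, ENat.iInf_add]
    refine le_iInf fun P => ?_
    rw [ENat.iInf_add]
    refine le_iInf fun hP => ?_
    obtain ⟨Q', hPQ, hQ'p, hQ'⟩ := Ideal.exists_ideal_over_prime_of_isIntegral q.asIdeal P.asIdeal (hP.le.trans h)
    let Q : PrimeSpectrum B := ⟨Q', hQ'p⟩
    have hle : P ≤ Q := hPQ
    refine (iInf_le_of_le P <| iInf_le_of_le Q <| iInf_le_of_le hle <|
      iInf₂_le_of_le (fun hc => hp (hP ▸ Ideal.map_le_iff_le_comap.mp hc))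
        (Ideal.map_le_iff_le_comap.mpr (hQ' ▸ hq)) le_rfl).trans (le_of_eq ?_)
    rw [height_Ici_eq hA P Q hle]
    obtain rfl : PrimeSpectrum.comap (algebraMap A B) P = p := PrimeSpectrum.ext hP
    obtain rfl : PrimeSpectrum.comap (algebraMap A B) Q = q := PrimeSpectrum.ext hQ'
    rfl
  · refine le_iInf fun P => le_iInf fun Q => le_iInf fun h => le_iInf₂ fun hP hQ => ?_
    refine (iInf_le_of_le (PrimeSpectrum.comap (algebraMap A B) P) <|
      iInf_le_of_le (PrimeSpectrum.comap (algebraMap A B) Q) <|
      iInf_le_of_le (Ideal.comap_mono h) <| iInf₂_le_of_le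
        (fun hc => hP (Ideal.map_le_iff_le_comap.mpr hc)) (Ideal.map_le_iff_le_comap.mp hQ) le_rfl).trans ?_
    rw [height_Ici_eq hA P Q h]
    refine add_le_add ?_ le_rfl
    rw [depth_localization_eq_iInf (B := B) M]
    exact iInf₂_le (f := fun (P' : PrimeSpectrum B) (_ : P'.asIdeal.comap (algebraMap A B) =
        (PrimeSpectrum.comap (algebraMap A B) P).asIdeal) =>
      depth (Localization.AtPrime P'.asIdeal) (LocalizedModule P'.asIdeal.primeCompl M)) P rfl

end Finite

end Groth.Agent.H80.CutoffFinite
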