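import Groth.Agent.Lib.LocalCoh.Basic
import Mathlib.RingTheory.Derivation.Basic
import Mathlib.CategoryTheory.Abelian.RightDerived
import Mathlib.Algebra.Module.Injective

/-!
# Operators over a derivation on injective resolutions and on local cohomology
-/

universe u

open CategoryTheory CategoryTheory.Limits

namespace Groth.Agent.H80.DerivLC

variable {A : Type u} [CommRing A] (θ : Derivation ℤ A A)

/-- The twisted extension of `E` by `E` along the derivation `θ`. -/
def Tw (_θ : Derivation ℤ A A) (E : Type u) : Type u := E × E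

variable {E : Type u} [AddCommGroup E] [Module A E]

instance : AddCommGroup (Tw θ E) := inferInstanceAs (AddCommGroup (E × E))

instance : Module A (Tw θ E) where
  smul a p := (a • p.1, θ a • p.1 + a • p.2)
  one_smul p := Prod.ext (one_smul A p.1)
    (show θ 1 • p.1 + (1 : A) • p.2 = p.2 by rw [θ.map_one_eq_zero, zero_smul, zero_add, one_smul])
  mul_smul a b p := Prod.ext (mul_smul a b p.1)
    (show θ (a * b) • p.1 + (a * b) • p.2 = θ a • b • p.1 + a • (θ b • p.1 + b • p.2) by
      rw [θ.leibniz, add_smul, smul_eq_mul, smul_eq_mul, smul_add, mul_smul a (θ b) p.1,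
        ← mul_smul (θ a) b p.1, mul_comm (θ a) b, mul_smul a b p.2]
      abel)
  smul_zero a := Prod.ext (smul_zero a)
    (show θ a • (0 : E) + a • (0 : E) = 0 by rw [smul_zero, smul_zero, add_zero])
  smul_add a p q := Prod.ext (smul_add a p.1 q.1)
    (show θ a • (p.1 + q.1) + a • (p.2 + q.2) = (θ a • p.1 + a • p.2) + (θ a • q.1 + a • q.2) by
      rw [smul_add, smul_add]; abel)
  add_smul a b p := Prod.ext (add_smul a b p.1)
    (show θ (a + b) • p.1 + (a + b) • p.2 = (θ a • p.1 + a • p.2) + (θ b • p.1 + b • p.2) by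
      rw [map_add, add_smul, add_smul]; abel)
  zero_smul p := Prod.ext (zero_smul A p.1)
    (show θ 0 • p.1 + (0 : A) • p.2 = 0 by rw [map_zero, zero_smul, zero_smul, add_zero])

/-- Constructor of `Tw`. -/
def Tw.mk (θ : Derivation ℤ A A) (x y : E) : Tw θ E := (x, y)

/-- An injective module carries an operator over any derivation. -/
theorem exists_op [Module.Injective A E] :
    ∃ g : E →+ E, ∀ (a : A) (x : E), g (a • x) = θ a • x + a • g x := by
  let i2 : E →ₗ[A] Tw θ E :=
    { toFun := fun y => Tw.mk θ 0 y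
      map_add' := fun x y => Prod.ext (add_zero (0 : E)).symm rfl
      map_smul' := fun a y => Prod.ext (smul_zero a).symm
        (show a • y = θ a • (0 : E) + a • y by rw [smul_zero, zero_add]) }
  obtain ⟨r, hr⟩ := Module.Injective.out i2 (fun x y h => congrArg Prod.snd h) LinearMap.id
  refine ⟨AddMonoidHom.mk' (fun x => - r (Tw.mk θ x 0)) (fun x y => ?_), fun a x => ?_⟩
  · show - r (Tw.mk θ (x + y) 0) = - r (Tw.mk θ x 0) + - r (Tw.mk θ y 0)
    rw [← neg_add, ← map_add]
    congr 2
    exact Prod.ext rfl (add_zero (0 : E)).symm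
  · show - r (Tw.mk θ (a • x) 0) = θ a • x + a • - r (Tw.mk θ x 0)
    have h1 : (a • (Tw.mk θ x 0)) = (Tw.mk θ (a • x) 0) + i2 (θ a • x) := by
      refine Prod.ext (add_zero (a • x)).symm ?_
      show θ a • x + a • (0 : E) = 0 + θ a • x
      rw [smul_zero, add_zero, zero_add]
    have h2 := congrArg r h1
    rw [map_smul, map_add, show r (i2 (θ a • x)) = θ a • x from hr (θ a • x)] at h2
    rw [smul_neg, h2]
    abel

/-- An operator defined on a submodule of an injective module extends. -/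
theorem exists_extend [Module.Injective A E] {M : Type u} [AddCommGroup M] [Module A M]
    (j : M →ₗ[A] E) (hj : Function.Injective j) (D : M →+ E)
    (hD : ∀ (a : A) (m : M), D (a • m) = θ a • j m + a • D m) :
    ∃ D' : E →+ E, (∀ (a : A) (x : E), D' (a • x) = θ a • x + a • D' x) ∧
      ∀ m, D' (j m) = D m := by
  obtain ⟨g, hg⟩ := exists_op θ (E := E)
  let diff : M →ₗ[A] E :=
    { toFun := fun m => D m - g (j m)
      map_add' := fun m n => by simp only [map_add]; abel
      map_smul' := fun a m => by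
        simp only [map_smul, hg, hD, RingHom.id_apply, smul_sub]
        abel }
  obtain ⟨h, hh⟩ := Module.Injective.out j hj diff
  refine ⟨g + h.toAddMonoidHom, fun a x => ?_, fun m => ?_⟩
  · show g (a • x) + h (a • x) = θ a • x + a • (g x + h x)
    rw [hg, map_smul, smul_add, add_assoc]
  · show g (j m) + h (j m) = D m
    rw [hh]
    exact add_sub_cancel (g (j m)) (D m)

/-- An operator on the source of `d` preserving its kernel pushes to the target of `d`. -/
theorem exists_push {N : Type u} [AddCommGroup N] [Module A N] {E' : Type u} [AddCommGroup E']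
    [Module A E'] [Module.Injective A E'] (d : N →ₗ[A] E') (D : N →+ N)
    (hD : ∀ (a : A) (x : N), D (a • x) = θ a • x + a • D x) (hk : ∀ x, d x = 0 → d (D x) = 0) :
    ∃ D' : E' →+ E', (∀ (a : A) (x : E'), D' (a • x) = θ a • x + a • D' x) ∧
      ∀ x, D' (d x) = d (D x) := by
  have hs : ∀ m : LinearMap.range d, ∃ x, d x = m.1 := fun m => m.2
  choose s hs using hs
  have key : ∀ (m : LinearMap.range d) (x : N), d x = m.1 → d (D (s m)) = d (D x) := fun m x hx => by
    have := hk (s m - x) (by rw [map_sub, hs, hx, sub_self])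
    rwa [map_sub, map_sub, sub_eq_zero] at this
  let D₀ : LinearMap.range d →+ E' := AddMonoidHom.mk' (fun m => d (D (s m))) (fun m n => by
    show d (D (s (m + n))) = d (D (s m)) + d (D (s n))
    rw [key (m + n) (s m + s n) (by rw [map_add, hs, hs]; rfl), map_add, map_add])
  obtain ⟨D', h1, h2⟩ := exists_extend θ (LinearMap.range d).subtype Subtype.val_injective D₀
    (fun a m => by
      show d (D (s (a • m))) = θ a • m.1 + a • d (D (s m))
      rw [key (a • m) (a • s m) (by rw [map_smul, hs]; rfl), hD, map_add, map_smul, map_smul, hs])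
  exact ⟨D', h1, fun x => (h2 ⟨d x, LinearMap.mem_range_self d x⟩).trans (key _ x rfl)⟩

/-- An operator compatible with an injective resolution. -/
theorem exists_ops {M : ModuleCat.{u} A} (D : M →+ M)
    (hD : ∀ (a : A) (x : M), D (a • x) = θ a • x + a • D x) (J : InjectiveResolution M) :
    ∃ Ds : (n : ℕ) → (J.cocomplex.X n →+ J.cocomplex.X n),
      (∀ n (a : A) (x : J.cocomplex.X n), Ds n (a • x) = θ a • x + a • Ds n x) ∧
      ∀ i j (x : J.cocomplex.X i), Ds j ((J.cocomplex.d i j).hom x) = (J.cocomplex.d i j).hom (Ds i x) := by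
  have inj : ∀ n, Module.Injective A (J.cocomplex.X n) := fun n =>
    have : CategoryTheory.Injective (ModuleCat.of A (J.cocomplex.X n)) := J.injective n
    Module.injective_module_of_injective_object A _
  have ex0 := (ShortComplex.exact_of_f_is_kernel
        (ShortComplex.mk _ _ J.ι_f_zero_comp_complex_d) J.isLimitKernelFork)
  have mono := (ModuleCat.mono_iff_injective (J.ι.f 0)).1 inferInstance
  let ι₀ : M →ₗ[A] J.cocomplex.X 0 := (J.ι.f 0).hom
  obtain ⟨D0, hD0, hD0'⟩ := exists_extend θ ι₀ mono ((ι₀.toAddMonoidHom).comp D)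
    (fun a m => by
      show ι₀ (D (a • m)) = θ a • ι₀ m + a • ι₀ (D m)
      rw [hD, map_add, map_smul, map_smul])
  have h00 : ∀ x : J.cocomplex.X 0, (J.cocomplex.d 0 1).hom x = 0 →
      (J.cocomplex.d 0 1).hom (D0 x) = 0 := fun x hx => by
    obtain ⟨m, rfl⟩ := ex0.moduleCat_range_eq_ker.ge hx
    refine (congrArg (fun y => (J.cocomplex.d 0 1).hom y) (hD0' m)).trans ?_
    exact congrArg (fun f => f.hom (D m)) J.ι_f_zero_comp_complex_d
  let P : ℕ → Type u := fun n => {D : J.cocomplex.X n →+ J.cocomplex.X n //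
    (∀ (a : A) (x : J.cocomplex.X n), D (a • x) = θ a • x + a • D x) ∧
    ∀ x, (J.cocomplex.d n (n + 1)).hom x = 0 → (J.cocomplex.d n (n + 1)).hom (D x) = 0}
  have step : ∀ n (Dn : P n), ∃ D' : P (n + 1), ∀ x,
      D'.1 ((J.cocomplex.d n (n + 1)).hom x) = (J.cocomplex.d n (n + 1)).hom (Dn.1 x) := by
    intro n Dn
    obtain ⟨D', h1, h2⟩ := exists_push θ (J.cocomplex.d n (n + 1)).hom Dn.1 Dn.2.1 Dn.2.2
    refine ⟨⟨D', h1, fun y hy => ?_⟩, h2⟩
    obtain ⟨x, rfl⟩ := (J.exact_succ n).moduleCat_range_eq_ker.ge hy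
    show (J.cocomplex.d (n + 1) (n + 1 + 1)).hom (D' ((J.cocomplex.d n (n + 1)).hom x)) = 0
    rw [h2]
    exact congrArg (fun f => f.hom (Dn.1 x)) (J.cocomplex.d_comp_d n (n + 1) (n + 1 + 1))
  choose next hnext using step
  let seq : (n : ℕ) → P n := fun n =>
    Nat.rec (motive := P) ⟨D0, hD0, h00⟩ (fun k Dk => next k Dk) n
  refine ⟨fun n => (seq n).1, fun n => (seq n).2.1, fun i j x => ?_⟩
  by_cases h : i + 1 = j
  · subst h
    exact hnext i (seq i) x
  · rw [J.cocomplex.shape i j h]
    simp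

theorem map_mem_pow (I : Ideal A) : ∀ (n : ℕ) (a : A), a ∈ I ^ (n + 1) → θ a ∈ I ^ n
  | 0, a, _ => by simp
  | n + 1, a, ha => by
    rw [pow_succ] at ha
    induction ha using Submodule.mul_induction_on' with
    | mem_mul_mem b hb c hc =>
      rw [θ.leibniz, smul_eq_mul, smul_eq_mul]
      refine add_mem (Ideal.mul_mem_right _ _ hb) ?_
      rw [mul_comm, pow_succ]
      exact Ideal.mul_mem_mul (map_mem_pow I n b hb) hc
    | add b _ c _ hb hc => rw [map_add]; exact add_mem hb hc

theorem op_mem_torsionSub (I : Ideal A) (D : E →+ E)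
    (hD : ∀ (a : A) (x : E), D (a • x) = θ a • x + a • D x) {m : E}
    (hm : m ∈ DRing.torsionSub I E) : D m ∈ DRing.torsionSub I E := by
  obtain ⟨n, hn⟩ := hm
  refine ⟨n + 1, fun a ha => ?_⟩
  have := hD a m
  rw [hn a (Ideal.pow_le_pow_right (Nat.le_succ n) ha), map_zero,
    hn _ (map_mem_pow θ I n a ha), zero_add] at this
  exact this.symm

/-- The operator on torsion. -/
def opTorsion (I : Ideal A) (D : E →+ E)
    (hD : ∀ (a : A) (x : E), D (a • x) = θ a • x + a • D x) :
    DRing.torsionSub I E →+ DRing.torsionSub I E :=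
  AddMonoidHom.mk' (fun m => ⟨D m.1, op_mem_torsionSub θ I D hD m.2⟩)
    (fun m n => Subtype.ext (D.map_add m.1 n.1))

/-- An operator compatible with a short complex induces one on its homology. -/
theorem exists_op_homology (S : ShortComplex (ModuleCat.{u} A)) (D₁ : S.X₁ →+ S.X₁)
    (D₂ : S.X₂ →+ S.X₂) (D₃ : S.X₃ →+ S.X₃)
    (hD : ∀ (a : A) (x : S.X₂), D₂ (a • x) = θ a • x + a • D₂ x)
    (hf : ∀ x, D₂ (S.f.hom x) = S.f.hom (D₁ x)) (hg : ∀ x, D₃ (S.g.hom x) = S.g.hom (D₂ x)) :
    ∃ D : S.homology →+ S.homology,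
      ∀ (a : A) (ξ : S.homology), D (a • ξ) = θ a • ξ + a • D ξ := by
  let K : Submodule A S.X₂ := LinearMap.ker S.g.hom
  let R : Submodule A K := LinearMap.range S.moduleCatToCycles
  let DK : K →+ K := AddMonoidHom.mk' (fun x => ⟨D₂ x.1, by
    show S.g.hom (D₂ x.1) = 0
    rw [← hg, show S.g.hom x.1 = 0 from x.2, map_zero]⟩) (fun x y => Subtype.ext (D₂.map_add x.1 y.1))
  let DQ : K ⧸ R →+ K ⧸ R := QuotientAddGroup.lift R.toAddSubgroup
    (R.mkQ.toAddMonoidHom.comp DK) (by
      rintro _ ⟨z, rfl⟩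
      show Submodule.Quotient.mk (DK (S.moduleCatToCycles z)) = 0
      refine (Submodule.Quotient.mk_eq_zero R).2 ⟨D₁ z, Subtype.ext ?_⟩
      exact (hf z).symm)
  let e : S.homology ≃ₗ[A] (K ⧸ R) := S.moduleCatHomologyIso.toLinearEquiv
  refine ⟨e.symm.toAddMonoidHom.comp (DQ.comp e.toAddMonoidHom), fun a ξ => ?_⟩
  show e.symm (DQ (e (a • ξ))) = θ a • ξ + a • e.symm (DQ (e ξ))
  apply e.injective
  rw [e.apply_symm_apply, e.map_add, e.map_smul, e.map_smul, e.map_smul, e.apply_symm_apply]
  obtain ⟨x, hx⟩ := R.mkQ_surjective (e ξ)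
  rw [← hx]
  show Submodule.Quotient.mk (DK (a • x)) =
    θ a • Submodule.Quotient.mk x + a • Submodule.Quotient.mk (DK x)
  rw [← Submodule.Quotient.mk_smul, ← Submodule.Quotient.mk_smul, ← Submodule.Quotient.mk_add]
  exact congrArg _ (Subtype.ext (hD a x.1))

/-- The operator on local cohomology of `A`. -/
theorem exists_op_localCohomology (I : Ideal A) (i : ℕ) (M : ModuleCat.{u} A) (D : M →+ M)
    (hD : ∀ (a : A) (x : M), D (a • x) = θ a • x + a • D x) :
    ∃ D' : (localCohomology I i).obj M →+ (localCohomology I i).obj M,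
      ∀ (a : A) (ξ : (localCohomology I i).obj M), D' (a • ξ) = θ a • ξ + a • D' ξ := by
  let J := injectiveResolution M
  obtain ⟨Ds, hlin, hcomm⟩ := exists_ops θ D hD J
  let L := ((DRing.gammaI I).mapHomologicalComplex (ComplexShape.up ℕ)).obj J.cocomplex
  obtain ⟨DH, hDH⟩ := exists_op_homology θ (L.sc i)
    (opTorsion θ I (Ds _) (hlin _)) (opTorsion θ I (Ds i) (hlin i)) (opTorsion θ I (Ds _) (hlin _))
    (fun a x => Subtype.ext (hlin i a x.1))
    (fun x => Subtype.ext (hcomm _ _ x.1)) (fun x => Subtype.ext (hcomm _ _ x.1))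
  let e : (localCohomology I i).obj M ≃ₗ[A] (L.sc i).homology :=
    (((Groth.Agent.Lib.LocalCoh.rightDerivedGammaIso I i).app M).symm ≪≫
      J.isoRightDerivedObj (DRing.gammaI I) i).toLinearEquiv
  refine ⟨e.symm.toAddMonoidHom.comp (DH.comp e.toAddMonoidHom), fun a ξ => ?_⟩
  show e.symm (DH (e (a • ξ))) = θ a • ξ + a • e.symm (DH (e ξ))
  rw [e.map_smul, hDH, e.symm.map_add, e.symm.map_smul, e.symm.map_smul, e.symm_apply_apply]

end Groth.Agent.H80.DerivLC
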