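import Mathlib.RingTheory.Discriminant
import Mathlib.RingTheory.Etale.Field
import Mathlib.RingTheory.Etale.Descent
import Mathlib.RingTheory.Smooth.Fiber
import Mathlib.RingTheory.Unramified.Locus
import Mathlib.RingTheory.LocalRing.Module
import Mathlib.LinearAlgebra.Matrix.Nondegenerate
import Mathlib.RingTheory.Finiteness.ModuleFinitePresentation
import Mathlib.RingTheory.EssentialFiniteness

/-!
# The discriminant criterion for etale finite free algebras
-/

universe u v

open TensorProduct Module

namespace Groth.Agent.H80.DiscEtale

variable {A : Type u} [CommRing A] {B : Type v} [CommRing B] [Algebra A B]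
variable {ι : Type*} [Fintype ι] [DecidableEq ι] (b : Basis ι A B)

theorem discr_baseChange (T : Type*) [CommRing T] [Algebra A T] :
    Algebra.discr T (b.baseChange T : ι → T ⊗[A] B) = algebraMap A T (Algebra.discr A b) := by
  rw [Algebra.discr_def, Algebra.discr_def, RingHom.map_det]
  congr 1
  ext i j
  rw [RingHom.mapMatrix_apply, Matrix.map_apply, Algebra.traceMatrix_apply, Algebra.traceMatrix_apply,
    Algebra.traceForm_apply, Algebra.traceForm_apply, Basis.baseChange_apply, Basis.baseChange_apply,
    Algebra.TensorProduct.tmul_mul_tmul, one_mul, Algebra.trace_apply, Algebra.trace_apply]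
  have := Module.Free.of_basis b
  have := Module.Finite.of_basis b
  rw [← LinearMap.trace_baseChange]
  congr 1
  ext x
  simp

section Field

variable {k : Type u} [Field k] {C : Type v} [CommRing C] [Algebra k C] (c : Basis ι k C)

theorem discr_ne_zero_iff :
    Algebra.discr k c ≠ 0 ↔ ∀ x : C, (∀ y, Algebra.trace k C (x * y) = 0) → x = 0 := by
  rw [Algebra.discr_def, Ne, ← Matrix.exists_mulVec_eq_zero_iff]
  have key : ∀ (v : ι → k) (i : ι),
      (Algebra.traceMatrix k c).mulVec v i = Algebra.trace k C (c i * ∑ j, v j • c j) := fun v i => by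
    simp [Matrix.mulVec, dotProduct, Finset.mul_sum, map_sum, mul_comm (v _)]
  constructor
  · intro h x hx
    by_contra hne
    refine h ⟨c.repr x, fun e => hne (c.repr.map_eq_zero_iff.mp (Finsupp.ext (congrFun e))),
      funext fun i => ?_⟩
    rw [key, c.sum_repr, mul_comm, hx]
    rfl
  · rintro h ⟨v, hv, hv0⟩
    have hx : ∑ j, v j • c j = 0 := h _ fun y => by
      conv_lhs => rw [← c.sum_repr y]
      simp only [Finset.mul_sum, map_sum, mul_smul_comm, map_smul]
      refine Finset.sum_eq_zero fun i _ => ?_
      rw [mul_comm, ← key, hv0, Pi.zero_apply, smul_zero]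
    refine hv (funext fun i => ?_)
    have := congrArg (fun x => c.repr x i) hx
    simpa [Finsupp.finsetSum_apply, Finsupp.single_apply] using this

theorem trace_pi {P : Type*} [Fintype P] [DecidableEq P] (x : P → k) :
    Algebra.trace k (P → k) x = ∑ p, x p := by
  rw [Algebra.trace_eq_matrix_trace (Pi.basisFun k P), Matrix.trace]
  refine Finset.sum_congr rfl fun p _ => ?_
  simp [Algebra.leftMulMatrix_apply]

theorem formallyUnramified_iff_discr_of_isAlgClosed [IsAlgClosed k] :
    Algebra.FormallyUnramified k C ↔ Algebra.discr k c ≠ 0 := by
  classical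
  have := Module.Finite.of_basis c
  rw [discr_ne_zero_iff]
  constructor
  · intro _ x hx
    have : Algebra.FormallyEtale k C := .of_formallyUnramified_of_field k C
    have : IsArtinianRing C := IsArtinianRing.of_finite k C
    have : Fintype (PrimeSpectrum C) := Fintype.ofFinite _
    let e := Algebra.FormallyEtale.equivPiOfIsSepClosed k C
    apply e.injective
    funext p
    have := hx (e.symm (Pi.single p 1))
    rw [← Algebra.trace_eq_of_algEquiv e, map_mul, AlgEquiv.apply_symm_apply, trace_pi,
      Finset.sum_eq_single p (fun q _ hq => by simp [hq]) (by simp)] at this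
    simpa using this
  · intro h
    have : IsReduced C := ⟨fun x hx => h x fun y =>
      (Algebra.isNilpotent_trace_of_isNilpotent (Commute.isNilpotent_mul_right (.all x y) hx)).eq_zero⟩
    have : IsArtinianRing C := IsArtinianRing.of_finite k C
    let := fun m : MaximalSpectrum C => Ideal.Quotient.field m.asIdeal
    have : Algebra.FormallyEtale k C := by
      rw [Algebra.FormallyEtale.iff_of_equiv ((IsArtinianRing.equivPi C).restrictScalars k),
        Algebra.FormallyEtale.pi_iff]
      intro m
      have : Algebra.IsSeparable k (C ⧸ m.asIdeal) := inferInstance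
      exact Algebra.FormallyEtale.of_isSeparable k _
    infer_instance

theorem formallyUnramified_iff_discr :
    Algebra.FormallyUnramified k C ↔ Algebra.discr k c ≠ 0 := by
  have h := formallyUnramified_iff_discr_of_isAlgClosed (c.baseChange (AlgebraicClosure k))
  rw [discr_baseChange, map_ne_zero_iff _ (algebraMap k (AlgebraicClosure k)).injective] at h
  refine ⟨fun _ => h.mp inferInstance, fun hd => ?_⟩
  have := h.mpr hd
  exact Algebra.FormallyUnramified.of_formallyUnramified_tensorProduct_of_faithfullyFlat (AlgebraicClosure k)

end Field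

/-- Fibres of an algebra unramified over a prime are unramified. -/
theorem formallyUnramified_fibre [Algebra.EssFiniteType A B] (p : Ideal A) [p.IsPrime]
    (h : ∀ q : PrimeSpectrum B, q.asIdeal.comap (algebraMap A B) = p →
      Algebra.IsUnramifiedAt A q.asIdeal) :
    Algebra.FormallyUnramified p.ResidueField (p.ResidueField ⊗[A] B) := by
  let k := p.ResidueField
  let C := k ⊗[A] B
  let : Algebra B C := Algebra.TensorProduct.rightAlgebra
  have : IsScalarTower A B C := Algebra.TensorProduct.right_isScalarTower
  rw [← Algebra.unramifiedLocus_eq_univ_iff, Set.eq_univ_iff_forall]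
  intro Q
  have hq : (Q.comap (algebraMap B C)).asIdeal.comap (algebraMap A B) = p := by
    rw [PrimeSpectrum.comap_asIdeal, Ideal.comap_comap, ← IsScalarTower.algebraMap_eq,
      IsScalarTower.algebraMap_eq A k C, ← Ideal.comap_comap,
      Ideal.eq_bot_of_prime (Q.asIdeal.comap (algebraMap k C)),
      show Ideal.comap (algebraMap A k) ⊥ = RingHom.ker (algebraMap A k) from rfl,
      Ideal.ker_algebraMap_residueField]
  have hu := h _ hq
  have hne : Q.comap (algebraMap B C) ∉ Module.support B (Ω[B⁄A]) := by
    have hu' : Q.comap (algebraMap B C) ∈ Algebra.unramifiedLocus A B := hu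
    rw [Algebra.unramifiedLocus_eq_compl_support] at hu'
    exact hu'
  rw [Algebra.unramifiedLocus_eq_compl_support]
  change Q ∉ Module.support C (Ω[C⁄k])
  rw [Module.support_eq_zeroLocus, PrimeSpectrum.mem_zeroLocus, Set.not_subset] at hne ⊢
  obtain ⟨f, hf, hfQ⟩ := hne
  refine ⟨algebraMap B C f, Module.mem_annihilator.mpr fun ω => ?_, hfQ⟩
  have hf' := Module.mem_annihilator.mp hf
  have hspan : ω ∈ Submodule.span C (Set.range (KaehlerDifferential.D k C)) := by
    rw [KaehlerDifferential.span_range_derivation]; trivial
  induction hspan using Submodule.span_induction with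
  | zero => simp
  | add x y _ _ hx hy => rw [smul_add, hx, hy, add_zero]
  | smul c x _ hx => rw [smul_comm, hx, smul_zero]
  | mem x hx =>
    obtain ⟨z, rfl⟩ := hx
    induction z using TensorProduct.induction_on with
    | zero => simp
    | add z₁ z₂ h1 h2 => rw [map_add, smul_add, h1, h2, add_zero]
    | tmul a y =>
      have h2 : algebraMap B C f • KaehlerDifferential.D k C (algebraMap B C y) = 0 := by
        have h3 := congrArg (KaehlerDifferential.map A k B C) (hf' (KaehlerDifferential.D A B y))
        rwa [map_smul, KaehlerDifferential.map_D, map_zero, ← algebraMap_smul C f] at h3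
      have : a ⊗ₜ[A] y = a • algebraMap B C y := by
        rw [show algebraMap B C y = (1 : k) ⊗ₜ[A] y from rfl, TensorProduct.smul_tmul', smul_eq_mul,
          mul_one]
      rw [this, Derivation.map_smul, smul_comm, h2, smul_zero]

/-- Discriminant criterion for etaleness of finite free algebras. -/
theorem etale_of_isUnit_discr [Module.Finite A B] [Module.Free A B]
    (hd : IsUnit (Algebra.discr A b)) : Algebra.Etale A B := by
  have := Module.finitePresentation_of_projective A B
  have := Algebra.FinitePresentation.of_finitePresentation (R := A) (S := B)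
  have : Module.Finite A (Ω[B⁄A]) := Module.Finite.trans B _
  have hsub : Subsingleton (Ω[B⁄A]) := by
    rw [← Module.support_eq_empty_iff (R := A), Set.eq_empty_iff_forall_notMem]
    intro p
    rw [Module.mem_support_iff_nontrivial_residueField_tensorProduct, not_nontrivial_iff_subsingleton]
    let k := p.asIdeal.ResidueField
    have : Algebra.FormallyUnramified k (k ⊗[A] B) := by
      rw [formallyUnramified_iff_discr (b.baseChange k), discr_baseChange]
      exact (hd.map _).ne_zero
    let : Algebra B (k ⊗[A] B) := Algebra.TensorProduct.rightAlgebra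
    exact (KaehlerDifferential.tensorKaehlerEquivBase A k B (k ⊗[A] B)).subsingleton
  have : Algebra.FormallyUnramified A B := ⟨hsub⟩
  exact Algebra.Etale.of_formallyUnramified_of_flat

end Groth.Agent.H80.DiscEtale
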