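import Mathlib.RingTheory.Ideal.KrullsHeightTheorem
import Mathlib.RingTheory.MvPolynomial.Symmetric.Defs
import Mathlib.RingTheory.Polynomial.UniqueFactorization
import Mathlib.RingTheory.Polynomial.Basic
import Mathlib.Algebra.MvPolynomial.Equiv
import Mathlib.Algebra.Polynomial.RingDivision
import Mathlib.RingTheory.Localization.FractionRing
import Mathlib.Tactic

set_option autoImplicit false
universe u

namespace Groth.Agent.H80.EsymmIrr

open Polynomial in
/-- A quadratic with relatively prime coefficients, satisfying a divisibility obstruction. -/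
theorem irreducible_quadratic {R : Type u} [CommRing R] [IsDomain R] (a1 a2 a3 : R) (hp : Prime a2)
    (h3 : ¬ a2 ∣ a3) :
    Irreducible (C (a3 - a1 * a2) * X ^ 2 + C (-a2 ^ 2) * X + C (-(a2 * a3)) : R[X]) := by
  have hA : ¬ a2 ∣ a3 - a1 * a2 := fun h => h3 (by simpa using dvd_add h (dvd_mul_left a2 a1))
  have hA0 : a3 - a1 * a2 ≠ 0 := fun h => hA (h ▸ dvd_zero _)
  set p : R[X] := C (a3 - a1 * a2) * X ^ 2 + C (-a2 ^ 2) * X + C (-(a2 * a3)) with hpdef
  have hdeg : p.natDegree = 2 := natDegree_quadratic hA0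
  have c0 : p.coeff 0 = -(a2 * a3) := by rw [hpdef]; simp
  have c1 : p.coeff 1 = -a2 ^ 2 := by
    rw [hpdef]; simp only [coeff_add, coeff_C_mul, coeff_X_pow, coeff_C, coeff_X]; simp
  have c2 : p.coeff 2 = a3 - a1 * a2 := by
    rw [hpdef]; simp only [coeff_add, coeff_C_mul, coeff_X_pow, coeff_C, coeff_X]; simp
  have hconst : ∀ d : R, C d ∣ p → IsUnit d := by
    intro d hd
    rw [C_dvd_iff_dvd_coeff] at hd
    have h2 := hd 1
    rw [c1, dvd_neg] at h2
    obtain ⟨i, -, hi⟩ := (dvd_prime_pow hp 2).1 h2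
    cases i with
    | zero => simpa using hi.symm.isUnit (by simp)
    | succ i =>
      exfalso
      refine hA (dvd_trans (dvd_trans ?_ hi.symm.dvd) (c2 ▸ hd 2))
      exact dvd_pow_self _ (by simp)
  refine ⟨fun hu => by
    have := natDegree_eq_zero_of_isUnit hu
    omega, fun f g hfg => ?_⟩
  have hf0 : f ≠ 0 := by rintro rfl; rw [zero_mul] at hfg; rw [hfg] at hdeg; simp at hdeg
  have hg0 : g ≠ 0 := by rintro rfl; rw [mul_zero] at hfg; rw [hfg] at hdeg; simp at hdeg
  have hd : f.natDegree + g.natDegree = 2 := by rw [← Polynomial.natDegree_mul hf0 hg0, ← hfg, hdeg]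
  by_cases hf : f.natDegree = 0
  · left
    rw [eq_C_of_natDegree_eq_zero hf] at hfg ⊢
    exact (hconst _ ⟨g, hfg⟩).map C
  by_cases hg : g.natDegree = 0
  · right
    rw [eq_C_of_natDegree_eq_zero hg] at hfg ⊢
    exact (hconst _ ⟨f, by rw [hfg]; ring⟩).map C
  exfalso
  obtain ⟨b, c, rfl⟩ : ∃ b c, f = C b * X + C c :=
    ⟨_, _, eq_X_add_C_of_natDegree_le_one (by omega)⟩
  obtain ⟨b', c', rfl⟩ : ∃ b c, g = C b * X + C c :=
    ⟨_, _, eq_X_add_C_of_natDegree_le_one (by omega)⟩
  have hexp : p = C (b * b') * X ^ 2 + C (b * c' + c * b') * X + C (c * c') := by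
    rw [hfg, map_add, map_mul, map_mul, map_mul, map_mul]; ring
  have e0 : c * c' = -(a2 * a3) := by rw [← c0, hexp]; simp
  have e1 : b * c' + c * b' = -a2 ^ 2 := by
    rw [← c1, hexp]; simp only [coeff_add, coeff_C_mul, coeff_X_pow, coeff_C, coeff_X]; simp
  have e2 : b * b' = a3 - a1 * a2 := by
    rw [← c2, hexp]; simp only [coeff_add, coeff_C_mul, coeff_X_pow, coeff_C, coeff_X]; simp
  have key : ∀ b b' c c' : R, c * c' = -(a2 * a3) → b * c' + c * b' = -a2 ^ 2 →
      b * b' = a3 - a1 * a2 → a2 ∣ c → False := by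
    intro b b' c c' e0 e1 e2 hc
    have h : a2 ∣ b * c' := by
      have : b * c' = -a2 ^ 2 - c * b' := by linear_combination e1
      rw [this]
      exact dvd_sub ((dvd_pow_self _ two_ne_zero).neg_right) (hc.mul_right _)
    rcases hp.dvd_or_dvd h with h | h
    · exact hA (e2 ▸ h.mul_right _)
    · obtain ⟨s, rfl⟩ := hc
      obtain ⟨t, rfl⟩ := h
      exact h3 ⟨-(s * t), mul_left_cancel₀ hp.ne_zero (by linear_combination e0)⟩
  rcases hp.dvd_or_dvd (show a2 ∣ c * c' from e0 ▸ (dvd_mul_right a2 a3).neg_right) with h | h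
  · exact key b b' c c' e0 e1 e2 h
  · exact key b' b c' c (by linear_combination e0) (by linear_combination e1)
      (by linear_combination e2) h

open Polynomial in
/-- The radical of `(e1 T + e2, e3 T + e4)` is prime. -/
theorem isPrime_radical {R : Type u} [CommRing R] [IsDomain R] [IsNoetherianRing R]
    (e1 e2 e3 e4 : R) (he1 : Prime e1) (he2 : ¬ e1 ∣ e2) (hF : Prime (e1 * e4 - e2 * e3))
    (hF1 : ¬ (e1 * e4 - e2 * e3) ∣ e1)
    (hH : ∀ q0 : Ideal R, q0.IsPrime → e1 ∈ q0 → e2 ∈ q0 → e3 ∈ q0 → e4 ∈ q0 →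
      3 ≤ (q0.map (C : R →+* R[X])).height) :
    (Ideal.span ({C e1 * X + C e2, C e3 * X + C e4} : Set R[X])).radical.IsPrime := by
  set s2 : R[X] := C e1 * X + C e2 with hs2
  set s4 : R[X] := C e3 * X + C e4 with hs4
  set I : Ideal R[X] := Ideal.span {s2, s4} with hI
  set F : R := e1 * e4 - e2 * e3 with hFd
  have m2 : s2 ∈ I := Ideal.subset_span (by simp)
  have m4 : s4 ∈ I := Ideal.subset_span (by simp)
  have : (Ideal.span {F}).IsPrime := (Ideal.span_singleton_prime hF.ne_zero).2 hF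
  let π : R →+* FractionRing (R ⧸ Ideal.span {F}) :=
    (algebraMap (R ⧸ Ideal.span {F}) _).comp (Ideal.Quotient.mk _)
  have hπ : ∀ r, π r = 0 ↔ F ∣ r := fun r => by
    simp [π, Ideal.Quotient.eq_zero_iff_mem, Ideal.mem_span_singleton]
  have h1 : π e1 ≠ 0 := fun h => hF1 ((hπ _).1 h)
  let θ : FractionRing (R ⧸ Ideal.span {F}) := -π e2 / π e1
  let Ev : R[X] →+* FractionRing (R ⧸ Ideal.span {F}) := eval₂RingHom π θ
  have hFz : π e1 * π e4 - π e2 * π e3 = 0 := by
    rw [← map_mul, ← map_mul, ← map_sub]; exact (hπ _).2 dvd_rfl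
  have E2 : Ev s2 = 0 := by simp [Ev, hs2, θ]; field_simp; ring
  have E4 : Ev s4 = 0 := by
    simp [Ev, hs4, θ]; field_simp; linear_combination hFz
  -- reduction of any polynomial modulo s2
  have hred : ∀ f : R[X], ∃ (n : ℕ) (g : R), C e1 ^ n * f - C g ∈ Ideal.span {s2} := by
    intro f
    induction f using Polynomial.induction_on' with
    | add f f' hf hf' =>
      obtain ⟨n, g, h⟩ := hf
      obtain ⟨n', g', h'⟩ := hf'
      refine ⟨n + n', e1 ^ n' * g + e1 ^ n * g', ?_⟩
      have := add_mem (Ideal.mul_mem_left _ (C e1 ^ n') h) (Ideal.mul_mem_left _ (C e1 ^ n) h')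
      convert this using 1
      simp only [map_add, map_mul, map_pow]
      ring
    | monomial m a =>
      refine ⟨m, a * (-e2) ^ m, ?_⟩
      rw [← C_mul_X_pow_eq_monomial, Ideal.mem_span_singleton]
      refine dvd_trans ?_ (dvd_of_eq (a := C a * ((C e1 * X) ^ m - (-C e2) ^ m)) ?_)
      · exact dvd_mul_of_dvd_right (dvd_trans (dvd_of_eq (by ring)) (sub_dvd_pow_sub_pow _ _ m)) _
      · simp only [map_mul, map_pow, map_neg]; ring
  have hFI : C F ∈ I := by
    have : C F = C e1 * s4 - C e3 * s2 := by simp only [hFd, hs2, hs4, map_sub, map_mul]; ring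
    rw [this]
    exact sub_mem (Ideal.mul_mem_left _ _ m4) (Ideal.mul_mem_left _ _ m2)
  have hker : ∀ f, Ev f = 0 → ∃ n, C e1 ^ n * f ∈ I := by
    intro f hf
    obtain ⟨n, g, h⟩ := hred f
    obtain ⟨t, ht⟩ := Ideal.mem_span_singleton'.1 h
    have hg : π g = 0 := by
      have := congrArg Ev ht
      rw [map_mul, E2, mul_zero, map_sub, map_mul, hf, mul_zero, zero_sub] at this
      simpa [Ev] using this.symm
    obtain ⟨w, rfl⟩ := (hπ g).1 hg
    refine ⟨n, ?_⟩
    rw [show C e1 ^ n * f = t * s2 + C F * C w by rw [ht, map_mul]; ring]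
    exact add_mem (Ideal.mul_mem_left _ _ m2) (Ideal.mul_mem_right _ _ hFI)
  have hP : (RingHom.ker Ev).IsPrime := RingHom.ker_isPrime Ev
  have hIP : I ≤ RingHom.ker Ev := by
    rw [hI, Ideal.span_le]
    rintro x (rfl | rfl)
    · exact E2
    · exact E4
  suffices hmin : ∀ q ∈ I.minimalPrimes, RingHom.ker Ev ≤ q by
    have : I.radical = RingHom.ker Ev := by
      refine le_antisymm (hP.radical_le_iff.2 hIP) ?_
      rw [← Ideal.sInf_minimalPrimes]
      exact le_sInf hmin
    rw [this]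
    exact hP
  intro q hq f hf
  have := hq.isPrime
  obtain ⟨n, hn⟩ := hker f hf
  refine (this.mem_or_mem (hq.le hn)).resolve_left fun h => ?_
  have hc : C e1 ∈ q := this.mem_of_pow_mem n h
  have hce2 : C e2 ∈ q := by
    have : C e2 = s2 - C e1 * X := by rw [hs2]; ring
    rw [this]
    exact sub_mem (hq.le m2) (Ideal.mul_mem_right _ _ hc)
  have hle : (q.comap C).map (C : R →+* R[X]) ≤ q := Ideal.map_comap_le
  have hh : q.height ≤ 2 := by
    refine (Ideal.height_le_card_of_mem_minimalPrimes_span (Set.toFinite _) hq).trans ?_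
    exact_mod_cast (Set.ncard_insert_le _ _).trans (by rw [Set.ncard_singleton])
  have : (Ideal.span {C e1}).IsPrime :=
    (Ideal.span_singleton_prime (by simpa using he1.ne_zero)).2 (prime_C_iff.2 he1)
  have hq0 : (q.comap C).IsPrime := Ideal.comap_isPrime _ _
  have hlt1 : (⊥ : Ideal R[X]) < Ideal.span {C e1} := by
    rw [bot_lt_iff_ne_bot, Ne, Ideal.span_singleton_eq_bot]
    simpa using he1.ne_zero
  have hlt2 : Ideal.span {C e1} < (q.comap C).map C := by
    refine lt_of_le_of_ne ?_ fun h => he2 ?_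
    · rw [Ideal.span_singleton_le_iff_mem]; exact Ideal.mem_map_of_mem _ hc
    · have : C e2 ∈ Ideal.span {C e1} := h ▸ Ideal.mem_map_of_mem _ (show e2 ∈ q.comap C from hce2)
      rw [Ideal.mem_span_singleton, C_dvd_iff_dvd_coeff] at this
      simpa using this 0
  have hh2 : 2 ≤ ((q.comap C).map C).height := by
    have a := Ideal.height_add_one_le_of_lt_of_isPrime hlt1
    have b := Ideal.height_add_one_le_of_lt_of_isPrime hlt2
    rw [Ideal.height_bot, zero_add] at a
    exact (by norm_num : (2 : ℕ∞) = 1 + 1) ▸ (add_le_add a le_rfl).trans b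
  rcases hle.lt_or_eq with h' | h'
  · have c := Ideal.height_add_one_le_of_lt_of_isPrime h'
    have := ((add_le_add hh2 le_rfl).trans c).trans hh
    norm_num at this
  · have hs4' : s4 ∈ (q.comap C).map C := by rw [h']; exact hq.le m4
    rw [Ideal.mem_map_C_iff] at hs4'
    have h3 : e3 ∈ q.comap C := by simpa [hs4, coeff_X] using hs4' 1
    have h4 : e4 ∈ q.comap C := by simpa [hs4, coeff_X] using hs4' 0
    have h3h := hH _ hq0 hc hce2 h3 h4
    rw [h'] at h3h
    have := h3h.trans hh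
    norm_num at this

open MvPolynomial

variable (k : Type u) [Field k] [CharZero k]

noncomputable abbrev E1 : MvPolynomial (Fin 4) k := X 0 + X 1 + X 2 + X 3
noncomputable abbrev E2 : MvPolynomial (Fin 4) k :=
  X 0 * (X 1 + X 2 + X 3) + (X 1 * X 2 + X 1 * X 3 + X 2 * X 3)
noncomputable abbrev E3 : MvPolynomial (Fin 4) k :=
  X 0 * (X 1 * X 2 + X 1 * X 3 + X 2 * X 3) + X 1 * X 2 * X 3
noncomputable abbrev E4 : MvPolynomial (Fin 4) k := X 0 * (X 1 * X 2 * X 3)

theorem prime_a2 : Prime (X 0 * X 1 + X 0 * X 2 + X 1 * X 2 : MvPolynomial (Fin 3) k) := by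
  rw [← irreducible_iff_prime, ← MulEquiv.irreducible_iff (finSuccEquiv k 2)]
  have h : finSuccEquiv k 2 (X 0 * X 1 + X 0 * X 2 + X 1 * X 2) =
      Polynomial.C (X 0 + X 1) * Polynomial.X + Polynomial.C (X 0 * X 1) := by
    rw [show (1 : Fin 3) = (0 : Fin 2).succ from rfl, show (2 : Fin 3) = (1 : Fin 2).succ from rfl]
    simp only [map_add, map_mul, finSuccEquiv_X_zero, finSuccEquiv_X_succ]
    ring
  rw [h]
  have hp : Prime (X 0 + X 1 : MvPolynomial (Fin 2) k) := by
    rw [← MulEquiv.prime_iff (finSuccEquiv k 1),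
      show (1 : Fin 2) = (0 : Fin 1).succ from rfl, map_add, finSuccEquiv_X_zero, finSuccEquiv_X_succ,
      show Polynomial.X + Polynomial.C (X (0 : Fin 1) : MvPolynomial (Fin 1) k) =
        Polynomial.X - Polynomial.C (-X 0) by rw [map_neg, sub_neg_eq_add]]
    exact Polynomial.prime_X_sub_C _
  refine Polynomial.irreducible_C_mul_X_add_C hp.ne_zero ?_
  refine hp.irreducible.isRelPrime_iff_not_dvd.2 fun h => ?_
  have := map_dvd (MvPolynomial.eval ![(1 : k), -1]) h
  simp at this

theorem not_a2_dvd_a3 : ¬ (X 0 * X 1 + X 0 * X 2 + X 1 * X 2 : MvPolynomial (Fin 3) k) ∣ X 0 * X 1 * X 2 := by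
  intro h
  have := map_dvd (MvPolynomial.eval ![(2 : k), 2, -1]) h
  simp [show (![(2 : k), 2, -1]) 2 = -1 from rfl] at this
  norm_num at this

theorem prime_F : Prime (E1 k * E4 k - E2 k * E3 k) := by
  rw [← irreducible_iff_prime, ← MulEquiv.irreducible_iff (finSuccEquiv k 3)]
  convert irreducible_quadratic (X 0 + X 1 + X 2 : MvPolynomial (Fin 3) k) _ _ (prime_a2 k)
    (not_a2_dvd_a3 k) using 1
  simp only [E1, E2, E3, E4]
  rw [show (1 : Fin 4) = (0 : Fin 3).succ from rfl, show (2 : Fin 4) = (1 : Fin 3).succ from rfl,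
    show (3 : Fin 4) = (2 : Fin 3).succ from rfl]
  simp only [map_add, map_sub, map_mul, map_pow, map_neg, finSuccEquiv_X_zero, finSuccEquiv_X_succ]
  ring

theorem prime_E1 : Prime (E1 k) := by
  rw [← MulEquiv.prime_iff (finSuccEquiv k 3)]
  convert Polynomial.prime_X_sub_C (-(X 0 + X 1 + X 2) : MvPolynomial (Fin 3) k) using 1
  simp only [E1, E2, E3, E4]
  rw [show (1 : Fin 4) = (0 : Fin 3).succ from rfl, show (2 : Fin 4) = (1 : Fin 3).succ from rfl,
    show (3 : Fin 4) = (2 : Fin 3).succ from rfl]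
  simp only [map_add, map_neg, finSuccEquiv_X_zero, finSuccEquiv_X_succ]
  ring

theorem esymm_eq :
    finSuccEquiv k 4 (esymm (Fin 5) k 2) = Polynomial.C (E1 k) * Polynomial.X + Polynomial.C (E2 k) ∧
    finSuccEquiv k 4 (esymm (Fin 5) k 4) = Polynomial.C (E3 k) * Polynomial.X + Polynomial.C (E4 k) := by
  have h : (Finset.univ : Finset (Fin 5)).val =
      (0 : Fin 5) ::ₘ (0 : Fin 4).succ ::ₘ (1 : Fin 4).succ ::ₘ (2 : Fin 4).succ ::ₘ {(3 : Fin 4).succ} := by
    decide
  constructor <;>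
  · simp only [esymm_eq_multiset_esymm, h, Multiset.map_cons, Multiset.map_singleton, Multiset.esymm,
      ← Multiset.cons_zero, Multiset.powersetCard_cons, Multiset.powersetCard_zero_left,
      Multiset.powersetCard_zero_right, Multiset.map_add, Multiset.map_map, Multiset.sum_add,
      Multiset.sum_cons, Multiset.sum_zero, Multiset.map_zero, Function.comp_apply,
      Multiset.prod_cons, Multiset.prod_zero, map_add, map_mul, map_one, map_zero,
      finSuccEquiv_X_zero, finSuccEquiv_X_succ]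
    ring

theorem hH (q0 : Ideal (MvPolynomial (Fin 4) k)) (hq : q0.IsPrime) (h1 : E1 k ∈ q0) (h2 : E2 k ∈ q0)
    (h3 : E3 k ∈ q0) (h4 : E4 k ∈ q0) :
    3 ≤ (q0.map (Polynomial.C : MvPolynomial (Fin 4) k →+* _)).height := by
  have hX : ∀ i, X i ∈ q0 := by
    intro i
    refine hq.mem_of_pow_mem 4 ?_
    have : (X i : MvPolynomial (Fin 4) k) ^ 4 =
        E1 k * X i ^ 3 - E2 k * X i ^ 2 + E3 k * X i - E4 k := by fin_cases i <;> simp <;> ring
    rw [this]
    exact sub_mem (add_mem (sub_mem (Ideal.mul_mem_right _ _ h1) (Ideal.mul_mem_right _ _ h2))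
      (Ideal.mul_mem_right _ _ h3)) h4
  let φ : ℕ → MvPolynomial (Fin 4) k →ₐ[k] MvPolynomial (Fin 4) k := fun m =>
    aeval fun i => if (i : ℕ) < m then 0 else X i
  have hle : ∀ m, RingHom.ker (φ m) ≤ q0 := by
    intro m f hf
    have : (Ideal.Quotient.mkₐ k q0).comp (φ m) = Ideal.Quotient.mkₐ k q0 := by
      refine algHom_ext fun i => ?_
      by_cases h : (i : ℕ) < m
      · simp [φ, h, Ideal.Quotient.eq_zero_iff_mem.2 (hX i)]
      · simp [φ, h]
    have := congrArg (fun ψ => ψ f) this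
    simp only [AlgHom.comp_apply, RingHom.mem_ker.1 hf, map_zero] at this
    exact Ideal.Quotient.eq_zero_iff_mem.1 this.symm
  have hmono : ∀ m, RingHom.ker (φ m) ≤ RingHom.ker (φ (m + 1)) := by
    intro m f hf
    have : (φ (m + 1)).comp (φ m) = φ (m + 1) := by
      refine algHom_ext fun i => ?_
      by_cases h : (i : ℕ) < m
      · simp [φ, h, show (i : ℕ) < m + 1 by omega, show (i:ℕ) ≤ m by omega]
      · simp [φ, h]
    rw [RingHom.mem_ker, ← this, AlgHom.comp_apply, RingHom.mem_ker.1 hf, map_zero]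
  have hstrict : ∀ m < 3, (RingHom.ker (φ m)).map (Polynomial.C : MvPolynomial (Fin 4) k →+* _) <
      (RingHom.ker (φ (m + 1))).map Polynomial.C := by
    intro m hm
    refine lt_of_le_of_ne (Ideal.map_mono (hmono m)) fun h => ?_
    let i : Fin 4 := ⟨m, by omega⟩
    have hi : Polynomial.C (X i) ∈ (RingHom.ker (φ (m + 1))).map Polynomial.C :=
      Ideal.mem_map_of_mem _ (by simp [RingHom.mem_ker, φ, i])
    rw [← h, Ideal.mem_map_C_iff] at hi
    simpa [RingHom.mem_ker, φ, i] using hi 0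
  have : ∀ m, (RingHom.ker (φ m)).IsPrime := fun m => RingHom.ker_isPrime _
  have hm : ∀ m : ℕ, m ≤ 3 → (m : ℕ∞) ≤ ((RingHom.ker (φ m)).map
      (Polynomial.C : MvPolynomial (Fin 4) k →+* _)).height := by
    intro m
    induction m with
    | zero => intro; simp
    | succ m ih =>
      intro hm
      refine le_trans ?_ (Ideal.height_add_one_le_of_lt_of_isPrime (hstrict m (by omega)))
      push_cast
      exact add_le_add (ih (by omega)) le_rfl
  exact (hm 3 le_rfl).trans (Ideal.height_mono (Ideal.map_mono (hle 3)))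

theorem main :
    (Ideal.span ({esymm (Fin 5) k 2, esymm (Fin 5) k 4} :
      Set (MvPolynomial (Fin 5) k))).radical.IsPrime := by
  have hm := isPrime_radical (E1 k) (E2 k) (E3 k) (E4 k) (prime_E1 k)
    (fun h => by
      have := map_dvd (MvPolynomial.eval ![(1 : k), -1, 0, 0]) h
      simp [Matrix.cons_val] at this)
    (prime_F k)
    (fun h => by
      have := map_dvd (MvPolynomial.eval ![(1 : k), 0, 0, 0]) h
      simp [Matrix.cons_val] at this)
    (hH k)
  rw [← (esymm_eq k).1, ← (esymm_eq k).2] at hm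
  have hc : Ideal.span ({esymm (Fin 5) k 2, esymm (Fin 5) k 4} : Set (MvPolynomial (Fin 5) k)) =
      (Ideal.span {finSuccEquiv k 4 (esymm (Fin 5) k 2), finSuccEquiv k 4 (esymm (Fin 5) k 4)}).comap
        (finSuccEquiv k 4).toRingEquiv := by
    rw [← Ideal.comap_map_of_bijective (finSuccEquiv k 4).toRingEquiv (RingEquiv.bijective _)
      (I := Ideal.span ({esymm (Fin 5) k 2, esymm (Fin 5) k 4} : Set (MvPolynomial (Fin 5) k))),
      Ideal.map_span, Set.image_pair]
    rfl
  rw [hc, ← Ideal.comap_radical]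
  exact Ideal.comap_isPrime _ _

end Groth.Agent.H80.EsymmIrr
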