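import Groth.Agent.H80.Torsionless
import Mathlib.Algebra.Category.ModuleCat.Ext.HasExt
import Mathlib.CategoryTheory.Abelian.Projective.Ext
import Mathlib.Algebra.Homology.DerivedCategory.Ext.ExactSequences

/-! `Ext¹(M, S) = 0` for torsionless `M` over a Gorenstein ring of dimension at most one. -/

set_option autoImplicit false
set_option backward.isDefEq.respectTransparency false
universe u
open CategoryTheory CategoryTheory.Limits Abelian

namespace Groth.Agent.H80.ExtReflexive

variable {S : Type u} [CommRing S]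

theorem hasInjectiveDimensionLT_two [LocCoh.IsGorensteinRing S] (hdim : ringKrullDim S ≤ 1) :
    HasInjectiveDimensionLT (ModuleCat.of S S) 2 := by
  refine ((ModuleCat.of S S).hasInjectiveDimensionLE_iff_forall_maximalSpectrum 1).mpr fun m => ?_
  have := LocCoh.IsGorensteinRing.isGorensteinLocalRing_localization m.asIdeal
  obtain ⟨k, hk⟩ := this.exists_hasInjectiveDimensionLT
  obtain ⟨d, hd, -, -, hd'⟩ := Groth.Agent.Lib.Goren.Basic.exists_dim hk
  rw [IsLocalization.AtPrime.ringKrullDim_eq_height m.asIdeal] at hd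
  have hle := (Ideal.height_le_ringKrullDim_of_ne_top m.isMaximal.ne_top).trans hdim
  rw [hd] at hle
  have hdn : d ≤ 1 := by exact_mod_cast hle
  exact (Groth.Agent.Lib.Goren.Global.hasInjectiveDimensionLT_localizedModule_iff m.asIdeal 2).mpr
    (hasInjectiveDimensionLT_of_ge _ (d + 1) 2 (by omega))

theorem main [LocCoh.IsGorensteinRing S] (hdim : ringKrullDim S ≤ 1)
    (M : Type u) [AddCommGroup M] [Module S M] [Module.Finite S M]
    (hM : Function.Injective (Module.Dual.eval S M)) :
    Subsingleton (Ext (ModuleCat.of S M) (ModuleCat.of S S) 1) := by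
  obtain ⟨n, p, hp⟩ := Module.Finite.exists_fin' S M
  let T : ShortComplex (ModuleCat.{u} S) :=
    ModuleCat.shortComplexOfCompEqZero (LinearMap.ker p).subtype p
      (LinearMap.exact_subtype_ker_map p).linearMap_comp_eq_zero
  have hT : T.ShortExact := ModuleCat.shortComplex_shortExact T (LinearMap.exact_subtype_ker_map p)
    Subtype.val_injective hp
  have hproj : Projective T.X₂ :=
    (IsProjective.iff_projective (R := S) (Fin n → S)).mp inferInstance
  refine subsingleton_of_forall_eq 0 fun x => ?_
  have h2 : (Ext.mk₀ T.g).comp x (zero_add 1) = 0 := Ext.eq_zero_of_projective _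
  obtain ⟨x1, rfl⟩ := Ext.contravariant_sequence_exact₃ hT (ModuleCat.of S S) x h2 (add_comm 1 0)
  obtain ⟨φ, rfl⟩ := Ext.mk₀_bijective _ _ |>.2 x1
  obtain ⟨ψ, hψ⟩ := Torsionless.exists_extension (hasInjectiveDimensionLT_two hdim) p hp
    (Torsionless.emb_of_torsionless hM) φ.hom
  have hf : φ = T.f ≫ ModuleCat.ofHom ψ := ModuleCat.hom_ext (LinearMap.ext fun z => (hψ z).symm)
  rw [hf, ← Ext.mk₀_comp_mk₀, ← Ext.comp_assoc hT.extClass (Ext.mk₀ T.f) _ (add_zero 1) (zero_add 0) (by omega),
    hT.extClass_comp, Ext.zero_comp]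

end Groth.Agent.H80.ExtReflexive
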