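import Groth.Agent.Lib.Regular.Serre
import Groth.Agent.Lib.DR.TorDim
import Groth.Agent.Lib.Tor.Module
import Groth.Agent.S7131

/-!
# Tor dimension from the closed fibre
-/

set_option autoImplicit false
set_option linter.style.haveILetI false
set_option linter.unusedSectionVars false

universe u

open CategoryTheory CategoryTheory.Limits IsLocalRing
open Groth.Agent.Lib.Tor Groth.Agent.Lib.Regular
open scoped TensorProduct

namespace Groth.Agent.H80.FiberTorDim

section Tor

variable {B : Type u} [CommRing B] {K F M : Type u} [AddCommGroup K] [Module B K] [AddCommGroup F]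
  [Module B F] [AddCommGroup M] [Module B M] {ι : K →ₗ[B] F} {π : F →ₗ[B] M}
  (hι : Function.Injective ι) (hπ : Function.Surjective π) (hex : Function.Exact ι π)

/-- The short complex of a short exact sequence of modules. -/
abbrev sc : ShortComplex (ModuleCat.{u} B) :=
  ShortComplex.mk (ModuleCat.ofHom ι) (ModuleCat.ofHom π) (ModuleCat.hom_ext hex.linearMap_comp_eq_zero)

include hι hπ in
theorem sc_shortExact : (sc hex).ShortExact where
  exact := (ShortComplex.moduleCat_exact_iff_ker_sub_range _).2 fun x hx => (hex x).1 hx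
  mono_f := (ModuleCat.mono_iff_injective _).2 hι
  epi_g := (ModuleCat.epi_iff_surjective _).2 hπ

include hι hπ hex in
/-- Tor dimension of a cokernel. -/
theorem hasTorDimLE_coker {d : ℕ} (hK : DRing.HasTorDimLE B d K) (hF : DRing.HasTorDimLE B d F) :
    DRing.HasTorDimLE B (d + 1) M := by
  intro N _ _ p hp
  obtain ⟨q, rfl⟩ : ∃ q, p = q + 2 := ⟨p - 2, by omega⟩
  let X := ModuleCat.of B N
  let P := projectiveResolution X
  have hT := Balance.shortExact_tensorCxFun P.complex (fun i => Balance.flat_of_projective _) _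
    (sc_shortExact hι hπ hex)
  have hz : ∀ (L : ModuleCat.{u} B) (r : ℕ), Subsingleton (DRing.Tor B r L N) →
      IsZero (((Balance.tensorCxFun P.complex).obj L).homology r) := fun L r h =>
    ((ModuleCat.isZero_of_subsingleton _).of_iso (Balance.torFlipIso X L r)).of_iso
      (Balance.torObjIso P L r).symm
  have hij : (ComplexShape.down ℕ).Rel (q + 2) (q + 1) := by simp
  have h3 : IsZero (((Balance.tensorCxFun P.complex).obj (ModuleCat.of B M)).homology (q + 2)) :=
    (hT.homology_exact₃ (q + 2) (q + 1) hij).isZero_of_both_zeros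
      ((hz (ModuleCat.of B F) (q + 2) (hF N (q + 2) (by omega))).eq_of_src _ _)
      ((hz (ModuleCat.of B K) (q + 1) (hK N (q + 1) (by omega))).eq_of_tgt _ _)
  exact ModuleCat.subsingleton_of_isZero
    ((h3.of_iso (Balance.torObjIso P (ModuleCat.of B M) (q + 2))).of_iso (Balance.torFlipIso _ _ _))

include hι hπ hex in
/-- Vanishing of `Tor₁` makes the first map stay injective modulo an ideal. -/
theorem smul_mem_of_tor_one (𝔞 : Ideal B) (h : Subsingleton (DRing.Tor B 1 M (B ⧸ 𝔞))) (z : K)
    (hz : ι z ∈ 𝔞 • (⊤ : Submodule B F)) : z ∈ 𝔞 • (⊤ : Submodule B K) := by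
  let X := ModuleCat.of B (B ⧸ 𝔞)
  let P := projectiveResolution X
  have hT := Balance.shortExact_tensorCxFun P.complex (fun i => Balance.flat_of_projective _) _
    (sc_shortExact hι hπ hex)
  have hz1 : IsZero (((Balance.tensorCxFun P.complex).obj (ModuleCat.of B M)).homology 1) :=
    ((ModuleCat.isZero_of_subsingleton _).of_iso (Balance.torFlipIso X (ModuleCat.of B M) 1)).of_iso
      (Balance.torObjIso P _ 1).symm
  have hij : (ComplexShape.down ℕ).Rel 1 0 := by simp
  have hmono : Mono (HomologicalComplex.homologyMap ((Balance.tensorCxFun P.complex).map (ModuleCat.ofHom ι)) 0) :=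
    (hT.homology_exact₁ 1 0 hij).mono_g (hz1.eq_of_src _ _)
  haveI hepi : Epi (P.π.f 0) := inferInstance
  let Z : Balance.tensorCxFun P.complex ⋙
      HomologicalComplex.homologyFunctor _ (ComplexShape.down ℕ) 0 ≅ MonoidalCategory.tensorLeft X :=
    Balance.zeroIso P.complex (P.π.f 0) P.complex_d_comp_π_f_zero hepi
    (Balance.resolution_exact_zero P)
  haveI : Mono ((MonoidalCategory.tensorLeft X).map (ModuleCat.ofHom ι)) := by
    rw [← NatIso.naturality_1 Z (ModuleCat.ofHom ι)]
    haveI : Mono ((Balance.tensorCxFun P.complex ⋙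
      HomologicalComplex.homologyFunctor _ (ComplexShape.down ℕ) 0).map (ModuleCat.ofHom ι)) := hmono
    infer_instance
  have hinj : Function.Injective (ι.lTensor (B ⧸ 𝔞)) :=
    (ModuleCat.mono_iff_injective ((MonoidalCategory.tensorLeft X).map (ModuleCat.ofHom ι))).1 this
  have key : ∀ {L : Type u} [AddCommGroup L] [Module B L] (l : L),
      (Ideal.Quotient.mk 𝔞 1) ⊗ₜ[B] l = 0 ↔ l ∈ 𝔞 • (⊤ : Submodule B L) := by
    intro L _ _ l
    rw [← (TensorProduct.quotTensorEquivQuotSMul L 𝔞).injective.eq_iff, map_zero,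
      TensorProduct.quotTensorEquivQuotSMul_mk_tmul, one_smul, Submodule.Quotient.mk_eq_zero]
  refine (key z).1 (hinj ?_)
  rw [LinearMap.lTensor_tmul, map_zero]
  exact (key _).2 hz

end Tor

section Fibre

variable {B S : Type u} [CommRing B] [CommRing S] [Algebra B S] [IsNoetherianRing S] [IsLocalRing S]
  [Module.Flat B S] (𝔪 : Ideal B) [IsRegularLocalRing (S ⧸ 𝔪.map (algebraMap B S))]

omit [IsNoetherianRing S] [IsLocalRing S] [Module.Flat B S] [IsRegularLocalRing (S ⧸ 𝔪.map (algebraMap B S))] in
theorem mem_smul_top_iff {V : Type u} [AddCommGroup V] [Module B V] [Module S V] [IsScalarTower B S V]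
    (x : V) : x ∈ 𝔪 • (⊤ : Submodule B V) ↔ x ∈ 𝔪.map (algebraMap B S) • (⊤ : Submodule S V) := by
  rw [← Submodule.restrictScalars_top B S V, ← Ideal.smul_restrictScalars, Submodule.restrictScalars_mem]

/-- All the higher Tor against `B ⧸ 𝔪` vanish above `N`. -/
def TorVanish (M : Type u) [AddCommGroup M] [Module B M] (N : ℕ) : Prop :=
  ∀ p : ℕ, N < p → Subsingleton (DRing.Tor B p M (B ⧸ 𝔪))

theorem torVanish_ker {N : ℕ} {M : Type u} [AddCommGroup M] [Module B M] [Module S M]
    [IsScalarTower B S M] {c : ℕ} (π : (Fin c → S) →ₗ[S] M) (hπ : Function.Surjective π)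
    (h : TorVanish 𝔪 M (N + 1)) : TorVanish 𝔪 (LinearMap.ker π) N := by
  intro p hp
  obtain ⟨q, rfl⟩ : ∃ q, p = q + 1 := ⟨p - 1, by omega⟩
  haveI : Module.Flat B (Fin c → S) := Module.Flat.trans B S _
  have := h (q + 2) (by omega)
  exact ModuleCat.subsingleton_of_isZero (((S7131.tor_shift ((LinearMap.ker π).subtype.restrictScalars B)
    (π.restrictScalars B) Subtype.val_injective hπ (fun x => ⟨fun hx => ⟨⟨x, hx⟩, rfl⟩, fun ⟨y, hy⟩ => hy ▸ y.2⟩)
    _ q).1 ((ModuleCat.isZero_of_subsingleton _).of_iso (Balance.torFlipIso _ _ _))).of_iso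
      (Balance.torFlipIso _ _ _))

theorem hasFiniteTorDim_of_pd : ∀ (e : ℕ) (M : Type u) [AddCommGroup M] [Module B M] [Module S M]
    [IsScalarTower B S M] [Module.Finite S M], TorVanish 𝔪 M 0 →
    PD.PDle (S ⧸ 𝔪.map (algebraMap B S)) (M ⧸ (𝔪.map (algebraMap B S) • (⊤ : Submodule S M))) e →
    DRing.HasTorDimLE S e M := by
  intro e M _ _ _ _ _ htor hpd
  induction e generalizing M with
  | zero =>
    set n := 𝔪.map (algebraMap B S) with hn
    obtain ⟨c, π, hπ, hker⟩ := Serre.exists_minimal_cover (R := S) M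
    haveI : Module.Projective (S ⧸ n) (M ⧸ (n • (⊤ : Submodule S M))) := PD.pdle_zero_iff.1 hpd
    classical
    let f : (Fin c → S ⧸ n) →ₗ[S ⧸ n] (M ⧸ (n • (⊤ : Submodule S M))) :=
      (Pi.basisFun (S ⧸ n) (Fin c)).constr (S ⧸ n) fun i => Submodule.Quotient.mk (π (Pi.single i 1))
    let red : (Fin c → S) →ₗ[S] (Fin c → S ⧸ n) := LinearMap.pi fun i => n.mkQ ∘ₗ LinearMap.proj i
    have hfr : ∀ v, f (red v) = Submodule.Quotient.mk (π v) := by
      intro v
      conv_rhs => rw [pi_eq_sum_univ' v]
      rw [map_sum, show f (red v) = ∑ i, red v i • Submodule.Quotient.mk (π (Pi.single i 1)) from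
        Module.Basis.constr_apply_fintype _ _ _ _, ← Submodule.mkQ_apply, map_sum]
      refine Finset.sum_congr rfl fun i _ => ?_
      rw [map_smul, map_smul]
      rfl
    have hred : Function.Surjective red := fun w => by
      choose v hv using fun i => Submodule.mkQ_surjective n (w i)
      exact ⟨v, funext hv⟩
    have hf : Function.Surjective f := fun y => by
      obtain ⟨y, rfl⟩ := Submodule.Quotient.mk_surjective _ y
      obtain ⟨v, rfl⟩ := hπ y
      exact ⟨red v, hfr v⟩
    obtain ⟨s, hs⟩ := Module.projective_lifting_property f LinearMap.id hf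
    -- the retraction onto the kernel
    let r : (Fin c → S ⧸ n) →ₗ[S ⧸ n] (Fin c → S ⧸ n) := LinearMap.id - s ∘ₗ f
    have hsub : LinearMap.ker π ≤ maximalIdeal S • LinearMap.ker π := by
      intro x hx
      have hrx : r (red x) = red x := by
        simp [r, hfr, LinearMap.mem_ker.mp hx]
      -- lift `r` on the basis
      have hlift : ∀ i, ∃ y, y ∈ LinearMap.ker π ∧ red y = r (Pi.single i 1) := by
        intro i
        obtain ⟨y, hy⟩ := hred (r (Pi.single i 1))
        have h0 : f (red y) = 0 := by
          rw [hy]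
          have := LinearMap.congr_fun hs (f (Pi.single i 1))
          simp only [LinearMap.comp_apply, LinearMap.id_apply] at this
          simp [r, this]
        rw [hfr, Submodule.Quotient.mk_eq_zero] at h0
        obtain ⟨z, hz, hzy⟩ : ∃ z ∈ n • (⊤ : Submodule S (Fin c → S)), π z = π y := by
          rw [← LinearMap.range_eq_top.mpr hπ, LinearMap.range_eq_map, ← Submodule.map_smul''] at h0
          exact h0
        refine ⟨y - z, by simp [hzy], ?_⟩
        rw [map_sub, sub_eq_self.mpr ?_, hy]
        refine funext fun j => (Submodule.Quotient.mk_eq_zero n).mpr ?_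
        have := Submodule.mem_map_of_mem (f := LinearMap.proj (R := S) (φ := fun _ => S) j) hz
        rw [Submodule.map_smul''] at this
        simpa using (Submodule.smul_mono le_rfl le_top) this
      choose y hy hyr using hlift
      let w := ∑ i, x i • y i
      have hw : w ∈ maximalIdeal S • LinearMap.ker π :=
        sum_mem fun i _ => Submodule.smul_mem_smul (hker x hx i) (hy i)
      have hwx : red w = red x := by
        rw [← hrx]
        conv_rhs => rw [pi_eq_sum_univ' (red x)]
        rw [map_sum, map_sum]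
        refine Finset.sum_congr rfl fun i _ => ?_
        rw [map_smul, map_smul, hyr]
        rfl
      have hwk : w ∈ LinearMap.ker π := Submodule.smul_le_right hw
      have hxw : x - w ∈ n • (⊤ : Submodule S (Fin c → S)) := by
        conv => rw [pi_eq_sum_univ' (x - w)]
        refine sum_mem fun i _ => Submodule.smul_mem_smul ?_ trivial
        have := congr_fun hwx i
        rw [Pi.sub_apply]
        exact (Submodule.Quotient.eq n).mp this.symm
      have hinj := smul_mem_of_tor_one (ι := (LinearMap.ker π).subtype.restrictScalars B)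
        (π := π.restrictScalars B) Subtype.val_injective hπ
        (fun z => ⟨fun hz => ⟨⟨z, hz⟩, rfl⟩, fun ⟨z, hz⟩ => hz ▸ z.2⟩) 𝔪 (htor 1 one_pos)
        ⟨x - w, sub_mem hx hwk⟩ ((mem_smul_top_iff (S := S) 𝔪 _).2 (by assumption))
      rw [mem_smul_top_iff (S := S) 𝔪] at hinj
      have h2 : x - w ∈ maximalIdeal S • LinearMap.ker π := by
        have := Submodule.mem_map_of_mem (f := (LinearMap.ker π).subtype) hinj
        rw [Submodule.map_smul'', Submodule.map_subtype_top] at this
        exact Submodule.smul_mono_left (le_maximalIdeal fun h => by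
          haveI : Nontrivial (S ⧸ n) := inferInstance
          exact Ideal.Quotient.nontrivial_iff.mp this h) this
      simpa using add_mem h2 hw
    have hK : LinearMap.ker π = ⊥ :=
      Submodule.eq_bot_of_le_smul_of_le_jacobson_bot _ _ (IsNoetherian.noetherian _) hsub
        (maximalIdeal_le_jacobson _)
    haveI : Module.Flat S M :=
      Module.Flat.of_linearEquiv (LinearEquiv.ofBijective π ⟨LinearMap.ker_eq_bot.mp hK, hπ⟩).symm
    exact fun X _ _ p hp => Module.subsingleton_tor_of_flat_left S M X p hp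
  | succ e ih =>
    set n := 𝔪.map (algebraMap B S) with hn
    obtain ⟨c, π, hπ⟩ := Module.Finite.exists_fin' S M
    classical
    let K := LinearMap.ker π
    let f : (Fin c → S ⧸ n) →ₗ[S ⧸ n] (M ⧸ (n • (⊤ : Submodule S M))) :=
      (Pi.basisFun (S ⧸ n) (Fin c)).constr (S ⧸ n) fun i => Submodule.Quotient.mk (π (Pi.single i 1))
    let red : (Fin c → S) →ₗ[S] (Fin c → S ⧸ n) := LinearMap.pi fun i => n.mkQ ∘ₗ LinearMap.proj i
    have hfr : ∀ v, f (red v) = Submodule.Quotient.mk (π v) := by
      intro v
      conv_rhs => rw [pi_eq_sum_univ' v]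
      rw [map_sum, show f (red v) = ∑ i, red v i • Submodule.Quotient.mk (π (Pi.single i 1)) from
        Module.Basis.constr_apply_fintype _ _ _ _, ← Submodule.mkQ_apply, map_sum]
      refine Finset.sum_congr rfl fun i _ => ?_
      rw [map_smul, map_smul]
      rfl
    have hred : Function.Surjective red := fun w => by
      choose v hv using fun i => Submodule.mkQ_surjective n (w i)
      exact ⟨v, funext hv⟩
    have hredker : ∀ v : Fin c → S, red v = 0 ↔ v ∈ n • (⊤ : Submodule S (Fin c → S)) := by
      intro v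
      constructor
      · intro hv
        rw [pi_eq_sum_univ' v]
        exact sum_mem fun i _ => Submodule.smul_mem_smul
          ((Submodule.Quotient.mk_eq_zero n).mp (congr_fun hv i)) trivial
      · intro hv
        refine funext fun j => (Submodule.Quotient.mk_eq_zero n).mpr ?_
        have := Submodule.mem_map_of_mem (f := LinearMap.proj (R := S) (φ := fun _ => S) j) hv
        rw [Submodule.map_smul''] at this
        simpa using (Submodule.smul_mono le_rfl le_top) this
    have hf : Function.Surjective f := fun y => by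
      obtain ⟨y, rfl⟩ := Submodule.Quotient.mk_surjective _ y
      obtain ⟨v, rfl⟩ := hπ y
      exact ⟨red v, hfr v⟩
    let g : (K ⧸ (n • (⊤ : Submodule S K))) →ₗ[S] (LinearMap.ker f) :=
      Submodule.liftQ _ (LinearMap.codRestrict ((LinearMap.ker f).restrictScalars S) (red ∘ₗ K.subtype)
          fun x => by
            change f (red x.1) = 0
            rw [hfr, LinearMap.mem_ker.mp x.2, Submodule.Quotient.mk_zero]) (by
        intro x hx
        have := Submodule.mem_map_of_mem (f := K.subtype) hx
        rw [Submodule.map_smul''] at this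
        exact LinearMap.mem_ker.mpr (Subtype.ext
          ((hredker _).mpr (Submodule.smul_mono le_rfl le_top this))))
    have hg : Function.Bijective g := by
      refine ⟨(injective_iff_map_eq_zero g).mpr fun x hx => ?_, fun y => ?_⟩
      · obtain ⟨x, rfl⟩ := Submodule.Quotient.mk_surjective _ x
        refine (Submodule.Quotient.mk_eq_zero _).mpr ?_
        have := (hredker x.1).mp (congrArg Subtype.val hx)
        have h2 := smul_mem_of_tor_one (ι := K.subtype.restrictScalars B)
          (π := π.restrictScalars B) Subtype.val_injective hπ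
          (fun z => ⟨fun hz => ⟨⟨z, hz⟩, rfl⟩, fun ⟨z, hz⟩ => hz ▸ z.2⟩) 𝔪 (htor 1 one_pos) x
          ((mem_smul_top_iff (S := S) 𝔪 _).2 (by assumption))
        rwa [mem_smul_top_iff (S := S) 𝔪] at h2
      · obtain ⟨v, hv⟩ := hred y.1
        have h0 : Submodule.Quotient.mk (π v) = (0 : M ⧸ (n • (⊤ : Submodule S M))) := by
          rw [← hfr, hv]; exact y.2
        rw [Submodule.Quotient.mk_eq_zero] at h0
        obtain ⟨z, hz, hzv⟩ : ∃ z ∈ n • (⊤ : Submodule S (Fin c → S)), π z = π v := by
          rw [← LinearMap.range_eq_top.mpr hπ, LinearMap.range_eq_map, ← Submodule.map_smul''] at h0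
          exact h0
        refine ⟨Submodule.Quotient.mk ⟨v - z, by simp [K, hzv]⟩, Subtype.ext ?_⟩
        change red (v - z) = y.1
        rw [map_sub, (hredker z).mpr hz, sub_zero, hv]
    let e' : (K ⧸ (n • (⊤ : Submodule S K))) ≃ₗ[S ⧸ n] LinearMap.ker f :=
      (LinearEquiv.ofBijective g hg).extendScalarsOfSurjective Ideal.Quotient.mk_surjective
    have hpdK := PD.pdle_of_equiv e'.symm ((PD.pdle_succ_iff hf e).1 hpd)
    exact (S7131.hasTorDimLE_succ_iff K.subtype π Subtype.val_injective hπ
      (fun z => ⟨fun hz => ⟨⟨z, hz⟩, rfl⟩, fun ⟨z, hz⟩ => hz ▸ z.2⟩) e).2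
      (ih K (fun p hp => torVanish_ker 𝔪 π hπ (fun q hq => htor q (by omega)) p hp) hpdK)

theorem hasFiniteTorDim_of_torVanish : ∀ (N : ℕ) (M : Type u) [AddCommGroup M] [Module B M]
    [Module S M] [IsScalarTower B S M] [Module.Finite S M], TorVanish 𝔪 M N →
    DRing.HasFiniteTorDim S M := by
  intro N M _ _ _ _ _ htor
  induction N generalizing M with
  | zero =>
    exact ⟨_, hasFiniteTorDim_of_pd 𝔪 _ M htor (Serre.pdle_all (R := S ⧸ 𝔪.map (algebraMap B S)) _)⟩
  | succ N ih =>
    obtain ⟨c, π, hπ⟩ := Module.Finite.exists_fin' S M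
    obtain ⟨d, hd⟩ := ih (LinearMap.ker π) (torVanish_ker 𝔪 π hπ htor)
    exact ⟨d + 1, (S7131.hasTorDimLE_succ_iff (LinearMap.ker π).subtype π Subtype.val_injective hπ
      (fun z => ⟨fun hz => ⟨⟨z, hz⟩, rfl⟩, fun ⟨z, hz⟩ => hz ▸ z.2⟩) d).2 hd⟩

end Fibre

end Groth.Agent.H80.FiberTorDim
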