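import Mathlib.CategoryTheory.Galois.Topology
import Mathlib.CategoryTheory.Action.Concrete
import Mathlib.CategoryTheory.Action.Limits
import Mathlib.GroupTheory.QuotientGroup.Finite
import Mathlib.GroupTheory.Index

/-!
# Automorphisms of the forgetful functor on finite `G`-sets
-/

universe u v w u₁

open CategoryTheory

namespace Groth.Agent.H80.ForgetAut

variable {G : Type u} [Group G]

/-- The kernel of a finite `G`-set. -/
def actKer (X : Action FintypeCat.{w} G) : Subgroup G where
  carrier := {g | ∀ x : X.V, (X.ρ g).hom x = x}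
  one_mem' x := by rw [map_one]; rfl
  mul_mem' {g h} hg hh x := by
    rw [map_mul]
    change (X.ρ g).hom ((X.ρ h).hom x) = x
    rw [hh, hg]
  inv_mem' {g} hg x := by
    have : (X.ρ g⁻¹).hom ((X.ρ g).hom x) = x := by
      change ((X.ρ (g⁻¹)) * (X.ρ g) : End X.V).hom x = x
      rw [← map_mul, inv_mul_cancel, map_one]
      rfl
    rwa [hg] at this

theorem rho_mul_apply (X : Action FintypeCat.{w} G) (g h : G) (x : X.V) :
    (X.ρ (g * h)).hom x = (X.ρ g).hom ((X.ρ h).hom x) := by
  rw [map_mul]; rfl

theorem rho_one_apply (X : Action FintypeCat.{w} G) (x : X.V) : (X.ρ 1).hom x = x := by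
  rw [map_one]; rfl

instance actKer_finiteIndex (X : Action FintypeCat.{w} G) : (actKer X).FiniteIndex := by
  let f : G ⧸ actKer X → (X.V → X.V) := Quotient.lift (fun g x => (X.ρ g).hom x) fun g h hgh => by
    have hm : g⁻¹ * h ∈ actKer X := QuotientGroup.leftRel_apply.mp hgh
    funext x
    have := congrArg (fun y => (X.ρ g).hom y) (hm x)
    rw [← rho_mul_apply, mul_inv_cancel_left] at this
    exact this.symm
  have hf : Function.Injective f := by
    intro a b
    induction a using QuotientGroup.induction_on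
    induction b using QuotientGroup.induction_on
    rename_i g h
    intro hgh
    refine QuotientGroup.eq.mpr fun x => ?_
    have := congr_fun hgh x
    change (X.ρ g).hom x = (X.ρ h).hom x at this
    rw [rho_mul_apply, ← this, ← rho_mul_apply, inv_mul_cancel, rho_one_apply]
  have : Finite (G ⧸ actKer X) := Finite.of_injective f hf
  exact Subgroup.finiteIndex_of_finite_quotient

instance actKer_normal (X : Action FintypeCat.{w} G) : (actKer X).Normal :=
  ⟨fun g hg h x => by rw [rho_mul_apply, rho_mul_apply, hg, ← rho_mul_apply, mul_inv_cancel, rho_one_apply]⟩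

/-- The finite `G`-set `G ⧸ U`. -/
noncomputable def quot (U : Subgroup G) [U.FiniteIndex] : Action FintypeCat.{u} G :=
  letI : Fintype (G ⧸ U) := U.fintypeQuotientOfFiniteIndex
  Action.FintypeCat.ofMulAction G (FintypeCat.of (G ⧸ U))

/-- The equivariant map `G ⧸ U ⟶ X` sending `1` to `x`. -/
noncomputable def fromQuot (U : Subgroup G) [U.FiniteIndex] (X : Action FintypeCat.{u} G) (x : X.V)
    (h : ∀ u ∈ U, (X.ρ u).hom x = x) : quot U ⟶ X where
  hom := FintypeCat.homMk (Quotient.lift (fun g => (X.ρ g).hom x) fun g k hgk => by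
    have := congrArg (fun y => (X.ρ g).hom y) (h _ (QuotientGroup.leftRel_apply.mp hgk))
    rw [← rho_mul_apply, mul_inv_cancel_left] at this
    exact this.symm)
  comm g := by
    refine FintypeCat.hom_ext _ _ fun q => ?_
    obtain ⟨k, rfl⟩ := QuotientGroup.mk_surjective q
    exact rho_mul_apply X g k x

theorem fromQuot_apply (U : Subgroup G) [U.FiniteIndex] (X : Action FintypeCat.{u} G) (x : X.V)
    (h : ∀ u ∈ U, (X.ρ u).hom x = x) (g : G) :
    (fromQuot U X x h).hom (QuotientGroup.mk g : G ⧸ U) = (X.ρ g).hom x := rfl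

variable {C : Type u₁} [Category.{v} C] (J : C ⥤ Action FintypeCat.{u} G)

/-- Translation by a group element as an automorphism of the forgetful functor. -/
noncomputable def toAut : G →* Aut (J ⋙ Action.forget FintypeCat.{u} G) where
  toFun g := NatIso.ofComponents
    (fun X =>
      { hom := (J.obj X).ρ g
        inv := (J.obj X).ρ g⁻¹
        hom_inv_id := by
          change (J.obj X).ρ g⁻¹ * (J.obj X).ρ g = 1
          rw [← map_mul, inv_mul_cancel, map_one]
        inv_hom_id := by
          change (J.obj X).ρ g * (J.obj X).ρ g⁻¹ = 1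
          rw [← map_mul, mul_inv_cancel, map_one] })
    (fun f => ((J.map f).comm g).symm)
  map_one' := Iso.ext (NatTrans.ext (funext fun X => map_one (J.obj X).ρ))
  map_mul' g h := Iso.ext (NatTrans.ext (funext fun X => map_mul (J.obj X).ρ g h))

variable [J.Full]
  (hJ : ∀ (U : Subgroup G) [U.FiniteIndex] (I : Finset C),
    U = I.inf (fun X => actKer (J.obj X)) → ∃ Y : C, Nonempty (J.obj Y ≅ quot U))

include hJ

theorem exists_agree (σ : Aut (J ⋙ Action.forget FintypeCat.{u} G)) (I : Finset C) :
    ∃ g : G, ∀ X ∈ I, ∀ x : (J.obj X).V, (σ.hom.app X).hom x = ((J.obj X).ρ g).hom x := by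
  classical
  let U : Subgroup G := I.inf (fun X => actKer (J.obj X))
  have hU : U.FiniteIndex := by
    refine Finset.inf_induction (p := Subgroup.FiniteIndex) ?_ (fun a ha b hb => ?_) fun X _ => ?_
    · infer_instance
    · exact inferInstance
    · infer_instance
  obtain ⟨Y, ⟨i⟩⟩ := hJ U I rfl
  let y : (J.obj Y).V := i.inv.hom (QuotientGroup.mk (1 : G) : G ⧸ U)
  obtain ⟨g, hg⟩ := QuotientGroup.mk_surjective
    (show G ⧸ U from i.hom.hom ((σ.hom.app Y).hom y))
  have hy : (σ.hom.app Y).hom y = i.inv.hom (QuotientGroup.mk g : G ⧸ U) := by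
    rw [hg]
    exact (ConcreteCategory.congr_hom (congrArg Action.Hom.hom i.hom_inv_id) _).symm
  refine ⟨g, fun X hX x => ?_⟩
  have hle : U ≤ actKer (J.obj X) := Finset.inf_le hX
  obtain ⟨φ, hφ⟩ := J.map_surjective (i.hom ≫ fromQuot U (J.obj X) x fun u hu => hle hu x)
  have hval : ∀ k : G, (J.map φ).hom (i.inv.hom (QuotientGroup.mk k : G ⧸ U)) =
      ((J.obj X).ρ k).hom x := by
    intro k
    rw [hφ]
    change (fromQuot U (J.obj X) x fun u hu => hle hu x).hom (i.hom.hom (i.inv.hom _)) = _
    rw [show i.hom.hom (i.inv.hom (QuotientGroup.mk k : G ⧸ U)) = _ from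
      ConcreteCategory.congr_hom (congrArg Action.Hom.hom i.inv_hom_id) _]
    rfl
  have hnat := ConcreteCategory.congr_hom (σ.hom.naturality φ) y
  change (σ.hom.app X).hom ((J.map φ).hom y) = (J.map φ).hom ((σ.hom.app Y).hom y) at hnat
  rw [hy, hval, hval, rho_one_apply] at hnat
  exact hnat

open PreGaloisCategory in
theorem denseRange_toAut : DenseRange (toAut J) := by
  rw [DenseRange, dense_iff_inter_open]
  rintro _ ⟨s, hs, rfl⟩ ⟨σ, hσ⟩
  obtain ⟨I, t, ht, htU⟩ := isOpen_pi_iff.mp hs _ hσ
  obtain ⟨g, hg⟩ := exists_agree J hJ σ I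
  refine ⟨toAut J g, ?_, g, rfl⟩
  apply htU
  intro X hX
  have : autEmbedding _ (toAut J g) X = autEmbedding _ σ X :=
    Iso.ext (FintypeCat.hom_ext _ _ fun x => (hg X hX x).symm)
  rw [this]
  exact (ht X hX).2

end Groth.Agent.H80.ForgetAut
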