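import Groth.Agent.H80.Galois

/-!
# Realising finite continuous `Aut F`-sets
-/

universe u v w x

open CategoryTheory CategoryTheory.Limits CategoryTheory.PreGaloisCategory

namespace Groth.Agent.H80.Galois

variable {C : Type u} [Category.{v} C] [GaloisCategory C] (F : C ⥤ FintypeCat.{w}) [FiberFunctor F]

open scoped FintypeCatDiscrete in
theorem exists_realization (W : FintypeCat.{w}) [MulAction (Aut F) W]
    (hW : ∀ x : W, IsOpen {g : Aut F | g • x = x}) :
    ∃ (X : C) (f : F.obj X ≃ W), ∀ (g : Aut F) (x : F.obj X), f (g • x) = g • f x := by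
  let Y : Action FintypeCat.{w} (Aut F) := Action.FintypeCat.ofMulAction (Aut F) W
  have hY : Action.IsContinuous Y := by
    rw [Action.isContinuous_def]
    change Continuous fun p : Aut F × W => p.1 • p.2
    refine continuous_prod_of_discrete_right.mpr fun x => ?_
    change Continuous (fun σ : Aut F => σ • x)
    refine IsLocallyConstant.continuous (IsLocallyConstant.iff_isOpen_fiber.mpr fun y => ?_)
    by_cases h : ∃ σ : Aut F, σ • x = y
    · obtain ⟨σ, rfl⟩ := h
      convert (hW x).preimage (continuous_const_mul σ⁻¹) using 1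
      ext τ
      change τ • x = σ • x ↔ (σ⁻¹ * τ) • x = x
      rw [mul_smul, inv_smul_eq_iff]
    · convert isOpen_empty
      ext τ
      simpa using not_exists.mp h τ
  obtain ⟨X, ⟨i⟩⟩ := Functor.EssSurj.mem_essImage (F := functorToContAction F)
    (⟨Y, hY⟩ : ContAction FintypeCat.{w} (Aut F))
  let i' : (functorToAction F).obj X ≅ Y := (ObjectProperty.ι _).mapIso i
  exact ⟨X, FintypeCat.equivEquivIso.symm ((Action.forget _ _).mapIso i'), fun g x =>
    ConcreteCategory.congr_hom (i'.hom.comm g) x⟩

end Groth.Agent.H80.Galois
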