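import Groth.Prelude.Def_GrLC
import Groth.Agent.Lib.Regular.Quotient
import Mathlib.Algebra.DualNumber
import Mathlib.RingTheory.IntegralClosure.IsIntegralClosure.Basic
import Mathlib.RingTheory.Ideal.GoingUp
import Mathlib.RingTheory.Localization.AtPrime.Basic
import Mathlib.RingTheory.GradedAlgebra.Basic

set_option autoImplicit false
set_option backward.isDefEq.respectTransparency false
universe u
open IsLocalRing DirectSum

namespace Groth.Agent.H80.GrRegQuot

variable {R : Type u} [CommRing R] (𝒜 : ℤ → AddSubgroup R) [GradedRing 𝒜]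

theorem inv_mem {d : ℤ} {v : Rˣ} (hv : (v : R) ∈ 𝒜 d) : ((v⁻¹ : Rˣ) : R) ∈ 𝒜 (-d) := by
  have h : ((decompose 𝒜 ((v : R) * (v⁻¹ : Rˣ))) (d + -d) : R) =
      (v : R) * (decompose 𝒜 ((v⁻¹ : Rˣ) : R) (-d) : R) :=
    coe_decompose_mul_add_of_left_mem 𝒜 hv
  rw [Units.mul_inv, add_neg_cancel, decompose_of_mem_same 𝒜 (SetLike.one_mem_graded 𝒜)] at h
  have : ((v⁻¹ : Rˣ) : R) = (decompose 𝒜 ((v⁻¹ : Rˣ) : R) (-d) : R) := by
    rw [← mul_one ((v⁻¹ : Rˣ) : R)]
    nth_rw 1 [h]
    rw [Units.inv_mul_cancel_left, mul_one]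
  rw [this]
  exact SetLike.coe_mem _

theorem zpow_mem {d : ℤ} {v : Rˣ} (hv : (v : R) ∈ 𝒜 d) (k : ℤ) : ((v ^ k : Rˣ) : R) ∈ 𝒜 (k * d) := by
  induction k using Int.induction_on with
  | zero => simpa using SetLike.one_mem_graded 𝒜
  | succ k ih =>
    rw [zpow_add_one, Units.val_mul, add_mul, one_mul]
    exact SetLike.mul_mem_graded ih hv
  | pred k ih =>
    rw [zpow_sub_one, Units.val_mul, sub_mul, one_mul, sub_eq_add_neg]
    exact SetLike.mul_mem_graded ih (inv_mem 𝒜 hv)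

variable (N : ℕ) (v : Rˣ) (hv : (v : R) ∈ 𝒜 (N : ℤ))

/-- `v ^ (-k) * x` in degree zero -/
def nrm {i : ℤ} (k : ℤ) (hk : i = k * N) (x : 𝒜 i) : GrLC.deg0 𝒜 :=
  ⟨((v ^ (-k) : Rˣ) : R) * (x : R), by
    have h := SetLike.mul_mem_graded (zpow_mem 𝒜 hv (-k)) x.2
    rw [show -k * (N : ℤ) + i = 0 by rw [hk]; ring] at h
    exact h⟩

theorem eq_zpow_mul {i : ℤ} (k : ℤ) (hk : i = k * N) (x : 𝒜 i) :
    (x : R) = ((v ^ k : Rˣ) : R) * (nrm 𝒜 N v hv k hk x : R) := by
  simp only [nrm, ← mul_assoc, ← Units.val_mul, ← zpow_add, add_neg_cancel, zpow_zero, Units.val_one,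
    one_mul]

variable [IsLocalRing (GrLC.deg0 𝒜)] (hN : 0 < N)
  (hmin : ∀ (n : ℤ), 0 < n → n < (N : ℤ) → ∀ s ∈ 𝒜 n, ¬ IsUnit s)

include hN hmin hv in
theorem not_isUnit_of_not_dvd {i : ℤ} (hi : ¬ (N : ℤ) ∣ i) (x : 𝒜 i) : ¬ IsUnit (x : R) := by
  intro hu
  have hpos : 0 < i % N := lt_of_le_of_ne (Int.emod_nonneg _ (by omega))
    fun h => hi (Int.dvd_of_emod_eq_zero h.symm)
  refine hmin (i % N) hpos (Int.emod_lt_of_pos _ (by omega)) _ ?_ ((v ^ (-(i / N))).isUnit.mul hu)
  have h := SetLike.mul_mem_graded (zpow_mem 𝒜 hv (-(i / N))) x.2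
  rwa [show -(i / N) * (N : ℤ) + i = i % N by rw [Int.emod_def]; ring] at h

abbrev κ := ResidueField (GrLC.deg0 𝒜)

/-- `(1 + ε)` -/
noncomputable def tau : (DualNumber (κ 𝒜))ˣ :=
  (show IsUnit (1 + DualNumber.eps : DualNumber (κ 𝒜)) from
    TrivSqZeroExt.isUnit_iff_isUnit_fst.2 (by simp)).unit

open Classical in
/-- pieces of the map to the dual numbers -/
noncomputable def piece (i : ℤ) : 𝒜 i →+ DualNumber (κ 𝒜) :=
  if h : (N : ℤ) ∣ i then
    { toFun := fun x => ((tau 𝒜 ^ (i / N) : (DualNumber (κ 𝒜))ˣ) : DualNumber (κ 𝒜)) *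
        TrivSqZeroExt.inl (residue _ (nrm 𝒜 N v hv (i / N) (Int.ediv_mul_cancel h).symm x))
      map_zero' := by
        have : nrm 𝒜 N v hv (i / N) (Int.ediv_mul_cancel h).symm 0 = 0 := Subtype.ext (by simp [nrm])
        simp [this]
      map_add' := fun x y => by
        have : nrm 𝒜 N v hv (i / N) (Int.ediv_mul_cancel h).symm (x + y) =
            nrm 𝒜 N v hv (i / N) (Int.ediv_mul_cancel h).symm x +
              nrm 𝒜 N v hv (i / N) (Int.ediv_mul_cancel h).symm y :=
          Subtype.ext (by simp [nrm, mul_add])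
        simp [this, TrivSqZeroExt.inl_add, mul_add] }
  else 0

theorem piece_apply {i : ℤ} (k : ℤ) (hk : i = k * N) (hN : 0 < N) (x : 𝒜 i) :
    piece 𝒜 N v hv i x = ((tau 𝒜 ^ k : (DualNumber (κ 𝒜))ˣ) : DualNumber (κ 𝒜)) *
      TrivSqZeroExt.inl (residue _ (nrm 𝒜 N v hv k hk x)) := by
  subst hk
  have h : (N : ℤ) ∣ k * N := dvd_mul_left _ _
  have e : k * (N : ℤ) / N = k := Int.mul_ediv_cancel _ (by omega)
  have : nrm 𝒜 N v hv (k * (N : ℤ) / N) (Int.ediv_mul_cancel h).symm x =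
      nrm 𝒜 N v hv k rfl x := Subtype.ext (by simp [nrm, e])
  rw [piece, dif_pos h]
  simp only [AddMonoidHom.coe_mk, ZeroHom.coe_mk]
  rw [this, e]

theorem piece_apply_of_not_dvd {i : ℤ} (hi : ¬ (N : ℤ) ∣ i) (x : 𝒜 i) : piece 𝒜 N v hv i x = 0 := by
  simp only [piece, dif_neg hi, AddMonoidHom.zero_apply]

include hN hmin in
theorem piece_mul {i j : ℤ} (x : 𝒜 i) (y : 𝒜 j) :
    piece 𝒜 N v hv (i + j) (GradedMonoid.GMul.mul (A := fun i => 𝒜 i) x y) = piece 𝒜 N v hv i x * piece 𝒜 N v hv j y := by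
  by_cases hij : (N : ℤ) ∣ i + j
  · by_cases hi : (N : ℤ) ∣ i
    · obtain ⟨a, rfl⟩ := hi
      obtain ⟨b, rfl⟩ := (Int.dvd_add_right (dvd_mul_right _ a)).1 hij
      rw [piece_apply 𝒜 N v hv (a + b) (by ring) hN, piece_apply 𝒜 N v hv a (mul_comm _ _) hN,
        piece_apply 𝒜 N v hv b (mul_comm _ _) hN]
      have : nrm 𝒜 N v hv (a + b) (by ring) (GradedMonoid.GMul.mul (A := fun i => 𝒜 i) x y) =
          nrm 𝒜 N v hv a (mul_comm _ _) x * nrm 𝒜 N v hv b (mul_comm _ _) y :=
        Subtype.ext (by simp [nrm, SetLike.coe_gMul, neg_add, zpow_add]; ring)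
      rw [this, map_mul, TrivSqZeroExt.inl_mul, zpow_add, Units.val_mul]
      ring
    · rw [piece_apply_of_not_dvd 𝒜 N v hv hi x, zero_mul]
      obtain ⟨k, hk⟩ := hij
      have hk' : i + j = k * N := by rw [hk, mul_comm]
      rw [piece_apply 𝒜 N v hv k hk' hN]
      suffices residue _ (nrm 𝒜 N v hv k hk' (GradedMonoid.GMul.mul (A := fun i => 𝒜 i) x y)) = 0 by simp [this]
      rw [residue_eq_zero_iff, mem_maximalIdeal, mem_nonunits_iff]
      intro hu
      apply not_isUnit_of_not_dvd 𝒜 N v hv hN hmin hi x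
      have h := hu.map (GrLC.deg0 𝒜).subtype
      simp only [nrm, Subring.subtype_apply, SetLike.coe_gMul] at h
      exact (IsUnit.mul_iff.1 (IsUnit.mul_iff.1 h).2).1
  · rw [piece_apply_of_not_dvd 𝒜 N v hv hij]
    by_cases hi : (N : ℤ) ∣ i
    · rw [piece_apply_of_not_dvd 𝒜 N v hv (fun h => hij (dvd_add hi h)) y, mul_zero]
    · rw [piece_apply_of_not_dvd 𝒜 N v hv hi x, zero_mul]

/-- the map to the dual numbers -/
noncomputable def psi : R →+* DualNumber (κ 𝒜) :=
  (DirectSum.toSemiring (piece 𝒜 N v hv)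
    (by
      rw [piece_apply 𝒜 N v hv 0 (zero_mul _).symm hN]
      have : nrm 𝒜 N v hv 0 (zero_mul _).symm (GradedMonoid.GOne.one (A := fun i => 𝒜 i)) = 1 :=
        Subtype.ext (by simp [nrm, SetLike.coe_gOne])
      simp [this])
    (fun {_ _} x y => piece_mul 𝒜 N v hv hN hmin x y)).comp
  (DirectSum.decomposeRingEquiv 𝒜).toRingHom

theorem psi_of_mem {i : ℤ} (x : 𝒜 i) : psi 𝒜 N v hv hN hmin (x : R) = piece 𝒜 N v hv i x := by
  rw [psi, RingHom.comp_apply]
  show DirectSum.toSemiring _ _ _ (decompose 𝒜 (x : R)) = _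
  rw [decompose_coe, DirectSum.toSemiring_of]

include hN hmin hv in
theorem isRegularLocalRing_quot [IsNoetherianRing R]
    (hreg : ∀ (p : Ideal R) [p.IsPrime], IsRegularLocalRing (Localization.AtPrime p)) :
    IsRegularLocalRing (R ⧸ Ideal.span {(v : R) - 1}) := by
  let φ : R →+* κ 𝒜 := (TrivSqZeroExt.fstHom (κ 𝒜) (κ 𝒜) (κ 𝒜)).toRingHom.comp (psi 𝒜 N v hv hN hmin)
  let Q : Ideal R := RingHom.ker φ
  have hQ : Q.IsPrime := RingHom.ker_isPrime φ
  have hψt : psi 𝒜 N v hv hN hmin (v : R) = 1 + DualNumber.eps := by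
    rw [show (v : R) = ((⟨v, hv⟩ : 𝒜 (N : ℤ)) : R) from rfl, psi_of_mem,
      piece_apply 𝒜 N v hv 1 (one_mul _).symm hN]
    have : nrm 𝒜 N v hv 1 (one_mul _).symm ⟨v, hv⟩ = 1 := Subtype.ext (by simp [nrm])
    simp [this, tau]
  have hxQ : (v : R) - 1 ∈ Q := by simp [Q, φ, RingHom.mem_ker, hψt]
  set C := R ⧸ Ideal.span {(v : R) - 1} with hC
  let π : R →+* C := Ideal.Quotient.mk _
  have hπv : π v = 1 := by
    rw [← map_one π]; exact Ideal.Quotient.eq.2 (Ideal.mem_span_singleton_self _)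
  have hπz : ∀ k : ℤ, π ((v ^ k : Rˣ) : R) = 1 := by
    intro k
    have : Units.map π.toMonoidHom v = 1 := Units.ext hπv
    calc π ((v ^ k : Rˣ) : R) = (Units.map π.toMonoidHom (v ^ k) : Cˣ).val := rfl
      _ = 1 := by rw [map_zpow, this, one_zpow, Units.val_one]
  have hpow : ∀ (i : ℤ) (x : 𝒜 i), ∃ r : GrLC.deg0 𝒜,
      (x : R) ^ N = ((v ^ i : Rˣ) : R) * (r : R) := by
    intro i x
    have hm : (x : R) ^ N ∈ 𝒜 ((N : ℕ) • i) := SetLike.pow_mem_graded N x.2
    exact ⟨_, eq_zpow_mul 𝒜 N v hv (i := (N : ℕ) • i) i (by rw [nsmul_eq_mul, mul_comm]) ⟨(x : R) ^ N, hm⟩⟩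
  have hint : Algebra.IsIntegral (GrLC.deg0 𝒜) C := by
    refine ⟨fun c => ?_⟩
    obtain ⟨y, rfl⟩ := Ideal.Quotient.mk_surjective c
    induction y using DirectSum.Decomposition.inductionOn 𝒜 with
    | zero => rw [map_zero]; exact isIntegral_zero
    | @homogeneous i x =>
      obtain ⟨r, hr⟩ := hpow i x
      refine IsIntegral.of_pow hN ?_
      rw [← map_pow, hr, map_mul, show Ideal.Quotient.mk _ ((v ^ i : Rˣ) : R) = 1 from hπz i, one_mul]
      exact isIntegral_algebraMap (x := r)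
    | add a b ha hb => rw [map_add]; exact ha.add hb
  have hv0 : π ((v : R) - 1) = 0 := by rw [map_sub, hπv, map_one, sub_self]
  have hmax : ∀ M : Ideal R, M.IsMaximal → (v : R) - 1 ∈ M → M = Q := by
    intro M hM hvM
    refine (hM.eq_of_le hQ.ne_top ?_)
    have hle : Ideal.span {(v : R) - 1} ≤ M := (Ideal.span_singleton_le_iff_mem _).2 hvM
    have hcm : (M.map π).comap π = M := by
      rw [Ideal.comap_map_of_surjective π Ideal.Quotient.mk_surjective, ← RingHom.ker_eq_comap_bot,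
        Ideal.mk_ker, sup_eq_left.2 hle]
    have hMC : (M.map π).IsMaximal := (Ideal.map_eq_top_or_isMaximal_of_surjective π
      Ideal.Quotient.mk_surjective hM).resolve_left fun h => hM.ne_top (by
        rw [← hcm, h, Ideal.comap_top])
    have h0 : (M.map π).comap (algebraMap (GrLC.deg0 𝒜) C) = maximalIdeal _ :=
      eq_maximalIdeal (Ideal.isMaximal_comap_of_isIntegral_of_isMaximal _)
    have hm0 : ∀ r ∈ maximalIdeal (GrLC.deg0 𝒜), (r : R) ∈ M := by
      intro r hr
      rw [← h0] at hr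
      rw [← hcm]
      exact hr
    suffices key : ∀ y : R, ∃ r : GrLC.deg0 𝒜, y - r ∈ M ∧ residue _ r = φ y by
      intro y hy
      by_contra hyQ
      obtain ⟨r, hr, hres⟩ := key y
      refine hyQ ?_
      show φ y = 0
      by_contra h0'
      have hru : IsUnit r := by
        by_contra hnu
        exact h0' (hres ▸ (residue_eq_zero_iff r).2 hnu)
      have : (r : R) ∈ M := by simpa using sub_mem hy hr
      exact hM.ne_top (Ideal.eq_top_of_isUnit_mem _ this (hru.map (GrLC.deg0 𝒜).subtype))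
    intro y
    induction y using DirectSum.Decomposition.inductionOn 𝒜 with
    | zero => exact ⟨0, by simp, by simp⟩
    | @homogeneous i x =>
      by_cases hi : (N : ℤ) ∣ i
      · obtain ⟨k, rfl⟩ := hi
        refine ⟨nrm 𝒜 N v hv k (mul_comm _ _) x, ?_, ?_⟩
        · rw [← hcm, Ideal.mem_comap, map_sub]
          nth_rw 1 [eq_zpow_mul 𝒜 N v hv k (mul_comm _ _) x]
          rw [map_mul, hπz, one_mul, sub_self]
          exact zero_mem _
        · simp only [φ, RingHom.comp_apply, psi_of_mem, piece_apply 𝒜 N v hv k (mul_comm _ _) hN x]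
          have h1 : TrivSqZeroExt.fstHom (κ 𝒜) (κ 𝒜) (κ 𝒜)
              ((tau 𝒜 ^ k : (DualNumber (κ 𝒜))ˣ) : DualNumber (κ 𝒜)) = 1 := by
            have ht : Units.map (TrivSqZeroExt.fstHom (κ 𝒜) (κ 𝒜) (κ 𝒜)).toRingHom.toMonoidHom
                (tau 𝒜) = 1 := Units.ext (by simp [tau])
            calc _ = (Units.map (TrivSqZeroExt.fstHom (κ 𝒜) (κ 𝒜) (κ 𝒜)).toRingHom.toMonoidHom
                (tau 𝒜 ^ k)).val := rfl
              _ = 1 := by rw [map_zpow, ht, one_zpow, Units.val_one]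
          rw [AlgHom.toRingHom_eq_coe, RingHom.coe_coe, map_mul, h1, one_mul]
          simp
      · refine ⟨0, ?_, ?_⟩
        · obtain ⟨r, hr⟩ := hpow i x
          simp only [ZeroMemClass.coe_zero, sub_zero]
          refine hM.isPrime.mem_of_pow_mem N ?_
          rw [hr]
          refine Ideal.mul_mem_left _ _ (hm0 r ((mem_maximalIdeal r).2 fun hu => ?_))
          refine not_isUnit_of_not_dvd 𝒜 N v hv hN hmin hi x ((isUnit_pow_iff hN.ne').1 ?_)
          rw [hr]
          exact (v ^ i).isUnit.mul (hu.map (GrLC.deg0 𝒜).subtype)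
        · simp only [φ, RingHom.comp_apply, psi_of_mem, piece_apply_of_not_dvd 𝒜 N v hv hi x,
            map_zero]
    | add a b ha hb =>
      obtain ⟨r, hr, hr'⟩ := ha
      obtain ⟨s, hs, hs'⟩ := hb
      exact ⟨r + s, by simpa [add_sub_add_comm] using add_mem hr hs, by rw [map_add, map_add, hr', hs']⟩
  -- the quotient is local
  have hQmax : Q.IsMaximal := by
    obtain ⟨M, hM, hMle⟩ := Ideal.exists_le_maximal Q hQ.ne_top
    exact hmax M hM (hMle hxQ) ▸ hM
  have hloc : IsLocalRing C := by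
    refine IsLocalRing.of_unique_max_ideal ⟨Q.map π, ?_, fun J hJ => ?_⟩
    · refine (Ideal.map_eq_top_or_isMaximal_of_surjective π Ideal.Quotient.mk_surjective
        hQmax).resolve_left fun h => hQ.ne_top ?_
      have := congrArg (Ideal.comap π) h
      rw [Ideal.comap_map_of_surjective π Ideal.Quotient.mk_surjective, ← RingHom.ker_eq_comap_bot,
        Ideal.mk_ker, sup_eq_left.2 ((Ideal.span_singleton_le_iff_mem _).2 hxQ), Ideal.comap_top] at this
      exact this
    · have := Ideal.comap_isMaximal_of_surjective π Ideal.Quotient.mk_surjective (K := J)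
      rw [← hmax (J.comap π) this (by
        show π ((v : R) - 1) ∈ J
        rw [hv0]; exact zero_mem _), Ideal.map_comap_of_surjective π Ideal.Quotient.mk_surjective]
  -- localisation at Q
  let A := Localization.AtPrime Q
  have : IsRegularLocalRing A := hreg Q
  let Ψ : A →+* DualNumber (κ 𝒜) := IsLocalization.lift (M := Q.primeCompl)
    (g := psi 𝒜 N v hv hN hmin) (fun s => TrivSqZeroExt.isUnit_iff_isUnit_fst.2 (IsUnit.mk0 _ s.2))
  set x : A := algebraMap R A ((v : R) - 1) with hxdef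
  have hxm : x ∈ maximalIdeal A := (IsLocalization.AtPrime.to_map_mem_maximal_iff A Q _).2 hxQ
  have hx2 : x ∉ maximalIdeal A ^ 2 := by
    intro h
    have hsq : ∀ z ∈ maximalIdeal A ^ 2, Ψ z = 0 := by
      intro z hz
      rw [pow_two] at hz
      induction hz using Submodule.mul_induction_on' with
      | mem_mul_mem a ha b hb =>
        have hfa : ∀ a ∈ maximalIdeal A, TrivSqZeroExt.fst (Ψ a) = 0 := by
          intro a ha
          obtain ⟨⟨r, s⟩, rfl⟩ := IsLocalization.mk'_surjective Q.primeCompl a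
          have hr : r ∈ Q := (IsLocalization.AtPrime.mk'_mem_maximal_iff A Q r s).1 ha
          have := congrArg (fun w => TrivSqZeroExt.fst (Ψ w)) (IsLocalization.mk'_spec A r s)
          simp only [map_mul, TrivSqZeroExt.fst_mul, Ψ, IsLocalization.lift_eq] at this
          refine (mul_eq_zero.1 (this.trans ?_)).resolve_right s.2
          exact hr
        rw [map_mul]
        refine TrivSqZeroExt.ext ?_ ?_
        · simp [hfa a ha]
        · simp [hfa a ha, hfa b hb]
      | add a _ b _ ha hb => rw [map_add, ha, hb, add_zero]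
    have := hsq x h
    rw [hxdef, IsLocalization.lift_eq, map_sub, map_one, hψt, add_sub_cancel_left] at this
    simpa using congrArg TrivSqZeroExt.snd this
  have hreg' := (Groth.Agent.Lib.Regular.Quotient.quotient_singleton hxm hx2).1
  let g : A →+* C := IsLocalization.lift (M := Q.primeCompl) (g := π) (fun s => by
    by_contra hu
    obtain ⟨J, hJ, hsJ⟩ := exists_max_ideal_of_mem_nonunits hu
    have := Ideal.comap_isMaximal_of_surjective π Ideal.Quotient.mk_surjective (K := J)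
    have hJQ := hmax (J.comap π) this (by
      show π ((v : R) - 1) ∈ J
      rw [hv0]; exact zero_mem _)
    have hsJ' : (s : R) ∈ J.comap π := hsJ
    rw [hJQ] at hsJ'
    exact s.2 hsJ')
  let f1 : A ⧸ Ideal.span {x} →+* C := Ideal.Quotient.lift _ g (fun a ha => by
    obtain ⟨c, rfl⟩ := Ideal.mem_span_singleton'.1 ha
    rw [map_mul, hxdef, IsLocalization.lift_eq, show π ((v : R) - 1) = 0 by rw [map_sub, hπv, map_one, sub_self],
      mul_zero])
  let f2 : C →+* A ⧸ Ideal.span {x} := Ideal.Quotient.lift _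
    ((Ideal.Quotient.mk (Ideal.span {x})).comp (algebraMap R A)) (fun a ha => by
    obtain ⟨c, rfl⟩ := Ideal.mem_span_singleton'.1 ha
    rw [RingHom.comp_apply, map_mul, map_mul, Ideal.Quotient.eq_zero_iff_mem.2
      (Ideal.mem_span_singleton_self x), mul_zero])
  have hg : ∀ r : R, g (algebraMap R A r) = π r := fun r => IsLocalization.lift_eq _ r
  have h12 : f1.comp f2 = RingHom.id C := Ideal.Quotient.ringHom_ext (RingHom.ext fun r => by
    show f1 (f2 (Ideal.Quotient.mk _ r)) = Ideal.Quotient.mk _ r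
    rw [Ideal.Quotient.lift_mk, RingHom.comp_apply, Ideal.Quotient.lift_mk]
    exact hg r)
  have h21 : f2.comp f1 = RingHom.id _ := Ideal.Quotient.ringHom_ext
    (IsLocalization.ringHom_ext Q.primeCompl (RingHom.ext fun r => by
      show f2 (f1 (Ideal.Quotient.mk _ (algebraMap R A r))) = Ideal.Quotient.mk _ (algebraMap R A r)
      rw [Ideal.Quotient.lift_mk, hg]
      rfl))
  exact IsRegularLocalRing.of_ringEquiv (RingEquiv.ofRingHom f1 f2 h12 h21)

end Groth.Agent.H80.GrRegQuot
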