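import Groth.Agent.Lib.Regular.Serre
import Groth.Agent.Lib.InjHull.Matlis
import Groth.Agent.Lib.InjHull.Basic
import Mathlib.LinearAlgebra.Dimension.Free
import Mathlib.LinearAlgebra.Dimension.RankNullity
import Mathlib.LinearAlgebra.Dimension.Localization
import Mathlib.RingTheory.LocalRing.Module
import Mathlib.RingTheory.LocalRing.Quotient
import Mathlib.RingTheory.HopkinsLevitzki

/-!
# The length of `Hom(I, R / J)` over a two dimensional regular local ring
-/

set_option autoImplicit false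
set_option linter.style.haveILetI false
set_option linter.unusedSectionVars false

universe u

open IsLocalRing InjHull

namespace Groth.Agent.H80.HomIdealLength

variable {R : Type u} [CommRing R]

section Socle

variable [IsDomain R] {x y : R} {N : ℕ}

theorem dvd_of_pow_mul (hx : Prime x) (hy : ¬ x ∣ y) {n m : ℕ} {z : R} (h : x ^ n ∣ y ^ m * z) :
    x ^ n ∣ z :=
  hx.pow_dvd_of_dvd_mul_left n (fun hd => hy (hx.dvd_of_dvd_pow hd)) h

/-- The socle of `R / (x ^ (N + 1), y ^ (N + 1))` is generated by `x ^ N * y ^ N`. -/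
theorem socle_mem (hx : Prime x) (hy : ¬ x ∣ y) {z : R}
    (hxz : x * z ∈ Ideal.span {x ^ (N + 1), y ^ (N + 1)})
    (hyz : y * z ∈ Ideal.span {x ^ (N + 1), y ^ (N + 1)})
    (hgen : ∀ c : R, x ∣ y * c → ∃ d, c = x * d) :
    ∃ r, z - r * (x ^ N * y ^ N) ∈ Ideal.span {x ^ (N + 1), y ^ (N + 1)} := by
  obtain ⟨a, b, hab⟩ := Ideal.mem_span_pair.mp hxz
  obtain ⟨b', rfl⟩ : x ∣ b := by
    have : x ^ 1 ∣ y ^ (N + 1) * b := ⟨z - a * x ^ N, by linear_combination hab⟩
    simpa using dvd_of_pow_mul hx hy this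
  have hz : z = a * x ^ N + b' * y ^ (N + 1) := mul_left_cancel₀ hx.ne_zero (by linear_combination -hab)
  obtain ⟨c, d, hcd⟩ := Ideal.mem_span_pair.mp hyz
  obtain ⟨d', hd⟩ : x ^ N ∣ d - b' * y := by
    refine dvd_of_pow_mul hx hy (m := N + 1) ⟨a * y - c * x, ?_⟩
    rw [hz] at hcd
    linear_combination hcd
  have h1 : y * (a - d' * y ^ N) = c * x := by
    refine mul_left_cancel₀ (pow_ne_zero N hx.ne_zero) ?_
    rw [hz] at hcd
    rw [sub_eq_iff_eq_add] at hd
    subst hd
    linear_combination -hcd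
  obtain ⟨e, he⟩ := hgen _ ⟨c, h1.trans (mul_comm c x)⟩
  refine ⟨d', Ideal.mem_span_pair.mpr ⟨e, b', ?_⟩⟩
  rw [hz]
  rw [sub_eq_iff_eq_add] at he
  subst he
  ring

end Socle

section Length

variable [IsLocalRing R]

/-- A finite length quotient with one dimensional socle embeds into the injective hull as the
torsion submodule. -/
theorem exists_iso_torsion {m : Ideal R} [m.IsMaximal] {E : Type u} [AddCommGroup E] [Module R E]
    {g : (R ⧸ m) →ₗ[R] E} (hg : IsInjectiveHull g) (q : Ideal R) (hq : IsFiniteLength R (R ⧸ q))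
    {φ : (R ⧸ m) →ₗ[R] R ⧸ q} (hφ : IsEssentialInj φ) :
    ∃ α : (R ⧸ q) →ₗ[R] E, Function.Injective α ∧
      ∀ e : E, (∀ c ∈ q, c • e = 0) → ∃ z, α z = e := by
  obtain ⟨α, hα, -⟩ := Lib.InjHull.Basic.exists_extend hφ g hg.injective hg.isInjective
  refine ⟨α, hα, fun e he => ?_⟩
  obtain ⟨_, _⟩ := isFiniteLength_iff_isNoetherian_isArtinian.mp
    (Lib.InjHull.Matlis.isFiniteLength_dual hg hq)
  let c : (R ⧸ q) →ₗ[R] ((R ⧸ q) →ₗ[R] E) :=
    Submodule.liftQ q (LinearMap.toSpanSingleton R _ α) fun r hr => by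
      rw [LinearMap.mem_ker, LinearMap.toSpanSingleton_apply]
      refine LinearMap.ext fun z => ?_
      obtain ⟨z, rfl⟩ := Ideal.Quotient.mk_surjective z
      rw [LinearMap.smul_apply, ← map_smul, LinearMap.zero_apply,
        show r • Ideal.Quotient.mk q z = 0 by
          rw [Algebra.smul_def, Ideal.Quotient.algebraMap_eq, ← map_mul,
            Ideal.Quotient.eq_zero_iff_mem]
          exact Ideal.mul_mem_right _ _ hr, map_zero]
  have hc : Function.Injective c := by
    rw [injective_iff_map_eq_zero]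
    intro a ha
    obtain ⟨a, rfl⟩ := Ideal.Quotient.mk_surjective a
    have h2 : a • α (Ideal.Quotient.mk q 1) = 0 := LinearMap.congr_fun ha _
    rw [← map_smul, map_eq_zero_iff α hα, Algebra.smul_def, map_one, mul_one] at h2
    exact h2
  have hcsurj : Function.Surjective c := by
    rw [← LinearMap.range_eq_top]
    by_contra hne
    have h2 := Submodule.length_lt hne
    rw [← (LinearEquiv.ofInjective c hc).length_eq, Lib.InjHull.Matlis.length_dual hg hq] at h2
    exact lt_irrefl _ h2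
  obtain ⟨a, ha⟩ := hcsurj (Submodule.liftQ q (LinearMap.toSpanSingleton R E e) fun r hr =>
    LinearMap.mem_ker.mpr (he r hr))
  obtain ⟨a, rfl⟩ := Ideal.Quotient.mk_surjective a
  refine ⟨a • Ideal.Quotient.mk q 1, ?_⟩
  have := LinearMap.congr_fun ha (Ideal.Quotient.mk q 1)
  rw [map_smul]
  exact this.trans (one_smul R e)

variable {r₀ r₁ : ℕ} (π : (Fin r₀ → R) →ₗ[R] R) (φ : (Fin r₁ → R) →ₗ[R] (Fin r₀ → R)) (a b : R)

/-- `(u, v, y, t)` with `φ y = a u + b v`, `π u = b t`, `π v = - a t`. -/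
def W : Submodule R ((Fin r₀ → R) × (Fin r₀ → R) × (Fin r₁ → R) × R) where
  carrier := {w | φ w.2.2.1 = a • w.1 + b • w.2.1 ∧ π w.1 = b * w.2.2.2 ∧ π w.2.1 = -(a * w.2.2.2)}
  add_mem' := by
    rintro w w' ⟨h1, h2, h3⟩ ⟨h1', h2', h3'⟩
    refine ⟨?_, ?_, ?_⟩
    · simp only [Prod.fst_add, Prod.snd_add, map_add, h1, h1']
      module
    · simp only [Prod.fst_add, Prod.snd_add, map_add, h2, h2']
      ring
    · simp only [Prod.fst_add, Prod.snd_add, map_add, h3, h3']
      ring
  zero_mem' := by simp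
  smul_mem' := by
    rintro c w ⟨h1, h2, h3⟩
    refine ⟨?_, ?_, ?_⟩
    · simp only [Prod.smul_fst, Prod.smul_snd, map_smul, h1, smul_add, smul_comm c]
    · simp only [Prod.smul_fst, Prod.smul_snd, map_smul, h2, smul_eq_mul]
      ring
    · simp only [Prod.smul_fst, Prod.smul_snd, map_smul, h3, smul_eq_mul]
      ring

variable {π φ a b}

theorem apply_eq_sum (y : Fin r₁ → R) (i : Fin r₀) : φ y i = ∑ k, y k * φ (Pi.single k 1) i := by
  conv_lhs => rw [pi_eq_sum_univ' y]
  simp [Finset.sum_apply]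

/-- The dual of the cokernel of the transposed relation matrix modulo `J` is `(I : J) / I`. -/
theorem length_cokernel (hex : Function.Exact φ π) (hφ : Function.Injective φ) {I J : Ideal R}
    (hI : ∀ z, z ∈ I ↔ ∃ w, π w = z) (haI : a ∈ I) (hbI : b ∈ I) (haJ : a ∈ J) (hbJ : b ∈ J)
    (ha : IsSMulRegular R a) (hab : ∀ z, a ∣ b * z → a ∣ z)
    {m : Ideal R} [m.IsMaximal] {E : Type u} [AddCommGroup E] [Module R E]
    {g : (R ⧸ m) →ₗ[R] E} (hg : IsInjectiveHull g)
    {q : Ideal R} (hq : q = Ideal.span {a, b})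
    (α : (R ⧸ q) →ₗ[R] E) (hα : Function.Injective α)
    (hαs : ∀ e : E, (∀ c ∈ q, c • e = 0) → ∃ z, α z = e)
    (hfl : IsFiniteLength R (R ⧸ J)) :
    Module.length R (((Fin r₁ → R) →ₗ[R] R ⧸ J) ⧸ LinearMap.range (LinearMap.lcomp R (R ⧸ J) φ)) =
      Module.length R (Submodule.map (Submodule.mkQ I) (I.colon J)) := by
  classical
  have hπφ : ∀ y, π (φ y) = 0 := hex.apply_apply_eq_zero
  have hqJ : q ≤ J := hq ▸ Ideal.span_le.mpr (by rintro z (rfl | rfl) <;> assumption)
  -- the kernel of `W → R / I` is that of `W → (R / q) ^ r₁`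
  have key : ∀ w ∈ W π φ a b, w.2.2.2 ∈ I ↔ ∀ k, w.2.2.1 k ∈ q := by
    rintro ⟨u, v, y, t⟩ ⟨h1, h2, h3⟩
    dsimp only at h1 h2 h3 ⊢
    constructor
    · intro ht
      obtain ⟨w, hw⟩ := (hI t).mp ht
      obtain ⟨s, hs⟩ := (hex (u - b • w)).mp (by rw [map_sub, map_smul, h2, hw, smul_eq_mul, sub_self])
      obtain ⟨s', hs'⟩ := (hex (v + a • w)).mp (by
        rw [map_add, map_smul, h3, hw, smul_eq_mul, neg_add_cancel])
      have hy : y = a • s + b • s' := hφ (by
        rw [map_add, map_smul, map_smul, hs, hs', h1]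
        module)
      intro k
      rw [hy]
      exact hq ▸ Ideal.mem_span_pair.mpr ⟨s k, s' k, by simp [mul_comm]⟩
    · intro hy
      choose c d hcd using fun k => Ideal.mem_span_pair.mp (hq ▸ hy k)
      have hy' : y = a • c + b • d := funext fun k => by simp [← hcd k, mul_comm]
      -- `a • (u - φ c) = b • (φ d - v)`
      have h4 : a • (u - φ c) = b • (φ d - v) := by
        rw [hy', map_add, map_smul, map_smul] at h1
        rw [smul_sub, smul_sub]
        linear_combination (norm := module) -h1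
      choose e he using fun i => hab ((φ d - v) i) ⟨(u - φ c) i, by
        have := congr_fun h4 i; simp only [Pi.smul_apply, smul_eq_mul] at this; exact this.symm⟩
      have h5 : π u = b * π e := by
        have hu : u - φ c = b • e := funext fun i => ha (by
          change a * (u - φ c) i = a * (b • e) i
          have := congr_fun h4 i
          simp only [Pi.smul_apply, smul_eq_mul] at this ⊢
          rw [this, he i, mul_left_comm])
        have := congrArg π hu
        rwa [map_sub, map_smul, hπφ, sub_zero, smul_eq_mul] at this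
      have h6 : π v = -(a * π e) := by
        have hv : φ d - v = a • e := funext fun i => he i
        have := congrArg π hv
        rw [map_sub, map_smul, hπφ, zero_sub, smul_eq_mul] at this
        rw [← this, neg_neg]
      refine (hI t).mpr ⟨e, ha ?_⟩
      change a * π e = a * t
      exact neg_inj.mp (h6.symm.trans h3)
  let T : Submodule R ((Fin r₀ → R) × (Fin r₀ → R) × (Fin r₁ → R) × R) :=
    W π φ a b ⊓ Submodule.comap (R₂ := R) (LinearMap.snd R (Fin r₁ → R) R ∘ₗ
      LinearMap.snd R (Fin r₀ → R) ((Fin r₁ → R) × R) ∘ₗ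
      LinearMap.snd R (Fin r₀ → R) ((Fin r₀ → R) × (Fin r₁ → R) × R)) (I.colon (J : Set R) : Submodule R R)
  have hJy : ∀ w ∈ T, ∀ j ∈ J, ∀ k, j * w.2.2.1 k ∈ q := by
    intro w hw j hj k
    have ht : w.2.2.2 * j ∈ I := Submodule.mem_colon.mp hw.2 j hj
    exact (key (j • w) ((W π φ a b).smul_mem j hw.1)).mp (by simpa [mul_comm] using ht) k
  -- the relations defining the cokernel
  let row : Fin r₀ → Fin r₁ → R := fun i k => φ (Pi.single k 1) i
  let N : Submodule R (Fin r₁ → R) :=
    Submodule.pi Set.univ (fun _ => J) ⊔ Submodule.span R (Set.range row)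
  let Q : (Fin r₁ → R) →ₗ[R] ((Fin r₁ → R) →ₗ[R] R ⧸ J) ⧸ LinearMap.range (LinearMap.lcomp R (R ⧸ J) φ) :=
    Submodule.mkQ _ ∘ₗ ((Pi.basisFun R (Fin r₁)).constr R).toLinearMap ∘ₗ
      LinearMap.pi fun k => Submodule.mkQ J ∘ₗ LinearMap.proj k
  have hQ : ∀ r : Fin r₁ → R, ∀ k,
      ((Pi.basisFun R (Fin r₁)).constr R fun k => Submodule.mkQ J (r k)) (Pi.single k 1) =
        Submodule.mkQ J (r k) := fun r k => by
    rw [← Pi.basisFun_apply, Module.Basis.constr_basis]
  have hQs : Function.Surjective Q := by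
    intro c
    obtain ⟨f, rfl⟩ := Submodule.mkQ_surjective _ c
    choose r hr using fun k => Submodule.mkQ_surjective J (f (Pi.single k 1))
    refine ⟨r, congrArg _ ((Pi.basisFun R (Fin r₁)).ext fun k => ?_)⟩
    rw [Pi.basisFun_apply]
    exact (hQ r k).trans (hr k)
  have hQker : LinearMap.ker Q = N := by
    refine le_antisymm (fun r hr => ?_) (sup_le (fun r hr => ?_) ?_)
    · obtain ⟨f, hf⟩ := (Submodule.Quotient.mk_eq_zero _).mp (LinearMap.mem_ker.mp hr)
      choose c hc using fun i => Submodule.mkQ_surjective J (f (Pi.single i 1))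
      have hlift : ∀ k, f (φ (Pi.single k 1)) = Submodule.mkQ J (∑ i, c i * row i k) := by
        intro k
        conv_lhs => rw [pi_eq_sum_univ' (φ (Pi.single k 1))]
        rw [map_sum, map_sum]
        refine Finset.sum_congr rfl fun i _ => ?_
        rw [map_smul, ← hc, ← map_smul, smul_eq_mul, mul_comm]
      have h : r - ∑ i, c i • row i ∈ Submodule.pi Set.univ (fun _ => J) := by
        rw [Submodule.mem_pi]
        intro k _
        refine (Submodule.Quotient.eq J).mp ?_
        have := LinearMap.congr_fun hf (Pi.single k 1)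
        rw [LinearMap.lcomp_apply, hlift] at this
        simp only [Finset.sum_apply, Pi.smul_apply, smul_eq_mul]
        exact (hQ r k).symm.trans this.symm
      rw [← sub_add_cancel r (∑ i, c i • row i)]
      exact add_mem (Submodule.mem_sup_left h) (Submodule.mem_sup_right
        (sum_mem fun i _ => Submodule.smul_mem _ _ (Submodule.subset_span ⟨i, rfl⟩)))
    · refine (Submodule.Quotient.mk_eq_zero _).mpr ⟨0, (map_zero _).trans
        ((Pi.basisFun R (Fin r₁)).ext fun k => ?_)⟩
      rw [Pi.basisFun_apply]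
      refine (LinearMap.zero_apply _).trans ((hQ r k).trans ?_).symm
      exact (Submodule.Quotient.mk_eq_zero J).mpr (Submodule.mem_pi.mp hr k trivial)
    · rw [Submodule.span_le]
      rintro _ ⟨i, rfl⟩
      refine (Submodule.Quotient.mk_eq_zero _).mpr ⟨Submodule.mkQ J ∘ₗ LinearMap.proj i, ?_⟩
      refine (Pi.basisFun R (Fin r₁)).ext fun k => ?_
      rw [Pi.basisFun_apply]
      exact (hQ (row i) k).symm
  let C := (Fin r₁ → R) ⧸ N
  let eC : C ≃ₗ[R] _ := (Submodule.quotEquivOfEq _ _ hQker.symm).trans (Q.quotKerEquivOfSurjective hQs)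
  -- the functional attached to an element of `T`
  let ev : T → ((Fin r₁ → R) →ₗ[R] E) := fun w =>
    (Pi.basisFun R (Fin r₁)).constr R fun k => α (Ideal.Quotient.mk q (w.1.2.2.1 k))
  have hev : ∀ (w : T) r, ev w r = α (Ideal.Quotient.mk q (∑ k, r k * w.1.2.2.1 k)) := by
    intro w r
    conv_lhs => rw [pi_eq_sum_univ' r]
    simp only [map_sum, map_smul, ev]
    refine Finset.sum_congr rfl fun k _ => ?_
    rw [← Pi.basisFun_apply, Module.Basis.constr_basis, ← map_smul, Algebra.smul_def,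
      Ideal.Quotient.algebraMap_eq, ← map_mul]
  have hevN : ∀ w : T, N ≤ LinearMap.ker (ev w) := by
    intro w
    refine sup_le (fun r hr => ?_) ?_
    · rw [LinearMap.mem_ker, hev, map_eq_zero_iff α hα, Ideal.Quotient.eq_zero_iff_mem]
      exact sum_mem fun k _ => hJy _ w.2 _ (Submodule.mem_pi.mp hr k trivial) k
    · rw [Submodule.span_le]
      rintro _ ⟨i, rfl⟩
      rw [SetLike.mem_coe, LinearMap.mem_ker, hev, map_eq_zero_iff α hα, Ideal.Quotient.eq_zero_iff_mem]
      have h := congr_fun w.2.1.1 i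
      rw [apply_eq_sum] at h
      simp only [Pi.add_apply, Pi.smul_apply, smul_eq_mul] at h
      rw [show ∑ k, row i k * w.1.2.2.1 k = a * w.1.1 i + b * w.1.2.1 i by
        rw [← h]; exact Finset.sum_congr rfl fun k _ => mul_comm _ _]
      rw [hq]
      exact add_mem (Ideal.mul_mem_right _ _ (Ideal.subset_span (Or.inl rfl)))
        (Ideal.mul_mem_right _ _ (Ideal.subset_span (Or.inr rfl)))
  let Ξ : T →ₗ[R] (C →ₗ[R] E) :=
    { toFun := fun w => N.liftQ (ev w) (hevN w)
      map_add' := fun w w' => Submodule.linearMap_qext N (LinearMap.ext fun r => by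
        change ev (w + w') r = ev w r + ev w' r
        simp only [hev, Submodule.coe_add, Prod.fst_add, Prod.snd_add, Pi.add_apply, mul_add,
          Finset.sum_add_distrib, map_add])
      map_smul' := fun c w => Submodule.linearMap_qext N (LinearMap.ext fun r => by
        change ev (c • w) r = c • ev w r
        simp only [hev, Submodule.coe_smul, Prod.smul_fst, Prod.smul_snd, Pi.smul_apply, smul_eq_mul,
          ← map_smul]
        congr 1
        rw [Algebra.smul_def, Ideal.Quotient.algebraMap_eq, ← map_mul, Finset.mul_sum]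
        exact congrArg _ (Finset.sum_congr rfl fun k _ => by ring)) }
  let σ : T →ₗ[R] (Submodule.map (Submodule.mkQ I) (I.colon J)) :=
    LinearMap.codRestrict _ (Submodule.mkQ I ∘ₗ LinearMap.snd R _ _ ∘ₗ LinearMap.snd R _ _ ∘ₗ
      LinearMap.snd R _ _ ∘ₗ T.subtype) fun w => Submodule.mem_map_of_mem (f := Submodule.mkQ I) (Submodule.mem_comap.mp w.2.2)
  have hker : LinearMap.ker Ξ = LinearMap.ker σ := by
    ext w
    rw [LinearMap.mem_ker, LinearMap.mem_ker, ← Subtype.val_inj]
    change N.liftQ (ev w) (hevN w) = 0 ↔ Submodule.Quotient.mk w.1.2.2.2 = 0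
    rw [Submodule.Quotient.mk_eq_zero, key _ w.2.1]
    constructor
    · intro h k
      have h' : ev w (Pi.single k 1) = 0 :=
        LinearMap.congr_fun h (Submodule.Quotient.mk (Pi.single k 1))
      rw [hev, map_eq_zero_iff α hα, Ideal.Quotient.eq_zero_iff_mem] at h'
      simpa [Pi.single_apply] using h'
    · intro h
      refine Submodule.linearMap_qext N (LinearMap.ext fun r => ?_)
      change ev w r = 0
      rw [hev, map_eq_zero_iff α hα, Ideal.Quotient.eq_zero_iff_mem]
      exact sum_mem fun k _ => Ideal.mul_mem_left _ _ (h k)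
  have hdiv : ∀ z ∈ I, ∃ u, π u = z := fun z hz => (hI z).mp hz
  have hσ : Function.Surjective σ := by
    rintro ⟨_, t, ht, rfl⟩
    obtain ⟨u, hu⟩ := hdiv (b * t) (Ideal.mul_mem_right _ _ hbI)
    obtain ⟨v, hv⟩ := hdiv (-(a * t)) (neg_mem (Ideal.mul_mem_right _ _ haI))
    obtain ⟨y, hy⟩ := (hex (a • u + b • v)).mp (by
      rw [map_add, map_smul, map_smul, hu, hv, smul_eq_mul, smul_eq_mul]; ring)
    exact ⟨⟨⟨u, v, y, t⟩, ⟨hy, hu, hv⟩, ht⟩, rfl⟩
  have hΞ : Function.Surjective Ξ := by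
    intro ξ
    have hq0 : ∀ k, ∀ c ∈ q, c • ξ (Submodule.Quotient.mk (Pi.single k 1)) = 0 := by
      intro k c hc
      rw [← map_smul, ← Submodule.Quotient.mk_smul, (Submodule.Quotient.mk_eq_zero N).mpr ?_, map_zero]
      refine Submodule.mem_sup_left (Submodule.mem_pi.mpr fun l _ => ?_)
      rw [Pi.smul_apply, smul_eq_mul]
      exact Ideal.mul_mem_right _ _ (hqJ hc)
    choose z hz using fun k => hαs _ (hq0 k)
    choose y hy using fun k => Ideal.Quotient.mk_surjective (z k)
    have hrel : ∀ r ∈ N, ∑ k, r k * y k ∈ q := by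
      intro r hr
      have h0 : ξ (Submodule.Quotient.mk r) = 0 := by
        rw [(Submodule.Quotient.mk_eq_zero N).mpr hr, map_zero]
      rw [← Ideal.Quotient.eq_zero_iff_mem, ← map_eq_zero_iff α hα, ← h0]
      conv_rhs => rw [pi_eq_sum_univ' r]
      change _ = ξ (Submodule.mkQ N _)
      simp only [map_sum, map_smul]
      refine Finset.sum_congr rfl fun k _ => ?_
      rw [Submodule.mkQ_apply, ← hz, ← hy, ← map_smul, Algebra.smul_def, Ideal.Quotient.algebraMap_eq,
        ← map_mul]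
    choose u v huv using fun i => Ideal.mem_span_pair.mp
      (hq ▸ hrel _ (Submodule.mem_sup_right (Submodule.subset_span ⟨i, rfl⟩)))
    have h1 : φ y = a • u + b • v := funext fun i => by
      rw [apply_eq_sum, Pi.add_apply, Pi.smul_apply, Pi.smul_apply, smul_eq_mul, smul_eq_mul,
        mul_comm a, mul_comm b, huv]
      exact Finset.sum_congr rfl fun k _ => mul_comm _ _
    have h0 : a * π u + b * π v = 0 := by
      have := congrArg π h1
      rw [hπφ, map_add, map_smul, map_smul, smul_eq_mul, smul_eq_mul] at this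
      exact this.symm
    obtain ⟨s, hs⟩ := hab (π v) ⟨-π u, by linear_combination h0⟩
    have h2 : π u = b * (-s) := ha (by
      change a * π u = a * (b * -s)
      linear_combination h0 - b * hs)
    have h3 : π v = -(a * (-s)) := by rw [hs]; ring
    have hw : (⟨u, v, y, -s⟩ : _ × _ × _ × R) ∈ W π φ a b := ⟨h1, h2, h3⟩
    refine ⟨⟨_, hw, Submodule.mem_colon.mpr fun j hj => ?_⟩, ?_⟩
    · rw [smul_eq_mul, mul_comm]
      refine (key _ ((W π φ a b).smul_mem j hw)).mpr fun k => ?_
      have hmem : j • (Pi.single k 1 : Fin r₁ → R) ∈ N := by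
        refine Submodule.mem_sup_left (Submodule.mem_pi.mpr fun l _ => ?_)
        rw [Pi.smul_apply, smul_eq_mul]
        exact Ideal.mul_mem_right _ _ hj
      simpa [Pi.single_apply, mul_ite, ite_mul] using hrel _ hmem
    · refine Submodule.linearMap_qext N ((Pi.basisFun R (Fin r₁)).ext fun k => ?_)
      rw [Pi.basisFun_apply]
      change ev _ (Pi.single k 1) = ξ _
      rw [hev, Submodule.mkQ_apply, ← hz, ← hy]
      simp [Pi.single_apply]
  let e := ((Ξ.quotKerEquivOfSurjective hΞ).symm.trans (Submodule.quotEquivOfEq _ _ hker)).trans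
    (σ.quotKerEquivOfSurjective hσ)
  rw [← eC.length_eq, ← e.length_eq, Lib.InjHull.Matlis.length_dual hg]
  have hC : Function.Surjective (Submodule.mkQ N) := Submodule.mkQ_surjective N
  have hle : Submodule.pi Set.univ (fun _ => J) ≤ N := le_sup_left
  have hflpi : IsFiniteLength R (Fin r₁ → R ⧸ J) := by
    obtain ⟨_, _⟩ := isFiniteLength_iff_isNoetherian_isArtinian.mp hfl
    exact isFiniteLength_iff_isNoetherian_isArtinian.mpr ⟨inferInstance, inferInstance⟩
  let p : (Fin r₁ → R) →ₗ[R] (Fin r₁ → R ⧸ J) := LinearMap.pi fun k => J.mkQ ∘ₗ LinearMap.proj k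
  have hp : Function.Surjective p := fun z => by
    choose r hr using fun k => Submodule.mkQ_surjective J (z k)
    exact ⟨r, funext hr⟩
  have hpker : LinearMap.ker p ≤ LinearMap.ker (Submodule.mkQ N) := by
    intro r hr
    rw [Submodule.ker_mkQ]
    exact hle (Submodule.mem_pi.mpr fun k _ => (Submodule.Quotient.mk_eq_zero J).mp (congr_fun hr k))
  refine (Module.length_ne_top_iff).mp (ne_top_of_le_ne_top (Module.length_ne_top_iff.mpr hflpi)
    (Module.length_le_of_surjective
      ((LinearMap.ker p).liftQ _ hpker ∘ₗ (p.quotKerEquivOfSurjective hp).symm.toLinearMap) ?_))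
  intro z
  obtain ⟨r, rfl⟩ := hC z
  refine ⟨p r, ?_⟩
  simp only [LinearMap.comp_apply, LinearEquiv.coe_coe, LinearMap.quotKerEquivOfSurjective_symm_apply, Submodule.liftQ_apply]

end Length

set_option backward.isDefEq.respectTransparency false in
theorem main [IsRegularLocalRing R] (hdim : ringKrullDim R = 2) (I J : Ideal R)
    (hI : Module.length R (R ⧸ I) < ⊤) (hJ : Module.length R (R ⧸ J) < ⊤) :
    Module.length R (↥I →ₗ[R] (R ⧸ J)) + Module.length R (R ⧸ I.colon J) =
      Module.length R (R ⧸ J) + Module.length R (R ⧸ I) := by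
  classical
  haveI : IsDomain R := Lib.Regular.Quotient.isDomain R
  have hfin : ∀ K : Ideal R, Module.length R (R ⧸ K) < ⊤ → IsFiniteLength R (R ⧸ K) := fun K hK =>
    Module.length_ne_top_iff.mp hK.ne
  have hpow : ∀ K : Ideal R, Module.length R (R ⧸ K) < ⊤ → ∃ n, maximalIdeal R ^ n ≤ K := by
    intro K hK
    obtain ⟨_, _⟩ := isFiniteLength_iff_isNoetherian_isArtinian.mp (hfin K hK)
    haveI : IsArtinianRing (R ⧸ K) := isArtinian_of_tower R inferInstance
    exact IsLocalRing.exists_maximalIdeal_pow_le_of_isArtinianRing_quotient K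
  obtain ⟨nI, hnI⟩ := hpow I hI
  obtain ⟨nJ, hnJ⟩ := hpow J hJ
  -- a regular system of parameters
  have h2 : (maximalIdeal R).spanFinrank = 2 := by
    have := IsRegularLocalRing.spanFinrank_maximalIdeal (R := R)
    rw [hdim] at this
    exact_mod_cast this
  obtain ⟨x, hxm, hx2⟩ := Lib.Regular.Serre.exists_notMem_sq (R := R) (by omega)
  obtain ⟨hreg, -, -⟩ := Lib.Regular.Quotient.quotient_singleton hxm hx2
  haveI := hreg
  haveI : IsDomain (R ⧸ Ideal.span {x}) := Lib.Regular.Quotient.isDomain _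
  have hx0 : x ≠ 0 := fun e => hx2 (e ▸ Ideal.zero_mem _)
  have hxp : Prime x := (Ideal.span_singleton_prime hx0).mp ((Ideal.Quotient.isDomain_iff_prime _).mp ‹_›)
  obtain ⟨t, ht, htc⟩ := Lib.Regular.Quotient.exists_gens_of_notMem_sq hxm hx2
  obtain ⟨y, rfl⟩ : ∃ y, t = {y} := Finset.card_eq_one.mp (by omega)
  have hspan : maximalIdeal R = Ideal.span {x, y} := by
    rw [← ht]; simp [Set.pair_comm]
  have hxy : ¬ x ∣ y := by
    intro h
    have hle : maximalIdeal R = Ideal.span {x} := by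
      rw [hspan]
      exact le_antisymm (Ideal.span_le.mpr (by
        rintro z (rfl | rfl)
        · exact Ideal.mem_span_singleton_self _
        · exact Ideal.mem_span_singleton.mpr h)) (Ideal.span_mono (by simp))
    have := Submodule.spanFinrank_span_le_ncard_of_finite (R := R) (Set.finite_singleton x)
    rw [← Ideal.span, ← hle, h2, Set.ncard_singleton] at this
    omega
  obtain ⟨N, hN⟩ : ∃ N, N = nI + nJ := ⟨_, rfl⟩
  have hmemI : ∀ z ∈ maximalIdeal R, z ^ (N + 1) ∈ I := fun z hz =>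
    hnI (Ideal.pow_le_pow_right (by omega) (Ideal.pow_mem_pow hz _))
  have hmemJ : ∀ z ∈ maximalIdeal R, z ^ (N + 1) ∈ J := fun z hz =>
    hnJ (Ideal.pow_le_pow_right (by omega) (Ideal.pow_mem_pow hz _))
  have hym : y ∈ maximalIdeal R := hspan ▸ Ideal.subset_span (Or.inr rfl)
  set q := Ideal.span {x ^ (N + 1), y ^ (N + 1)} with hq
  -- `R / q` has finite length
  have hqpow : maximalIdeal R ^ (2 * N + 2) ≤ q := by
    rw [hspan, Ideal.span_insert]
    rw [show 2 * N + 2 = (N + 1) + (N + 1) by omega]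
    refine Ideal.sup_pow_add_le_pow_sup_pow.trans ?_
    rw [Ideal.span_singleton_pow, Ideal.span_singleton_pow, hq, Ideal.span_insert]
  have hflq : IsFiniteLength R (R ⧸ q) := by
    refine isFiniteLength_iff_isNoetherian_isArtinian.mpr ⟨inferInstance, ?_⟩
    haveI : Nontrivial (R ⧸ q) := Ideal.Quotient.nontrivial_iff.mpr fun h => by
      have hle : q ≤ maximalIdeal R := Ideal.span_le.mpr (by
        rintro z (rfl | rfl)
        · exact Ideal.pow_mem_of_mem _ hxm _ (by omega)
        · exact Ideal.pow_mem_of_mem _ hym _ (by omega))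
      exact (maximalIdeal.isMaximal R).ne_top (top_le_iff.mp (h ▸ hle))
    haveI := IsLocalRing.of_surjective' (Ideal.Quotient.mk q) Ideal.Quotient.mk_surjective
    haveI := IsLocalHom.of_surjective (Ideal.Quotient.mk q) Ideal.Quotient.mk_surjective
    haveI : IsArtinianRing (R ⧸ q) := (isArtinianRing_iff_isNilpotent_maximalIdeal _).mpr
      ⟨2 * N + 2, le_bot_iff.mp fun z hz => by
        rw [← IsLocalRing.map_maximalIdeal_of_surjective (Ideal.Quotient.mk q) Ideal.Quotient.mk_surjective,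
          ← Ideal.map_pow] at hz
        have := Ideal.map_mono hqpow hz
        rwa [Ideal.map_quotient_self] at this⟩
    exact isArtinian_of_surjective_algebraMap (R := R ⧸ q) (S := R) Ideal.Quotient.mk_surjective
  -- its socle is simple
  have hsoc : x ^ N * y ^ N ∉ q := by
    intro h
    obtain ⟨c, d, hcd⟩ := Ideal.mem_span_pair.mp h
    obtain ⟨d', rfl⟩ : x ^ N ∣ d :=
      dvd_of_pow_mul hxp hxy (m := N + 1) ⟨y ^ N - c * x, by linear_combination hcd⟩
    have h2 : y ^ N * (1 - d' * y) = c * x := by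
      refine mul_left_cancel₀ (pow_ne_zero N hx0) ?_
      linear_combination -hcd
    have h3 : x ∣ 1 - d' * y := by
      simpa using dvd_of_pow_mul hxp hxy (n := 1) (m := N) ⟨c, by rw [h2, pow_one, mul_comm]⟩
    refine (maximalIdeal.isMaximal R).ne_top ((Ideal.eq_top_iff_one _).mpr ?_)
    rw [show (1 : R) = (1 - d' * y) + d' * y by ring]
    exact add_mem (Ideal.mem_of_dvd _ h3 hxm) (Ideal.mul_mem_left _ _ hym)
  have hsm : ∀ c ∈ maximalIdeal R, c * (x ^ N * y ^ N) ∈ q := by
    intro c hc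
    rw [hspan] at hc
    obtain ⟨u, v, rfl⟩ := Ideal.mem_span_pair.mp hc
    exact Ideal.mem_span_pair.mpr ⟨u * y ^ N, v * x ^ N, by ring⟩
  let s : (R ⧸ maximalIdeal R) →ₗ[R] R ⧸ q :=
    Submodule.liftQ (maximalIdeal R) (LinearMap.toSpanSingleton R _ (Ideal.Quotient.mk q (x ^ N * y ^ N)))
      fun c hc => by
        rw [LinearMap.mem_ker, LinearMap.toSpanSingleton_apply, Algebra.smul_def,
          Ideal.Quotient.algebraMap_eq, ← map_mul, Ideal.Quotient.eq_zero_iff_mem]
        exact hsm c hc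
  have hs_apply : ∀ c : R, s (Submodule.Quotient.mk c) = Ideal.Quotient.mk q (c * (x ^ N * y ^ N)) := by
    intro c
    rw [Submodule.liftQ_apply, LinearMap.toSpanSingleton_apply, Algebra.smul_def,
      Ideal.Quotient.algebraMap_eq, map_mul, map_mul, map_mul]
  have hs : IsEssentialInj s := by
    refine (Lib.InjHull.Basic.isEssentialInj_iff s).mpr ⟨?_, fun z hz => ?_⟩
    · rw [injective_iff_map_eq_zero]
      intro c hc
      obtain ⟨c, rfl⟩ := Submodule.Quotient.mk_surjective _ c
      rw [hs_apply, Ideal.Quotient.eq_zero_iff_mem] at hc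
      refine (Submodule.Quotient.mk_eq_zero _).mpr ?_
      by_contra hcm
      exact hsoc ((Ideal.unit_mul_mem_iff_mem _ (notMem_maximalIdeal.mp hcm)).mp hc)
    · obtain ⟨z, rfl⟩ := Ideal.Quotient.mk_surjective z
      have hz' : z ∉ q := fun h => hz (Ideal.Quotient.eq_zero_iff_mem.mpr h)
      have hex : ∃ k, ∀ c ∈ maximalIdeal R ^ k, c * z ∈ q :=
        ⟨2 * N + 2, fun c hc => Ideal.mul_mem_right _ _ (hqpow hc)⟩
      have hk0 : Nat.find hex ≠ 0 := fun h => hz' (by simpa using Nat.find_spec hex 1 (by rw [h]; simp))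
      obtain ⟨k, hk⟩ := Nat.exists_eq_succ_of_ne_zero hk0
      obtain ⟨c, hc, hcz⟩ : ∃ c ∈ maximalIdeal R ^ k, c * z ∉ q := by
        have := Nat.find_min hex (m := k) (by omega)
        push Not at this
        exact this
      have hkill : ∀ d ∈ maximalIdeal R, d * (c * z) ∈ q := by
        intro d hd
        rw [← mul_assoc]
        refine Nat.find_spec hex (d * c) ?_
        rw [hk, pow_succ']
        exact Ideal.mul_mem_mul hd hc
      obtain ⟨e, he⟩ := socle_mem hxp hxy (hkill x hxm) (hkill y hym)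
        (fun w hw => (hxp.dvd_or_dvd hw).resolve_left hxy)
      refine ⟨c, fun h => hcz (Ideal.Quotient.eq_zero_iff_mem.mp ?_), Submodule.Quotient.mk e, ?_⟩
      · rw [map_mul, ← Ideal.Quotient.algebraMap_eq, ← Algebra.smul_def]
        exact h
      · rw [hs_apply, Algebra.smul_def, Ideal.Quotient.algebraMap_eq, ← map_mul, eq_comm,
          Ideal.Quotient.eq]
        exact he
  obtain ⟨E, _, _, g, hg⟩ := Lib.InjHull.Basic.exists_hull (R := R) (R ⧸ maximalIdeal R)
  obtain ⟨α, hα, hαs⟩ := exists_iso_torsion hg q hflq hs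
  -- the resolution
  obtain ⟨r₀, π₀, hπ₀⟩ := Module.Finite.exists_fin' R I
  have hpd : Lib.Regular.PD.PDle R I 1 := by
    have := Lib.Regular.Serre.pdle_all (R := R) (R ⧸ I)
    rw [h2] at this
    exact Lib.Regular.PD.pdle_of_equiv (LinearEquiv.ofEq _ _ (Submodule.ker_mkQ I))
      ((Lib.Regular.PD.pdle_succ_iff (Submodule.mkQ_surjective I) 1).mp this)
  haveI : Module.Projective R (LinearMap.ker π₀) :=
    Lib.Regular.PD.pdle_zero_iff.mp ((Lib.Regular.PD.pdle_succ_iff hπ₀ 0).mp hpd)
  haveI : Module.Free R (LinearMap.ker π₀) := Module.free_of_flat_of_isLocalRing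
  obtain ⟨r₁, ⟨B⟩⟩ : ∃ r, Nonempty (Module.Basis (Fin r) R (LinearMap.ker π₀)) :=
    ⟨_, ⟨Module.finBasis R _⟩⟩
  let φ : (Fin r₁ → R) →ₗ[R] (Fin r₀ → R) := (LinearMap.ker π₀).subtype ∘ₗ B.equivFun.symm.toLinearMap
  have hφi : Function.Injective φ := Subtype.val_injective.comp B.equivFun.symm.injective
  have hex : Function.Exact φ π₀ := fun w => ⟨fun hw => ⟨B.equivFun ⟨w, hw⟩, by simp [φ]⟩, by
    rintro ⟨v, rfl⟩
    exact LinearMap.mem_ker.mp (B.equivFun.symm v).2⟩
  have hIne : I ≠ ⊥ := fun h => by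
    have := hmemI x hxm
    rw [h, Ideal.mem_bot] at this
    exact pow_ne_zero _ hx0 this
  have hr : r₀ = r₁ + 1 := by
    have h1 : Module.finrank R I = 1 := by
      refine le_antisymm ((Submodule.finrank_le I).trans_eq (Module.finrank_self R)) ?_
      haveI : Nontrivial I := Submodule.nontrivial_iff_ne_bot.mpr hIne
      exact Module.finrank_pos
    have h3 := Submodule.finrank_quotient_add_finrank (R := R) (LinearMap.ker π₀)
    rw [(π₀.quotKerEquivOfSurjective hπ₀).finrank_eq, h1, Module.finrank_eq_card_basis B,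
      Module.finrank_fin_fun, Fintype.card_fin] at h3
    omega
  let π : (Fin r₀ → R) →ₗ[R] R := I.subtype ∘ₗ π₀
  have hexπ : Function.Exact φ π := fun w => by
    rw [← hex w]
    simp [π]
  have hc := length_cokernel (π := π) (φ := φ) (a := x ^ (N + 1)) (b := y ^ (N + 1)) hexπ hφi
    (I := I) (J := J) (fun z => ⟨fun hz => ⟨(hπ₀ ⟨z, hz⟩).choose, by
      simp [π, (hπ₀ ⟨z, hz⟩).choose_spec]⟩, by rintro ⟨w, rfl⟩; exact (π₀ w).2⟩)
    (hmemI x hxm) (hmemI y hym) (hmemJ x hxm) (hmemJ y hym)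
    (fun z w h => mul_left_cancel₀ (pow_ne_zero _ hx0) h)
    (fun z hz => dvd_of_pow_mul hxp hxy hz) hg hq α hα hαs (hfin J hJ)
  -- counting
  obtain ⟨hinj', hex'⟩ := Lib.InjHull.Matlis.exact_dual (E := R ⧸ J) hex hπ₀
  set L := LinearMap.range (LinearMap.lcomp R (R ⧸ J) φ) with hL
  let T := LinearMap.ker (LinearMap.lcomp R (R ⧸ J) φ)
  have e1 := Module.length_eq_add_of_exact (R := R) (M := (Fin r₀ → R) →ₗ[R] R ⧸ J)
    (N := T) (P := ((Fin r₀ → R) →ₗ[R] R ⧸ J) ⧸ T) (Submodule.subtype T) (Submodule.mkQ T)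
    (Submodule.injective_subtype T) (Submodule.mkQ_surjective T) (LinearMap.exact_subtype_mkQ T)
  have eA : (↥I →ₗ[R] R ⧸ J) ≃ₗ[R] T :=
    (LinearEquiv.ofInjective (LinearMap.lcomp R (R ⧸ J) π₀) hinj').trans
      (LinearEquiv.ofEq _ T (LinearMap.exact_iff.mp hex').symm)
  have eB : (((Fin r₀ → R) →ₗ[R] R ⧸ J) ⧸ T) ≃ₗ[R] L :=
    LinearMap.quotKerEquivRange (LinearMap.lcomp R (R ⧸ J) φ)
  have hA := LinearEquiv.length_eq (R := R) (M := ↥I →ₗ[R] R ⧸ J) (N := ↥T) eA
  have hB := LinearEquiv.length_eq (R := R) (M := ((Fin r₀ → R) →ₗ[R] R ⧸ J) ⧸ T) (N := ↥L) eB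
  rw [← hA, hB] at e1
  have e2 := Module.length_eq_add_of_exact (R := R) (M := (Fin r₁ → R) →ₗ[R] R ⧸ J)
    (N := L) (P := ((Fin r₁ → R) →ₗ[R] R ⧸ J) ⧸ L) (Submodule.subtype L) (Submodule.mkQ L)
    (Submodule.injective_subtype L) (Submodule.mkQ_surjective L) (LinearMap.exact_subtype_mkQ L)
  have hhom : ∀ r : ℕ, Module.length R ((Fin r → R) →ₗ[R] R ⧸ J) = r * Module.length R (R ⧸ J) := by
    intro r
    rw [← ((Pi.basisFun R (Fin r)).constr R).length_eq, Module.length_pi]
    simp
  rw [hhom] at e1 e2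
  rw [hc] at e2
  let K := Submodule.map (Submodule.mkQ I) (I.colon J)
  have hIle : I ≤ I.colon J := fun z hz => Submodule.mem_colon.mpr fun j _ => Ideal.mul_mem_right _ _ hz
  have e3 := Module.length_eq_add_of_exact K.subtype K.mkQ K.injective_subtype
    (Submodule.mkQ_surjective _) (LinearMap.exact_subtype_mkQ _)
  rw [(Submodule.quotientQuotientEquivQuotient I (I.colon J) hIle).length_eq] at e3
  rw [hr, Nat.cast_add, Nat.cast_one, add_mul, one_mul] at e1
  have hl := hJ.ne
  have hi := hI.ne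
  have htop : (r₁ : ℕ∞) * Module.length R (R ⧸ J) ≠ ⊤ :=
    WithTop.mul_ne_top (ENat.natCast_ne_top _) hl
  have htop' : (r₁ : ℕ∞) * Module.length R (R ⧸ J) + Module.length R (R ⧸ J) ≠ ⊤ :=
    WithTop.add_ne_top.mpr ⟨htop, hl⟩
  rw [e1] at htop'
  obtain ⟨h4, h5⟩ := WithTop.add_ne_top.mp htop'
  rw [e2] at htop
  obtain ⟨-, h7⟩ := WithTop.add_ne_top.mp htop
  rw [e3] at hi
  obtain ⟨-, h9⟩ := WithTop.add_ne_top.mp hi
  rw [e3]
  generalize Module.length R (R ⧸ J) = l, Module.length R (↥I →ₗ[R] R ⧸ J) = H, Module.length R L = Ll,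
    Module.length R (R ⧸ I.colon J) = cc, Module.length R K = kk at *
  lift l to ℕ using hl
  lift H to ℕ using h4
  lift Ll to ℕ using h5
  lift cc to ℕ using h9
  lift kk to ℕ using h7
  norm_cast at *
  omega

end Groth.Agent.H80.HomIdealLength
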