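import Mathlib.Algebra.Module.Injective
import Mathlib.RingTheory.Flat.Basic
import Mathlib.RingTheory.Ideal.AssociatedPrime.Finiteness
import Mathlib.RingTheory.Localization.AtPrime.Basic
import Mathlib.RingTheory.Localization.Ideal
import Mathlib.LinearAlgebra.TensorProduct.RightExactness
import Mathlib.LinearAlgebra.TensorProduct.Pi
import Mathlib.RingTheory.Noetherian.Basic

/-!
# Injective modules and flat unramified base change
-/

set_option autoImplicit false
set_option backward.isDefEq.respectTransparency false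
universe u v

open TensorProduct

namespace Groth.Agent.H80.InjUnram

/-- Over a Noetherian ring it suffices to extend maps from primes, up to an element outside the prime. -/
theorem baer_of_primes {B : Type u} [CommRing B] [IsNoetherianRing B] {M : Type v} [AddCommGroup M]
    [Module B M]
    (h : ∀ (q : Ideal B), q.IsPrime → ∀ f : q →ₗ[B] M, ∃ s : B, s ∉ q ∧ ∃ m : M, ∀ r : q,
      s • f r = (r : B) • m) : Module.Baer B M := by
  intro J g
  let S : Set (Ideal B) := {J' | J ≤ J' ∧ ∃ g' : J' →ₗ[B] M, ∀ (x : B) (hx : x ∈ J) (hx' : x ∈ J'),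
    g' ⟨x, hx'⟩ = g ⟨x, hx⟩}
  obtain ⟨J', ⟨hle, g', hg'⟩, hmax⟩ := set_has_maximal_iff_noetherian.mpr inferInstance S
    ⟨J, le_rfl, g, fun _ _ _ => rfl⟩
  suffices htop : J' = ⊤ by
    subst htop
    exact ⟨g' ∘ₗ Submodule.topEquiv.symm.toLinearMap, fun x hx => hg' x hx trivial⟩
  by_contra hne
  have : Nontrivial (B ⧸ J') := Submodule.Quotient.nontrivial_iff.mpr hne
  obtain ⟨q, hq⟩ := associatedPrimes.nonempty B (B ⧸ J')
  obtain ⟨hqp, z, hz⟩ := isAssociatedPrime_iff.mp hq
  obtain ⟨b, rfl⟩ := Submodule.mkQ_surjective J' z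
  have hqb : ∀ r : B, r ∈ q ↔ r * b ∈ J' := fun r => by
    rw [hz, Submodule.mem_colon_singleton, Submodule.mem_bot, ← map_smul, Submodule.mkQ_apply,
      Submodule.Quotient.mk_eq_zero, smul_eq_mul]
  let f : q →ₗ[B] M :=
    g' ∘ₗ ((LinearMap.mulRight B b).comp q.subtype).codRestrict J' (fun r => (hqb r.1).1 r.2)
  obtain ⟨s, hs, m, hm⟩ := h q hqp f
  let b' := s * b
  have hb' : b' ∉ J' := fun hb => hs ((hqb s).2 hb)
  have hker : ∀ r : B, r * b' ∈ J' → ∀ hr' : r * b' ∈ J', g' ⟨r * b', hr'⟩ = r • m := by
    intro r hr hr'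
    have hrs : r * s ∈ q := (hqb _).2 (by rw [mul_assoc]; exact hr)
    have hrq : r ∈ q := (hqp.mem_or_mem hrs).resolve_right hs
    rw [← show (⟨r, hrq⟩ : q).1 • m = r • m from rfl, ← hm, ← map_smul]
    show g' _ = g' (((LinearMap.mulRight B b).comp q.subtype).codRestrict J' _ (s • ⟨r, hrq⟩))
    congr 1
    refine Subtype.ext ?_
    show r * (s * b) = s * r * b
    ring
  let φ : (J' × B) →ₗ[B] M := g'.coprod (LinearMap.toSpanSingleton B M m)
  let π : (J' × B) →ₗ[B] B := J'.subtype.coprod (LinearMap.toSpanSingleton B B b')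
  have hkk : LinearMap.ker π ≤ LinearMap.ker φ := by
    rintro ⟨x, r⟩ hxr
    have h1 : (x : B) + r * b' = 0 := by
      simpa [π, LinearMap.toSpanSingleton_apply] using hxr
    have h2 : r * b' ∈ J' := by
      rw [eq_neg_of_add_eq_zero_right h1]; exact neg_mem x.2
    have h3 : (⟨r * b', h2⟩ : J') = -x := Subtype.ext (eq_neg_of_add_eq_zero_right h1)
    show g' x + r • m = 0
    rw [← hker r h2 h2, h3, map_neg, add_neg_cancel]
  let g'' : LinearMap.range π →ₗ[B] M :=
    (LinearMap.ker π).liftQ φ hkk ∘ₗ π.quotKerEquivRange.symm.toLinearMap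
  have hg'' : ∀ t, g'' ⟨π t, LinearMap.mem_range_self π t⟩ = φ t := fun t => by
    show (LinearMap.ker π).liftQ φ hkk (π.quotKerEquivRange.symm _) = _
    rw [LinearMap.quotKerEquivRange_symm_apply_image π t (LinearMap.mem_range_self π t)]
    rfl
  have hle' : J' ≤ LinearMap.range π := fun x hx => ⟨(⟨x, hx⟩, 0), by simp [π]⟩
  refine hmax (LinearMap.range π) ⟨hle.trans hle', g'', fun x hx hx' => ?_⟩
    (lt_of_le_of_ne hle' fun he => hb' (he ▸ ⟨((0 : J'), (1 : B)), by simp [π]⟩))
  have e : (⟨x, hx'⟩ : LinearMap.range π) =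
      ⟨π (⟨x, hle hx⟩, 0), LinearMap.mem_range_self π _⟩ := Subtype.ext (by simp [π])
  rw [e, hg'']
  simpa [φ] using hg' x hx (hle hx)

variable {A B : Type u} [CommRing A] [CommRing B] [Algebra A B] [IsNoetherianRing A]
  [Module.Flat A B] (I : Type u) [AddCommGroup I] [Module A I] [Module.Injective A I]

/-- Compatible values on generators come from one element. -/
theorem exists_common {k : ℕ} (a : Fin k → A) (y : Fin k → B ⊗[A] I)
    (hy : ∀ c : Fin k → A, ∑ j, c j * a j = 0 → ∑ j, c j • y j = 0) :
    ∃ m : B ⊗[A] I, ∀ j, a j • m = y j := by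
  classical
  let ev : (Fin k → A) →ₗ[A] A := Fintype.linearCombination A a
  obtain ⟨l, rel, hrel⟩ := Submodule.fg_iff_exists_fin_generating_family.1
    (IsNoetherian.noetherian (LinearMap.ker ev))
  let D : I →ₗ[A] (Fin k → I) := LinearMap.pi fun j => a j • LinearMap.id
  let R : (Fin k → I) →ₗ[A] (Fin l → I) :=
    LinearMap.pi fun i => ∑ j, rel i j • LinearMap.proj j
  have hex : Function.Exact D R := by
    intro t
    constructor
    · intro ht
      let L : (Fin k → A) →ₗ[A] I := Fintype.linearCombination A t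
      have hker : LinearMap.ker ev ≤ LinearMap.ker L := by
        rw [← hrel, Submodule.span_le]
        rintro _ ⟨i, rfl⟩
        have := congrFun ht i
        simpa [R, L, Fintype.linearCombination_apply] using this
      let g : LinearMap.range ev →ₗ[A] I :=
        (LinearMap.ker ev).liftQ L hker ∘ₗ ev.quotKerEquivRange.symm.toLinearMap
      obtain ⟨G, hG⟩ := Module.Injective.out (LinearMap.range ev).subtype
        (LinearMap.range ev).injective_subtype g
      refine ⟨G 1, funext fun j => ?_⟩
      have h1 : g ⟨ev (Pi.single j 1), LinearMap.mem_range_self ev _⟩ = t j := by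
        show (LinearMap.ker ev).liftQ L hker (ev.quotKerEquivRange.symm _) = _
        rw [LinearMap.quotKerEquivRange_symm_apply_image ev _ (LinearMap.mem_range_self ev _)]
        simp [L, Fintype.linearCombination_apply, Pi.single_apply]
      rw [← hG] at h1
      simpa [D, ev, Fintype.linearCombination_apply, Pi.single_apply, ← map_smul] using h1
    · rintro ⟨x, rfl⟩
      funext i
      have : rel i ∈ LinearMap.ker ev := hrel ▸ Submodule.subset_span ⟨i, rfl⟩
      rw [LinearMap.mem_ker] at this
      simp only [R, D, LinearMap.pi_apply, LinearMap.coe_sum, Finset.sum_apply, LinearMap.smul_apply,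
        LinearMap.proj_apply, LinearMap.id_coe, id_eq, Pi.zero_apply, ← mul_smul, ← Finset.sum_smul]
      rw [show ∑ j, rel i j * a j = ev (rel i) by simp [ev, Fintype.linearCombination_apply],
        this, zero_smul]
  have hexB := Module.Flat.lTensor_exact B hex
  let ek := TensorProduct.piRight A A B (fun _ : Fin k => I)
  have h0 : LinearMap.lTensor B R (ek.symm y) = 0 := by
    refine (TensorProduct.piRight A A B (fun _ : Fin l => I)).injective (funext fun i => ?_)
    have key : ∀ T : B ⊗[A] (Fin k → I),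
        TensorProduct.piRight A A B (fun _ : Fin l => I) (LinearMap.lTensor B R T) i =
          ∑ j, rel i j • ek T j := fun T => by
      induction T using TensorProduct.induction_on with
      | zero => simp
      | add s t hs ht => simp only [map_add, Pi.add_apply, hs, ht, smul_add, Finset.sum_add_distrib]
      | tmul b t => simp [R, ek, TensorProduct.tmul_sum, TensorProduct.tmul_smul]
    rw [key, ek.apply_symm_apply, map_zero, Pi.zero_apply]
    refine hy (rel i) ?_
    have : rel i ∈ LinearMap.ker ev := hrel ▸ Submodule.subset_span ⟨i, rfl⟩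
    simpa [ev, Fintype.linearCombination_apply] using this
  obtain ⟨m, hm⟩ := (hexB _).1 h0
  refine ⟨m, fun j => ?_⟩
  have key : ∀ T : B ⊗[A] I, ek (LinearMap.lTensor B D T) j = a j • T := fun T => by
    induction T using TensorProduct.induction_on with
    | zero => simp
    | add s t hs ht => simp only [map_add, Pi.add_apply, hs, ht, smul_add]
    | tmul b t => simp [D, ek, TensorProduct.tmul_smul]
  rw [← key, hm, ek.apply_symm_apply]

theorem injective_baseChange [IsNoetherianRing B]
    (h : ∀ q : Ideal B, q.IsPrime → ∀ r ∈ q, ∃ s : B, s ∉ q ∧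
      s * r ∈ (q.comap (algebraMap A B)).map (algebraMap A B)) :
    Module.Injective B (B ⊗[A] I) := by
  classical
  refine (baer_of_primes fun q hq f => ?_).injective
  let p := q.comap (algebraMap A B)
  obtain ⟨k, a, ha⟩ := Submodule.fg_iff_exists_fin_generating_family.1 (IsNoetherian.noetherian p)
  have hmem : ∀ j, algebraMap A B (a j) ∈ q := fun j => by
    have : a j ∈ p := ha ▸ Submodule.subset_span ⟨j, rfl⟩
    exact this
  obtain ⟨m, hm⟩ := exists_common (B := B) I a (fun j => f ⟨_, hmem j⟩) (fun c hc => by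
    have : ∑ j, algebraMap A B (c j) • (⟨algebraMap A B (a j), hmem j⟩ : q) = 0 := by
      refine Subtype.ext ?_
      simp only [Submodule.coe_sum, Submodule.coe_smul, smul_eq_mul, ← map_mul, ← map_sum, hc,
        map_zero, ZeroMemClass.coe_zero]
    have := congrArg f this
    simp only [map_sum, map_zero] at this
    rw [Finset.sum_congr rfl fun j _ => (f.map_smul _ _).trans (algebraMap_smul B (c j) _)] at this
    exact this)
  let f' : q →ₗ[B] B ⊗[A] I := f - (LinearMap.toSpanSingleton B _ m) ∘ₗ q.subtype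
  have hf' : ∀ r : q, (r : B) ∈ p.map (algebraMap A B) → f' r = 0 := by
    intro r hr
    have hle : p.map (algebraMap A B) ≤ (LinearMap.ker f').map q.subtype := by
      rw [← ha, Ideal.map_span, Ideal.span_le]
      rintro _ ⟨_, ⟨j, rfl⟩, rfl⟩
      refine ⟨⟨_, hmem j⟩, ?_, rfl⟩
      show f ⟨_, hmem j⟩ - algebraMap A B (a j) • m = 0
      rw [algebraMap_smul, hm, sub_self]
    obtain ⟨r', hr', e⟩ := hle hr
    rwa [← Subtype.ext (a1 := r') (a2 := r) e]
  obtain ⟨k', g, hg⟩ := Submodule.fg_iff_exists_fin_generating_family.1 (IsNoetherian.noetherian q)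
  choose s hs hsr using fun j => h q hq (g j) (hg ▸ Submodule.subset_span ⟨j, rfl⟩)
  refine ⟨∏ j, s j, fun hc => ?_, (∏ j, s j) • m, fun r => ?_⟩
  · obtain ⟨j, -, hj⟩ := hq.prod_mem_iff.1 hc
    exact hs j hj
  · have h1 : (∏ j, s j) * (r : B) ∈ p.map (algebraMap A B) := by
      have hle : q ≤ (p.map (algebraMap A B)).colon {∏ j, s j} := by
        rw [← hg, Submodule.span_le]
        rintro _ ⟨j, rfl⟩
        rw [SetLike.mem_coe, Submodule.mem_colon_singleton, smul_eq_mul,
          ← Finset.mul_prod_erase Finset.univ s (Finset.mem_univ j), mul_comm (g j), mul_right_comm]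
        exact Ideal.mul_mem_right _ _ (hsr j)
      have := hle r.2
      rwa [Submodule.mem_colon_singleton, smul_eq_mul, mul_comm] at this
    have h2 := hf' ((∏ j, s j) • r) h1
    rw [map_smul] at h2
    change (∏ j, s j) • (f r - (r : B) • m) = 0 at h2
    rw [smul_sub, sub_eq_zero, smul_comm] at h2
    exact h2

end Groth.Agent.H80.InjUnram
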