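import Mathlib

/-!
# The cotangent space at a rational point of an affine scheme
-/

set_option autoImplicit false
set_option linter.style.haveILetI false

universe u

open MvPolynomial IsLocalRing

namespace Groth.Agent.H80.JacobianPoint

variable {k : Type u} [Field k] {n r : ℕ} (a : Fin n → k)

/-- The differential at a point. -/
noncomputable def d : MvPolynomial (Fin n) k →ₗ[k] (Fin n → k) :=
  LinearMap.pi fun j => (aeval a).toLinearMap ∘ₗ (pderiv j).toLinearMap

theorem d_apply (f : MvPolynomial (Fin n) k) (j : Fin n) : d a f j = eval a (pderiv j f) := by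
  simp [d]

theorem d_mul (f g : MvPolynomial (Fin n) k) :
    d a (f * g) = eval a f • d a g + eval a g • d a f := by
  funext j
  simp [d_apply, Pi.add_apply, add_comm, mul_comm]

theorem d_C (c : k) : d a (C c) = 0 := by funext j; simp [d_apply]

theorem d_X (i : Fin n) : d a (X i) = Pi.single i 1 := by
  funext j
  rw [d_apply]
  rcases eq_or_ne j i with rfl | h
  · simp
  · simp [pderiv_X_of_ne h.symm, Pi.single_eq_of_ne h]

theorem taylor (f : MvPolynomial (Fin n) k) :
    f - C (eval a f) - ∑ j, d a f j • (X j - C (a j)) ∈ RingHom.ker (eval a) ^ 2 := by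
  induction f using MvPolynomial.induction_on with
  | C c => simp [d_C]
  | add f g hf hg =>
    convert add_mem hf hg using 1
    simp only [map_add, Pi.add_apply, add_smul, Finset.sum_add_distrib]
    ring
  | mul_X f i hf =>
    have h1 : (f - C (eval a f)) * (X i - C (a i)) ∈ RingHom.ker (eval a) ^ 2 := by
      rw [pow_two]
      exact Ideal.mul_mem_mul (by simp) (by simp)
    convert add_mem h1 (Ideal.mul_mem_left _ (C (a i)) hf) using 1
    have hs : ∑ j, (d a (f * X i)) j • (X j - C (a j) : MvPolynomial (Fin n) k) =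
        C (eval a f) * (X i - C (a i)) + C (a i) * ∑ j, d a f j • (X j - C (a j)) := by
      rw [d_mul, d_X, eval_X]
      simp only [Pi.add_apply, Pi.smul_apply, smul_eq_mul, add_smul, Finset.sum_add_distrib,
        smul_eq_C_mul, map_mul, Finset.mul_sum, mul_assoc]
      congr 1
      rw [Finset.sum_eq_single i]
      · simp
      · intro j _ hj; simp [Pi.single_eq_of_ne hj]
      · simp
    rw [hs, map_mul, eval_X, map_mul]
    ring

theorem main_of_isLocalization (F : Fin r → MvPolynomial (Fin n) k)
    (𝔪 : Ideal (MvPolynomial (Fin n) k ⧸ Ideal.span (Set.range F))) [𝔪.IsMaximal]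
    (h𝔪 : 𝔪.comap (Ideal.Quotient.mk (Ideal.span (Set.range F))) = RingHom.ker (eval a))
    (R : Type u) [CommRing R] [IsLocalRing R] [Algebra (MvPolynomial (Fin n) k ⧸ Ideal.span (Set.range F)) R]
    [IsLocalization.AtPrime R 𝔪] [Algebra k R]
    [IsScalarTower k (MvPolynomial (Fin n) k ⧸ Ideal.span (Set.range F)) R] :
    Module.finrank (ResidueField R) (CotangentSpace R) +
      (Matrix.of fun i j => eval a (pderiv j (F i))).rank = n := by
  classical
  let P := MvPolynomial (Fin n) k
  let I : Ideal P := Ideal.span (Set.range F)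
  let π : P →ₐ[k] R := (IsScalarTower.toAlgHom k (P ⧸ I) R).comp (Ideal.Quotient.mkₐ k I)
  let M : Ideal P := RingHom.ker (eval a)
  have hF : ∀ i, eval a (F i) = 0 := fun i => by
    rw [← RingHom.mem_ker, ← h𝔪, Ideal.mem_comap,
      Ideal.Quotient.eq_zero_iff_mem.mpr (Ideal.subset_span (α := P) (Set.mem_range_self i))]
    exact zero_mem _
  have hm : maximalIdeal R = M.map (π : P →+* R) := by
    rw [show (π : P →+* R) = (algebraMap (P ⧸ I) R).comp (Ideal.Quotient.mk I) from rfl, ← Ideal.map_map,
      show M = 𝔪.comap (Ideal.Quotient.mk I) from h𝔪.symm,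
      Ideal.map_comap_of_surjective _ Ideal.Quotient.mk_surjective,
      IsLocalization.AtPrime.map_eq_maximalIdeal 𝔪 R]
  have hπC : ∀ c : k, π (C c) = algebraMap k R c := fun c => π.commutes c
  have hMX : ∀ i, X i - C (a i) ∈ M := fun i => show eval a (X i - C (a i)) = 0 by simp
  have hMs : ∀ s : P, s - C (eval a s) ∈ M := fun s => show eval a (s - C (eval a s)) = 0 by simp
  have hmem : ∀ f ∈ M, π f ∈ maximalIdeal R := fun f hf => hm ▸ Ideal.mem_map_of_mem (π : P →+* R) hf
  have hmul : ∀ (s : P) (v : (maximalIdeal R).Cotangent), π s • v = eval a s • v := by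
    intro s v
    obtain ⟨z, rfl⟩ := (maximalIdeal R).toCotangent_surjective v
    rw [← IsScalarTower.algebraMap_smul R (eval a s) ((maximalIdeal R).toCotangent z), ← map_smul, ← map_smul,
      Ideal.toCotangent_eq, pow_two]
    have := Ideal.mul_mem_mul (hmem _ (hMs s)) z.2
    simp only [map_sub, sub_mul, hπC] at this
    simpa [Algebra.smul_def] using this
  let v : Fin n → (maximalIdeal R).Cotangent := fun i =>
    (maximalIdeal R).toCotangent ⟨π (X i - C (a i)), hmem _ (hMX i)⟩
  let L := Fintype.linearCombination k v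
  have hclass : ∀ f (hf : f ∈ M), (maximalIdeal R).toCotangent ⟨π f, hmem f hf⟩ = L (d a f) := by
    intro f hf
    have hf0 : eval a f = 0 := hf
    have h := Ideal.mem_map_of_mem (π : P →+* R) (taylor a f)
    rw [Ideal.map_pow, ← hm, hf0, map_zero, sub_zero, RingHom.coe_coe, map_sub, map_sum] at h
    simp only [map_smul] at h
    rw [Fintype.linearCombination_apply]
    simp only [v, ← IsScalarTower.algebraMap_smul R (d a f _) ((maximalIdeal R).toCotangent _), ← map_smul, ← map_sum]
    rw [Ideal.toCotangent_eq]
    simpa [Algebra.smul_def, map_sum] using h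
  have hsurj : Function.Surjective L := by
    intro w
    obtain ⟨⟨z, hz⟩, rfl⟩ := (maximalIdeal R).toCotangent_surjective w
    obtain ⟨⟨x, s⟩, hxs⟩ := IsLocalization.surj 𝔪.primeCompl z
    obtain ⟨f, rfl⟩ := Ideal.Quotient.mk_surjective x
    obtain ⟨s₀, hs₀⟩ := Ideal.Quotient.mk_surjective s.1
    have hs1 : eval a s₀ ≠ 0 := fun h0 => s.2 (by
      rw [← hs₀]; exact Ideal.mem_comap.mp (h𝔪.ge h0))
    have e : π s₀ * z = π f := by
      change algebraMap (P ⧸ I) R (Ideal.Quotient.mk I s₀) * z = _
      rw [hs₀, mul_comm]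
      exact hxs
    have hf : f ∈ M := by
      have h1 : algebraMap (P ⧸ I) R (Ideal.Quotient.mk I f) ∈ maximalIdeal R :=
        hxs ▸ Ideal.mul_mem_right _ _ hz
      rw [IsLocalization.AtPrime.to_map_mem_maximal_iff R 𝔪] at h1
      exact h𝔪.le h1
    refine ⟨(eval a s₀)⁻¹ • d a f, ?_⟩
    rw [map_smul, ← hclass f hf, inv_smul_eq_iff₀ hs1, ← hmul, ← map_smul]
    exact congrArg _ (Subtype.ext e.symm)
  have hker : LinearMap.ker L = Submodule.span k (Set.range fun i => d a (F i)) := by
    refine le_antisymm (fun c hc => ?_) (Submodule.span_le.mpr ?_)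
    · have hc' : π (∑ j, C (c j) * (X j - C (a j))) ∈ maximalIdeal R ^ 2 := by
        rw [LinearMap.mem_ker, Fintype.linearCombination_apply] at hc
        simp only [v, ← IsScalarTower.algebraMap_smul R (c _) ((maximalIdeal R).toCotangent _), ← map_smul, ← map_sum,
          Ideal.toCotangent_eq_zero] at hc
        simpa [Algebra.smul_def, map_sum, hπC] using hc
      rw [hm, ← Ideal.map_pow,
        show (π : P →+* R) = (algebraMap (P ⧸ I) R).comp (Ideal.Quotient.mk I) from rfl,
        ← Ideal.map_map,
        show π (∑ j, C (c j) * (X j - C (a j))) =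
          algebraMap (P ⧸ I) R (Ideal.Quotient.mk I (∑ j, C (c j) * (X j - C (a j)))) from rfl,
        IsLocalization.algebraMap_mem_map_algebraMap_iff 𝔪.primeCompl R] at hc'
      obtain ⟨x, hx, hxy⟩ := hc'
      obtain ⟨s, rfl⟩ := Ideal.Quotient.mk_surjective x
      rw [← map_mul, Ideal.mem_quotient_iff_mem_sup] at hxy
      obtain ⟨p, hp, q, hq, hpq⟩ := Submodule.mem_sup.mp hxy
      have hs1 : eval a s ≠ 0 := fun h0 => hx (h𝔪.ge h0)
      have hdp : ∀ y ∈ M ^ 2, d a y = 0 := fun y hy => by
        rw [pow_two] at hy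
        refine Submodule.mul_induction_on hy (fun u hu w hw => ?_) (fun u w h1 h2 => by rw [map_add, h1, h2, add_zero])
        rw [d_mul, show eval a u = 0 from hu, show eval a w = 0 from hw, zero_smul, zero_smul, add_zero]
      have hdq : d a q ∈ Submodule.span k (Set.range fun i => d a (F i)) := by
        obtain ⟨g, rfl⟩ := Ideal.mem_span_range_iff_exists_fun.mp hq
        rw [map_sum]
        refine sum_mem fun i _ => ?_
        rw [d_mul, hF i, zero_smul, add_zero]
        exact Submodule.smul_mem _ _ (Submodule.subset_span ⟨i, rfl⟩)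
      have hdy : d a (∑ j, C (c j) * (X j - C (a j))) = c := by
        simp only [map_sum, d_mul, d_C, map_sub, d_X, eval_C, eval_X, sub_self, smul_zero, sub_zero, add_zero]
        funext j
        simp [Finset.sum_apply, Pi.single_apply]
      have h2 := congrArg (d a) hpq
      rw [map_add, hdp p hp, zero_add, d_mul, hdy,
        show eval a (∑ j, C (c j) * (X j - C (a j))) = 0 by simp, zero_smul, add_zero] at h2
      rw [h2] at hdq
      exact (Submodule.smul_mem_iff _ hs1).mp hdq
    · rintro _ ⟨i, rfl⟩
      rw [SetLike.mem_coe, LinearMap.mem_ker, ← hclass (F i) (hF i)]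
      have h0 : π (F i) = 0 := by
        change algebraMap (P ⧸ I) R (Ideal.Quotient.mk I (F i)) = 0
        rw [Ideal.Quotient.eq_zero_iff_mem.mpr (Ideal.subset_span (α := P) (Set.mem_range_self i)), map_zero]
      rw [Ideal.toCotangent_eq_zero]
      simp [h0]
  have hrank : (Matrix.of fun i j => eval a (pderiv j (F i))).rank = Module.finrank k (LinearMap.ker L) := by
    rw [Matrix.rank_eq_finrank_span_row, hker]
    have : Matrix.row (Matrix.of fun i j => eval a (pderiv j (F i))) = fun i => d a (F i) := by
      funext i j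
      simp [Matrix.row, d_apply]
    rw [this]
  have hres : Module.finrank k (ResidueField R) = 1 := by
    refine finrank_eq_one 1 one_ne_zero fun w => ?_
    obtain ⟨z, rfl⟩ := IsLocalRing.residue_surjective w
    obtain ⟨⟨x, s⟩, hxs⟩ := IsLocalization.surj 𝔪.primeCompl z
    obtain ⟨f, rfl⟩ := Ideal.Quotient.mk_surjective x
    obtain ⟨s₀, hs₀⟩ := Ideal.Quotient.mk_surjective s.1
    have key : ∀ g : P, residue R (π g) = algebraMap k (ResidueField R) (eval a g) := fun g => by
      rw [IsScalarTower.algebraMap_apply k R (ResidueField R), ResidueField.algebraMap_eq, ← sub_eq_zero,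
        ← map_sub, residue_eq_zero_iff, ← hπC, ← map_sub]
      exact hmem _ (hMs g)
    have hs1 : eval a s₀ ≠ 0 := fun h0 => s.2 (by
      rw [← hs₀]; exact Ideal.mem_comap.mp (h𝔪.ge h0))
    have e : z * π s₀ = π f := by
      change z * algebraMap (P ⧸ I) R (Ideal.Quotient.mk I s₀) = _
      rw [hs₀]
      exact hxs
    refine ⟨eval a f / eval a s₀, ?_⟩
    rw [Algebra.smul_def, mul_one, map_div₀, ← key, ← key, div_eq_iff (by
      rw [key]; exact (map_ne_zero _).mpr hs1), ← map_mul, e]
  have h1 : Module.finrank (ResidueField R) (CotangentSpace R) = Module.finrank k (maximalIdeal R).Cotangent := by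
    haveI : IsScalarTower k (ResidueField R) (CotangentSpace R) :=
      IsScalarTower.of_algebraMap_smul fun c x => by
        rw [IsScalarTower.algebraMap_apply k R (ResidueField R), algebraMap_smul, algebraMap_smul]
    have h := Module.finrank_mul_finrank k (ResidueField R) (CotangentSpace R)
    rw [hres, one_mul] at h
    exact h
  have h2 := LinearMap.finrank_range_add_finrank_ker L
  rw [Module.finrank_fin_fun, LinearMap.range_eq_top.mpr hsurj, finrank_top] at h2
  rw [h1, hrank]
  exact h2

theorem regular_iff (R : Type u) [CommRing R] [IsLocalRing R] [IsNoetherianRing R] (n t : ℕ)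
    (h : Module.finrank (ResidueField R) (CotangentSpace R) + t = n) :
    IsRegularLocalRing R ↔ (t : WithBot ℕ∞) + ringKrullDim R = n := by
  rw [isRegularLocalRing_iff, IsLocalRing.spanFinrank_maximalIdeal_eq_finrank_cotangentSpace]
  generalize Module.finrank (ResidueField R) (CotangentSpace R) = c at h ⊢
  generalize ringKrullDim R = D
  subst h
  constructor
  · rintro rfl
    rw [← Nat.cast_add, add_comm]
  · intro h'
    induction D using WithBot.recBotCoe with
    | bot => exact absurd h'.symm (by simp)
    | coe D =>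
      induction D with
      | top => exact absurd h'.symm (by norm_cast; simp)
      | coe D => norm_cast at h' ⊢; omega

theorem main (F : Fin r → MvPolynomial (Fin n) k)
    (𝔪 : Ideal (MvPolynomial (Fin n) k ⧸ Ideal.span (Set.range F))) [𝔪.IsMaximal]
    (h𝔪 : 𝔪.comap (Ideal.Quotient.mk (Ideal.span (Set.range F))) = RingHom.ker (eval a)) :
    Module.finrank (ResidueField (Localization.AtPrime 𝔪)) (CotangentSpace (Localization.AtPrime 𝔪)) +
      (Matrix.of fun i j => eval a (pderiv j (F i))).rank = n :=
  main_of_isLocalization a F 𝔪 h𝔪 (Localization.AtPrime 𝔪)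

end Groth.Agent.H80.JacobianPoint
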