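import Groth.Agent.H80.AvramovFlat

/-!
# Independence of the factorisation of a complete intersection homomorphism
-/

set_option autoImplicit false
set_option linter.style.haveILetI false
set_option linter.unusedSectionVars false

universe u

open CategoryTheory IsLocalRing RingTheory.Sequence
open scoped Pointwise TensorProduct

namespace Groth.Agent.H80.KernelIndependence

section Completion

/-- Maps out of a completion are determined on the ring. -/
theorem hom_ext_completion {C B : Type u} [CommRing C] [IsLocalRing C] [IsNoetherianRing C]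
    [CommRing B] [IsLocalRing B] [IsNoetherianRing B]
    (ψ₁ ψ₂ : AdicCompletion (maximalIdeal C) C →+* B) [IsLocalHom ψ₁] [IsLocalHom ψ₂]
    (h : ∀ c, ψ₁ (algebraMap C _ c) = ψ₂ (algebraMap C _ c)) : ψ₁ = ψ₂ := by
  refine RingHom.ext fun x => ?_
  have key : ∀ n, ψ₁ x - ψ₂ x ∈ maximalIdeal B ^ n := by
    intro n
    obtain ⟨c, hc⟩ := Lib.FSAdic.Completion.exists_sub_mem (IsNoetherian.noetherian _) n x
    rw [← AdicCompletion.maximalIdeal_eq_map] at hc
    have h1 : ∀ (ψ : AdicCompletion (maximalIdeal C) C →+* B) [IsLocalHom ψ],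
        ψ (x - algebraMap C _ c) ∈ maximalIdeal B ^ n := fun ψ _ =>
      Ideal.pow_right_mono (map_maximalIdeal_le ψ) n
        (Ideal.map_pow ψ _ n ▸ Ideal.mem_map_of_mem ψ hc)
    have := sub_mem (h1 ψ₁) (h1 ψ₂)
    rwa [map_sub, map_sub, h c, sub_sub_sub_cancel_right] at this
  rw [← sub_eq_zero, ← Ideal.mem_bot,
    ← Ideal.iInf_pow_eq_bot_of_isLocalRing (maximalIdeal B) Ideal.IsPrime.ne_top']
  exact Submodule.mem_iInf _ |>.mpr key

/-- Extension of a local map to a complete target along completion. -/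
theorem exists_extension {C S : Type u} [CommRing C] [IsLocalRing C] [IsNoetherianRing C]
    [CommRing S] [IsLocalRing S] [IsNoetherianRing S] [IsAdicComplete (maximalIdeal S) S]
    (f : C →+* S) [IsLocalHom f] :
    ∃ fh : AdicCompletion (maximalIdeal C) C →+* S, IsLocalHom fh ∧
      ∀ c, fh (algebraMap C _ c) = f c := by
  letI : Algebra C S := f.toAlgebra
  haveI : IsLocalHom (algebraMap C S) := ‹IsLocalHom f›
  obtain ⟨φ, hφ⟩ := H18.FEquidim.Loc.exists_cplMap C S
  let e := (AdicCompletion.ofAlgEquiv (maximalIdeal S)).symm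
  let fh : AdicCompletion (maximalIdeal C) C →+* S := e.toRingEquiv.toRingHom.comp φ
  have hfh : ∀ c, fh (algebraMap C _ c) = f c := fun c =>
    (congrArg e (RingHom.congr_fun hφ c)).trans (e.commutes (f c))
  refine ⟨fh, ((local_hom_TFAE fh).out 0 2).mpr ?_, hfh⟩
  rw [AdicCompletion.maximalIdeal_eq_map, Ideal.map_map,
    show fh.comp (algebraMap C _) = f from RingHom.ext hfh]
  exact map_maximalIdeal_le f

end Completion

/-- Regular sequences are transported by ring isomorphisms. -/
theorem exists_regular_of_equiv {R S : Type u} [CommRing R] [IsLocalRing R] [CommRing S]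
    [IsLocalRing S] [IsNoetherianRing S] (e : R ≃+* S) (I : Ideal R) (J : Ideal S)
    (hIJ : I.map (e : R →+* S) = J)
    (h : ∃ rs : List R, Ideal.ofList rs = I ∧ IsRegular R rs) :
    ∃ rs : List S, Ideal.ofList rs = J ∧ IsRegular S rs := by
  obtain ⟨rs, hrs, hreg⟩ := h
  have hIne : I ≠ ⊤ := fun h => hreg.top_ne_smul (by rw [hrs, h]; simp)
  refine ⟨rs.map e, (Ideal.map_ofList (e : R →+* S) rs).symm.trans (hrs ▸ hIJ),
    IsRegular.of_isWeaklyRegular_of_mem_maximalIdeal S (fun s hs => ?_) ?_⟩
  · obtain ⟨r, hr, rfl⟩ := List.mem_map.mp hs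
    intro hu
    exact IsLocalRing.le_maximalIdeal hIne (hrs.le (Ideal.subset_span (show r ∈ {x | x ∈ rs} from hr)))
      (by simpa using hu.map e.symm)
  · exact (AddEquiv.isWeaklyRegular_congr (e := e.toAddEquiv) (as := rs) (bs := rs.map e)
      (List.forall₂_map_right_iff.mpr (List.forall₂_same.mpr fun a _ x => map_mul e a x))).mp
      hreg.toIsWeaklyRegular

/-- A ring quotient is Noetherian as a module. -/
theorem isNoetherian_of_surjective_algebraMap {E S : Type u} [CommRing E] [CommRing S] [Algebra E S]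
    [IsNoetherianRing S] (h : Function.Surjective (algebraMap E S)) : IsNoetherian E S := by
  refine ⟨fun N => ?_⟩
  let J : Ideal S :=
    { N.toAddSubmonoid with
      smul_mem' := fun c x hx => by
        obtain ⟨r, rfl⟩ := h c
        rw [algebraMap_smul]
        exact N.smul_mem r hx }
  rw [show N = J.restrictScalars E from SetLike.ext fun _ => Iff.rfl]
  exact (IsNoetherian.noetherian J).restrictScalars_of_surjective h

section Lift

variable {A T : Type u} [CommRing A] [IsNoetherianRing A] [IsLocalRing A] [CommRing T]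
  [IsNoetherianRing T] [IsLocalRing T] [Algebra A T] [IsLocalHom (algebraMap A T)] [Module.Flat A T]

/-- Regular generators on the closed fibre lift when the quotient is flat. -/
theorem exists_regular_lift (Q : Ideal T) (hQ : Q ≠ ⊤) [Module.Flat A (T ⧸ Q)]
    (rs : List (T ⧸ (maximalIdeal A).map (algebraMap A T)))
    (hrs : IsRegular (T ⧸ (maximalIdeal A).map (algebraMap A T)) rs)
    (hgen : Ideal.ofList rs = Q.map (Ideal.Quotient.mk ((maximalIdeal A).map (algebraMap A T)))) :
    ∃ qs : List T, Ideal.ofList qs = Q ∧ IsRegular T qs := by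
  classical
  have hlift : ∀ r ∈ rs, ∃ x ∈ Q, Ideal.Quotient.mk ((maximalIdeal A).map (algebraMap A T)) x = r :=
    fun r hr => (Ideal.mem_map_iff_of_surjective _ Ideal.Quotient.mk_surjective).mp
      (hgen.le (Ideal.subset_span hr))
  choose! l hl using hlift
  have hls : (rs.map l).map (Ideal.Quotient.mk ((maximalIdeal A).map (algebraMap A T))) = rs := by
    rw [List.map_map]
    exact (List.map_congr_left fun r hr => (hl r hr).2).trans (List.map_id' _)
  have hlmem : ∀ x ∈ rs.map l, x ∈ Q := fun x hx => by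
    obtain ⟨r, hr, rfl⟩ := List.mem_map.mp hx
    exact (hl r hr).1
  have hfs : Ideal.ofList (rs.map l) = Q :=
    H26.CITransversal.eq_of_fibre Q (IsNoetherian.noetherian _) (rs.map l) hlmem
      (by rw [Ideal.map_ofList, hls, hgen])
  refine ⟨rs.map l, hfs, IsRegular.of_isWeaklyRegular_of_mem_maximalIdeal T
    (fun x hx => IsLocalRing.le_maximalIdeal hQ (hlmem x hx))
    (Lib.LCFin.FibreDepth.isWeaklyRegular_of_fibre (A := A) (rs.map l) T ?_)⟩
  have e : (maximalIdeal A).map (algebraMap A T) • (⊤ : Submodule T T) =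
      (maximalIdeal A).map (algebraMap A T) := by
    rw [smul_eq_mul, Ideal.mul_top]
  rw [(Submodule.quotEquivOfEq _ _ e).isWeaklyRegular_congr,
    ← isWeaklyRegular_map_algebraMap_iff (T ⧸ (maximalIdeal A).map (algebraMap A T)),
    Ideal.Quotient.algebraMap_eq, hls]
  exact hrs.toIsWeaklyRegular

end Lift

set_option backward.isDefEq.respectTransparency false in
/-- Changing the factorisation along a surjection. -/
theorem step {A T S B : Type u} [CommRing A] [CommRing B] [CommRing T] [CommRing S]
    [IsNoetherianRing A] [IsNoetherianRing T] [IsNoetherianRing S] [IsNoetherianRing B]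
    [IsLocalRing A] [IsLocalRing T] [IsLocalRing S] [IsLocalRing B]
    [Algebra A T] [Algebra A S] [Algebra A B] [IsLocalHom (algebraMap A B)]
    [Module.Flat A T] [Module.Flat A S]
    [IsRegularLocalRing (T ⧸ (maximalIdeal A).map (algebraMap A T))]
    [IsRegularLocalRing (S ⧸ (maximalIdeal A).map (algebraMap A S))]
    (π : T →ₐ[A] S) (hπ : Function.Surjective π) (g : S →ₐ[A] B) (hg : Function.Surjective g) :
    (∃ rs : List T, Ideal.ofList rs = RingHom.ker (g.comp π) ∧ IsRegular T rs) ↔
      ∃ rs : List S, Ideal.ofList rs = RingHom.ker g ∧ IsRegular S rs := by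
  classical
  let Q : Ideal T := RingHom.ker π
  let K : Ideal T := RingHom.ker (g.comp π)
  have hK : K ≠ ⊤ := RingHom.ker_ne_top _
  have hQK : Q ≤ K := fun x hx => by
    change g (π x) = 0
    rw [show π x = 0 from hx, map_zero]
  have hQ : Q ≠ ⊤ := RingHom.ker_ne_top _
  haveI : IsLocalHom (algebraMap A T) := ⟨fun a ha => by
    have := ha.map (g.comp π)
    rw [(g.comp π).commutes] at this
    exact isUnit_of_map_unit (algebraMap A B) a this⟩
  let e : (T ⧸ Q) ≃ₐ[A] S := Ideal.quotientKerAlgEquivOfSurjective hπ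
  haveI : Module.Flat A (T ⧸ Q) := Module.Flat.of_linearEquiv e.toLinearEquiv
  haveI : Nontrivial (T ⧸ Q) := Ideal.Quotient.nontrivial_iff.mpr hQ
  haveI : IsLocalRing (T ⧸ Q) := IsLocalRing.of_surjective' _ Ideal.Quotient.mk_surjective
  have hKe : (K.map (Ideal.Quotient.mk Q)).map (e.toRingEquiv : (T ⧸ Q) →+* S) = RingHom.ker g := by
    rw [Ideal.map_map, show ((e.toRingEquiv : (T ⧸ Q) →+* S).comp (Ideal.Quotient.mk Q)) = (π : T →+* S) from
      RingHom.ext fun _ => rfl]
    ext s
    obtain ⟨t, rfl⟩ := hπ s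
    rw [Ideal.mem_map_iff_of_surjective (π : T →+* S) hπ]
    exact ⟨fun ⟨x, hx, hxt⟩ => by
      rw [RingHom.mem_ker, ← show π x = π t from hxt]
      exact hx, fun ht => ⟨t, ht, rfl⟩⟩
  have hKS : (RingHom.ker g).map (e.symm.toRingEquiv : S →+* T ⧸ Q) = K.map (Ideal.Quotient.mk Q) := by
    rw [← hKe, Ideal.map_map, show ((e.symm.toRingEquiv : S →+* T ⧸ Q).comp
      (e.toRingEquiv : (T ⧸ Q) →+* S)) = RingHom.id _ from RingHom.ext e.symm_apply_apply, Ideal.map_id]
  constructor
  · intro hT
    letI : Algebra (T ⧸ Q) (T ⧸ K) := (Ideal.Quotient.factor hQK).toAlgebra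
    haveI : IsScalarTower T (T ⧸ Q) (T ⧸ K) :=
      IsScalarTower.of_algebraMap_eq (R := T) (S := T ⧸ Q) (A := T ⧸ K) fun _ => rfl
    haveI : IsScalarTower A (T ⧸ Q) (T ⧸ K) :=
      IsScalarTower.of_algebraMap_eq (R := A) (S := T ⧸ Q) (A := T ⧸ K) fun _ => rfl
    haveI : Module.Finite (T ⧸ Q) (T ⧸ K) :=
      Module.Finite.of_surjective (Algebra.linearMap (T ⧸ Q) (T ⧸ K))
        (Ideal.Quotient.factor_surjective hQK)
    haveI : IsRegularLocalRing ((T ⧸ Q) ⧸ (maximalIdeal A).map (algebraMap A (T ⧸ Q))) :=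
      IsRegularLocalRing.of_ringEquiv (Ideal.quotientEquiv ((maximalIdeal A).map (algebraMap A S))
        ((maximalIdeal A).map (algebraMap A (T ⧸ Q))) e.symm.toRingEquiv (by
          rw [Ideal.map_map]
          congr 1
          exact (RingHom.ext e.symm.commutes).symm))
    obtain ⟨rs, hrs, hreg⟩ := hT
    have h0 : DRing.HasTorDimLE A 0 T := fun N _ _ p hp =>
      Lib.Tor.Module.subsingleton_tor_of_flat_left A T N p hp
    have h1 := RelativeCI.hasTorDimLE_quotient rs 0 T h0 hreg.toIsWeaklyRegular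
    have eK : (Ideal.ofList rs • (⊤ : Submodule T T)) = K := by
      rw [smul_eq_mul, Ideal.mul_top, hrs]
    have h2 := RelativeCI.hasTorDimLE_of_equiv
      ((Submodule.quotEquivOfEq _ _ eK).restrictScalars A) h1
    have hfd := FiberTorDim.hasFiniteTorDim_of_torVanish (S := T ⧸ Q) (maximalIdeal A) (0 + rs.length)
      (T ⧸ K) fun p hp => h2 _ p hp
    obtain ⟨-, hKQ⟩ := RegularExtend.main Q K hQK hK hfd ⟨rs, hrs, hreg⟩
    exact exists_regular_of_equiv e.toRingEquiv _ _ hKe hKQ
  · intro hS
    obtain ⟨rs', hrs', hreg'⟩ := exists_regular_of_equiv e.symm.toRingEquiv _ _ hKS hS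
    set 𝔪T := (maximalIdeal A).map (algebraMap A T) with hmT
    obtain ⟨ψ, hψ, hker⟩ : ∃ ψ : T ⧸ 𝔪T →+* S ⧸ (maximalIdeal A).map (algebraMap A S),
        Function.Surjective ψ ∧ RingHom.ker ψ = Q.map (Ideal.Quotient.mk 𝔪T) := by
      set 𝔪S := (maximalIdeal A).map (algebraMap A S)
      have hmap : 𝔪T.map (π : T →+* S) = 𝔪S := by
        rw [hmT, Ideal.map_map]
        congr 1
        exact RingHom.ext π.commutes
      let φ : T →+* S ⧸ 𝔪S := (Ideal.Quotient.mk 𝔪S).comp (π : T →+* S)
      have hφ : RingHom.ker φ = Q ⊔ 𝔪T := by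
        rw [show RingHom.ker φ = (RingHom.ker (Ideal.Quotient.mk 𝔪S)).comap (π : T →+* S) from rfl,
          Ideal.mk_ker, ← hmap, Ideal.comap_map_of_surjective' (π : T →+* S) hπ, sup_comm]
        rfl
      refine ⟨Ideal.Quotient.lift 𝔪T φ fun x hx => hφ.ge (Ideal.mem_sup_right hx),
        Ideal.Quotient.lift_surjective_of_surjective _ _ (Ideal.Quotient.mk_surjective.comp hπ), ?_⟩
      rw [Ideal.ker_quotient_lift, hφ, Ideal.map_sup, Ideal.map_quotient_self, sup_bot_eq]
    obtain ⟨rs, hrsreg, hgen⟩ := (H26.CITransNhd.ci_iff Q ψ hψ hker).mp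
      (H26.CIQuotient.isCompleteIntersection_of_regular _)
    obtain ⟨qs, hqs, hqreg⟩ := exists_regular_lift (A := A) Q hQ rs hrsreg hgen
    choose l hl using fun y : T ⧸ Q => Ideal.Quotient.mk_surjective (I := Q) y
    let ls := rs'.map l
    have hls : ls.map (Ideal.Quotient.mk Q) = rs' := by
      rw [List.map_map]
      exact (List.map_congr_left fun y _ => hl y).trans (List.map_id' _)
    have hK' : Ideal.ofList (qs ++ ls) = K := by
      rw [Ideal.ofList_append, hqs]
      have := congrArg (Ideal.comap (Ideal.Quotient.mk Q)) hrs'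
      rw [← hls, ← Ideal.map_ofList, Ideal.comap_map_of_surjective' _ Ideal.Quotient.mk_surjective,
        Ideal.comap_map_of_surjective' _ Ideal.Quotient.mk_surjective, Ideal.mk_ker,
        sup_eq_left.mpr hQK, sup_comm] at this
      exact this
    refine ⟨_, hK', IsRegular.of_isWeaklyRegular_of_mem_maximalIdeal T (fun z hz =>
      IsLocalRing.le_maximalIdeal hK (hK' ▸ Ideal.subset_span hz)) ?_⟩
    rw [isWeaklyRegular_append_iff]
    refine ⟨hqreg.toIsWeaklyRegular, ?_⟩
    have eQ : (Ideal.ofList qs • ⊤ : Submodule T T) = Q := by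
      rw [hqs, smul_eq_mul, Ideal.mul_top]
    rw [(Submodule.quotEquivOfEq _ _ eQ).isWeaklyRegular_congr ls,
      ← isWeaklyRegular_map_algebraMap_iff (T ⧸ Q)]
    change IsWeaklyRegular (T ⧸ Q) (ls.map (Ideal.Quotient.mk Q))
    rw [hls]
    exact hreg'.toIsWeaklyRegular

set_option backward.isDefEq.respectTransparency false in
/-- Passing to the completion of the middle ring. -/
theorem completion_factor {A S B : Type u} [CommRing A] [CommRing B] [CommRing S]
    [IsNoetherianRing A] [IsNoetherianRing S] [IsNoetherianRing B]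
    [IsLocalRing A] [IsLocalRing S] [IsLocalRing B] [IsAdicComplete (maximalIdeal B) B]
    [Algebra A S] [Algebra A B] [Module.Flat A S]
    [IsRegularLocalRing (S ⧸ (maximalIdeal A).map (algebraMap A S))]
    (g : S →ₐ[A] B) (hg : Function.Surjective g) :
    ∃ (Sh : Type u) (_ : CommRing Sh) (_ : IsNoetherianRing Sh) (_ : IsLocalRing Sh)
      (_ : IsAdicComplete (maximalIdeal Sh) Sh) (_ : Algebra A Sh) (_ : Module.Flat A Sh)
      (_ : IsRegularLocalRing (Sh ⧸ (maximalIdeal A).map (algebraMap A Sh)))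
      (gh : Sh →ₐ[A] B), Function.Surjective gh ∧
        ((∃ rs : List S, Ideal.ofList rs = RingHom.ker g ∧ IsRegular S rs) ↔
          ∃ rs : List Sh, Ideal.ofList rs = RingHom.ker gh ∧ IsRegular Sh rs) := by
  haveI : IsLocalHom (g : S →+* B) := IsLocalHom.of_surjective _ hg
  obtain ⟨gh, hghloc, hgh⟩ := exists_extension (g : S →+* B)
  let Sh := AdicCompletion (maximalIdeal S) S
  let ghA : Sh →ₐ[A] B := { gh with
    commutes' := fun a => by
      change gh (algebraMap A Sh a) = _
      rw [IsScalarTower.algebraMap_apply A S Sh, hgh]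
      exact g.commutes a }
  haveI : Module.Flat S Sh := AdicCompletion.flat_of_isNoetherian _
  haveI : Module.Flat A Sh := Module.Flat.trans A S Sh
  set 𝔪S := (maximalIdeal A).map (algebraMap A S)
  haveI : IsRegularLocalRing (Sh ⧸ (maximalIdeal A).map (algebraMap A Sh)) := by
    obtain ⟨e⟩ := H26.CICompose.nonempty_completion_quotient 𝔪S
    haveI : IsRegularLocalRing (AdicCompletion (maximalIdeal (S ⧸ 𝔪S)) (S ⧸ 𝔪S)) :=
      (Lib.Regular.Completion.isRegularLocalRing_iff _ Ideal.IsPrime.ne_top').mp inferInstance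
    exact IsRegularLocalRing.of_ringEquiv (e.trans (Ideal.quotEquivOfEq (by
      rw [Ideal.map_map, ← IsScalarTower.algebraMap_eq])))
  have hghs : Function.Surjective gh := fun b => by
    obtain ⟨s, rfl⟩ := hg b
    exact ⟨algebraMap S Sh s, hgh s⟩
  have hker : RingHom.ker gh = (RingHom.ker g).map (algebraMap S Sh) := by
    refine le_antisymm (fun x hx => ?_) (Ideal.map_le_iff_le_comap.mpr fun s hs => (hgh s).trans hs)
    set J := (RingHom.ker g).map (algebraMap S Sh)
    have hJ : J ≠ ⊤ := fun h => RingHom.ker_ne_top gh (top_le_iff.mp (h ▸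
      Ideal.map_le_iff_le_comap.mpr fun s hs => (hgh s).trans hs))
    haveI : Nontrivial (Sh ⧸ J) := Ideal.Quotient.nontrivial_iff.mpr hJ
    haveI : IsLocalRing (Sh ⧸ J) := IsLocalRing.of_surjective' _ Ideal.Quotient.mk_surjective
    have key : ∀ n, Ideal.Quotient.mk J x ∈ maximalIdeal (Sh ⧸ J) ^ n := by
      intro n
      obtain ⟨s, hs⟩ := Lib.FSAdic.Completion.exists_sub_mem (IsNoetherian.noetherian _) n x
      rw [← AdicCompletion.maximalIdeal_eq_map] at hs
      have h1 : g s ∈ maximalIdeal B ^ n := by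
        have := Ideal.mem_map_of_mem gh hs
        rw [Ideal.map_pow, map_sub, show gh x = 0 from hx, zero_sub, hgh] at this
        exact Ideal.pow_right_mono (map_maximalIdeal_le gh) n (Submodule.neg_mem_iff _ |>.mp this)
      rw [← IsLocalRing.map_maximalIdeal_of_surjective (g : S →+* B) hg, ← Ideal.map_pow,
        Ideal.mem_map_iff_of_surjective (g : S →+* B) hg] at h1
      obtain ⟨t, ht, hts⟩ := h1
      have h2 : algebraMap S Sh s - algebraMap S Sh t ∈ J := by
        rw [← map_sub]
        refine Ideal.mem_map_of_mem _ ?_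
        rw [RingHom.mem_ker, map_sub, show g t = g s from hts, sub_self]
      rw [← IsLocalRing.map_maximalIdeal_of_surjective (Ideal.Quotient.mk J) Ideal.Quotient.mk_surjective,
        ← Ideal.map_pow]
      rw [show Ideal.Quotient.mk J x =
        Ideal.Quotient.mk J ((x - algebraMap S Sh s) + algebraMap S Sh t) from
        Ideal.Quotient.eq.mpr (by convert h2 using 1; ring)]
      refine Ideal.mem_map_of_mem _ (add_mem hs ?_)
      rw [AdicCompletion.maximalIdeal_eq_map, ← Ideal.map_pow]
      exact Ideal.mem_map_of_mem _ ht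
    rw [← Ideal.Quotient.eq_zero_iff_mem, ← Ideal.mem_bot,
      ← Ideal.iInf_pow_eq_bot_of_isLocalRing (maximalIdeal (Sh ⧸ J)) Ideal.IsPrime.ne_top']
    exact Submodule.mem_iInf _ |>.mpr key
  refine ⟨Sh, inferInstance, inferInstance, inferInstance, inferInstance, inferInstance,
    inferInstance, inferInstance, ghA, hghs, ?_⟩
  rw [show RingHom.ker ghA = RingHom.ker gh from rfl, hker]
  constructor
  · rintro ⟨rs, hrs, hreg⟩
    refine ⟨rs.map (algebraMap S Sh), by rw [← Ideal.map_ofList, hrs],
      IsRegular.of_isWeaklyRegular_of_mem_maximalIdeal Sh (fun z hz => ?_)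
        hreg.toIsWeaklyRegular.of_flat⟩
    obtain ⟨r, hr, rfl⟩ := List.mem_map.mp hz
    exact map_maximalIdeal_le (algebraMap S Sh) (Ideal.mem_map_of_mem _
      (IsLocalRing.le_maximalIdeal (RingHom.ker_ne_top g) (hrs ▸ Ideal.subset_span hr)))
  · exact RelativeCI.exists_regular_of_map (RingHom.ker g) (RingHom.ker_ne_top g)

set_option backward.isDefEq.respectTransparency false in
theorem complete {A B S S' : Type u} [CommRing A] [CommRing B]
    [CommRing S] [CommRing S'] [IsNoetherianRing A] [IsNoetherianRing B] [IsNoetherianRing S]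
    [IsNoetherianRing S'] [IsLocalRing A] [IsLocalRing B] [IsLocalRing S] [IsLocalRing S']
    [IsAdicComplete (maximalIdeal A) A] [IsAdicComplete (maximalIdeal S) S]
    [IsAdicComplete (maximalIdeal S') S']
    [Algebra A B] [Algebra A S] [Algebra A S'] [IsLocalHom (algebraMap A B)]
    [Module.Flat A S] [Module.Flat A S']
    [IsRegularLocalRing (S ⧸ (maximalIdeal A).map (algebraMap A S))]
    [IsRegularLocalRing (S' ⧸ (maximalIdeal A).map (algebraMap A S'))]
    (g : S →ₐ[A] B) (g' : S' →ₐ[A] B) (hg : Function.Surjective g)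
    (hg' : Function.Surjective g') :
    (∃ rs : List S, Ideal.ofList rs = RingHom.ker g ∧ IsRegular S rs) ↔
      (∃ rs : List S', Ideal.ofList rs = RingHom.ker g' ∧ IsRegular S' rs) := by
  let E : Subalgebra A (S × S') :=
    AlgHom.equalizer (g.comp (AlgHom.fst A S S')) (g'.comp (AlgHom.snd A S S'))
  let p : E →ₐ[A] S := (AlgHom.fst A S S').comp E.val
  let p' : E →ₐ[A] S' := (AlgHom.snd A S S').comp E.val
  have hpeq : ∀ c : E, g (p c) = g' (p' c) := fun c => c.2
  have hp : Function.Surjective p := fun s => by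
    obtain ⟨s', hs'⟩ := hg' (g s)
    exact ⟨⟨(s, s'), hs'.symm⟩, rfl⟩
  have hp' : Function.Surjective p' := fun s' => by
    obtain ⟨s, hs⟩ := hg (g' s')
    exact ⟨⟨(s, s'), hs⟩, rfl⟩
  haveI : IsNoetherianRing E := by
    letI : Algebra E S := p.toRingHom.toAlgebra
    letI : Algebra E S' := p'.toRingHom.toAlgebra
    haveI : IsNoetherian E S :=
      isNoetherian_of_surjective_algebraMap hp
    haveI : IsNoetherian E S' :=
      isNoetherian_of_surjective_algebraMap hp'
    exact isNoetherian_of_injective ((Algebra.linearMap E S).prod (Algebra.linearMap E S'))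
      fun x y h => Subtype.ext h
  haveI : Nontrivial E := hp.nontrivial
  haveI : IsLocalHom (g : S →+* B) := IsLocalHom.of_surjective _ hg
  haveI : IsLocalHom (g' : S' →+* B) := IsLocalHom.of_surjective _ hg'
  haveI : IsLocalRing E := by
    have hu : ∀ c : E, IsUnit (p c) → IsUnit c := by
      intro c h
      have h' : IsUnit (p' c) := isUnit_of_map_unit (g' : S' →+* B) _ (hpeq c ▸ h.map g)
      obtain ⟨v, hv⟩ := h.exists_right_inv
      obtain ⟨v', hv'⟩ := h'.exists_right_inv
      have hmem : g v = g' v' := left_inv_eq_right_inv (a := g (p c))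
        (by rw [← map_mul, mul_comm, hv, map_one]) (by rw [hpeq, ← map_mul, hv', map_one])
      exact IsUnit.of_mul_eq_one (a := c) (⟨(v, v'), hmem⟩ : E) (Subtype.ext (Prod.ext hv hv'))
    exact IsLocalRing.of_nonunits_add fun a b ha hb hab =>
      (IsLocalRing.isUnit_or_isUnit_of_isUnit_add
        (show IsUnit (p a + p b) from map_add p a b ▸ hab.map p)).elim (fun h => ha (hu a h))
        (fun h => hb (hu b h))
  haveI : IsLocalHom (p : E →+* S) := IsLocalHom.of_surjective _ hp
  haveI : IsLocalHom (p' : E →+* S') := IsLocalHom.of_surjective _ hp'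
  obtain ⟨q, hqloc, hq⟩ := exists_extension (p : E →+* S)
  obtain ⟨q', hqloc', hq'⟩ := exists_extension (p' : E →+* S')
  let C := AdicCompletion (maximalIdeal E) E
  let qA : C →ₐ[A] S := { q with
    commutes' := fun a => by
      change q (algebraMap A C a) = _
      rw [IsScalarTower.algebraMap_apply A E C, hq]
      exact p.commutes a }
  let qA' : C →ₐ[A] S' := { q' with
    commutes' := fun a => by
      change q' (algebraMap A C a) = _
      rw [IsScalarTower.algebraMap_apply A E C, hq']
      exact p'.commutes a }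
  have hqs : Function.Surjective qA := fun s => by
    obtain ⟨c, rfl⟩ := hp s
    exact ⟨algebraMap E C c, hq c⟩
  have hqs' : Function.Surjective qA' := fun s => by
    obtain ⟨c, rfl⟩ := hp' s
    exact ⟨algebraMap E C c, hq' c⟩
  haveI : IsLocalHom ((g : S →+* B).comp q) := RingHom.isLocalHom_comp _ _
  haveI : IsLocalHom ((g' : S' →+* B).comp q') := RingHom.isLocalHom_comp _ _
  have hcomm : g.comp qA = g'.comp qA' := AlgHom.coe_ringHom_injective
    (hom_ext_completion ((g : S →+* B).comp q) ((g' : S' →+* B).comp q') fun c =>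
      (congrArg g (hq c)).trans ((hpeq c).trans (congrArg g' (hq' c)).symm))
  haveI : IsLocalHom (algebraMap A C) := ⟨fun a ha => by
    have := ha.map (g.comp qA)
    rw [(g.comp qA).commutes] at this
    exact isUnit_of_map_unit (algebraMap A B) a this⟩
  obtain ⟨T, _, _, _, _, _, _, π, hπ⟩ := AvramovFlat.exists_factor (A := A) (B := C)
  rw [← step (qA.comp π) (hqs.comp hπ) g hg, ← step (qA'.comp π) (hqs'.comp hπ) g' hg',
    ← AlgHom.comp_assoc, ← AlgHom.comp_assoc, hcomm]

theorem main {A B S S' : Type u} [CommRing A] [CommRing B]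
    [CommRing S] [CommRing S'] [IsNoetherianRing A] [IsNoetherianRing B] [IsNoetherianRing S]
    [IsNoetherianRing S'] [IsLocalRing A] [IsLocalRing B] [IsLocalRing S] [IsLocalRing S']
    [IsAdicComplete (maximalIdeal A) A] [IsAdicComplete (maximalIdeal B) B]
    [Algebra A B] [Algebra A S] [Algebra A S'] [IsLocalHom (algebraMap A B)]
    [Module.Flat A S] [Module.Flat A S']
    [IsRegularLocalRing (S ⧸ (maximalIdeal A).map (algebraMap A S))]
    [IsRegularLocalRing (S' ⧸ (maximalIdeal A).map (algebraMap A S'))]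
    (g : S →ₐ[A] B) (g' : S' →ₐ[A] B) (hg : Function.Surjective g)
    (hg' : Function.Surjective g') :
    (∃ rs : List S, Ideal.ofList rs = RingHom.ker g ∧ IsRegular S rs) ↔
      (∃ rs : List S', Ideal.ofList rs = RingHom.ker g' ∧ IsRegular S' rs) := by
  obtain ⟨Sh, _, _, _, _, _, _, _, gh, hgh, he⟩ := completion_factor g hg
  obtain ⟨Sh', _, _, _, _, _, _, _, gh', hgh', he'⟩ := completion_factor g' hg'
  rw [he, he']
  exact complete gh gh' hgh hgh'

end Groth.Agent.H80.KernelIndependence
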