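import Groth.Prelude.Def_Koszul
import Groth.Prelude.Def_DRing4
import Mathlib.Algebra.Homology.Monoidal
import Mathlib.Algebra.Homology.HomotopyCategory.Pretriangulated

/-!
# Tensor products of mapping cones and Koszul complexes
-/

set_option autoImplicit false
set_option backward.isDefEq.respectTransparency false
universe u

open CategoryTheory CategoryTheory.Limits MonoidalCategory CochainComplex CochainComplex.HomComplex

namespace Groth.Agent.H80.KoszulTensor

variable {A : Type u} [CommRing A]

/-- The tensor product of two complexes. -/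
noncomputable abbrev T (K L : CochainComplex (ModuleCat.{u} A) ℤ) : CochainComplex (ModuleCat.{u} A) ℤ :=
  HomologicalComplex.tensorObj K L

variable {K K' K'' : CochainComplex (ModuleCat.{u} A) ℤ} (L : CochainComplex (ModuleCat.{u} A) ℤ)

/-- The inclusion of a summand. -/
noncomputable abbrev ιT (K L : CochainComplex (ModuleCat.{u} A) ℤ) (p q j : ℤ) (h : p + q = j) :
    K.X p ⊗ L.X q ⟶ (T K L).X j :=
  HomologicalComplex.ιTensorObj K L p q j h

theorem hom_extT {K L : CochainComplex (ModuleCat.{u} A) ℤ} {j : ℤ} {Y : ModuleCat.{u} A}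
    {f g : (T K L).X j ⟶ Y} (h : ∀ p q (hpq : p + q = j), ιT K L p q j hpq ≫ f = ιT K L p q j hpq ≫ g) :
    f = g :=
  HomologicalComplex.mapBifunctor.hom_ext h

theorem ι_d (p q j j' p' q' : ℤ) (h : p + q = j) (hp : p + 1 = p') (hq : q + 1 = q') (hj : j + 1 = j') :
    ιT K L p q j h ≫ (T K L).d j j' =
      (K.d p p' ▷ L.X q) ≫ ιT K L p' q j' (by omega) +
        p.negOnePow • ((K.X p ◁ L.d q q') ≫ ιT K L p q' j' (by omega)) := by
  show _ ≫ (HomologicalComplex.mapBifunctor K L (curriedTensor _) (ComplexShape.up ℤ)).d j j' = _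
  rw [HomologicalComplex.mapBifunctor.d_eq, Preadditive.comp_add]
  erw [HomologicalComplex.mapBifunctor.ι_D₁, HomologicalComplex.mapBifunctor.ι_D₂]
  rw [HomologicalComplex.mapBifunctor.d₁_eq K L (curriedTensor _) (ComplexShape.up ℤ)
      (show (ComplexShape.up ℤ).Rel p p' from hp) q j' (show p' + q = j' by omega),
    HomologicalComplex.mapBifunctor.d₂_eq K L (curriedTensor _) (ComplexShape.up ℤ) p
      (show (ComplexShape.up ℤ).Rel q q' from hq) j' (show p + q' = j' by omega)]
  simp

/-- Tensoring a cochain with a complex on the right. -/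
noncomputable def whisk {n : ℤ} (z : Cochain K K' n) : Cochain (T K L) (T K' L) n :=
  Cochain.mk fun j j' hj => HomologicalComplex.mapBifunctorDesc fun p q hpq =>
    (z.v p (p + n) rfl ▷ L.X q) ≫ ιT K' L (p + n) q j' (by
      have : p + q = j := hpq
      omega)

theorem ι_whisk {n : ℤ} (z : Cochain K K' n) (p q j j' p' : ℤ) (h : p + q = j) (hp : p + n = p')
    (hj : j + n = j') :
    ιT K L p q j h ≫ (whisk L z).v j j' hj = (z.v p p' hp ▷ L.X q) ≫ ιT K' L p' q j' (by omega) := by
  subst hp
  simp [whisk, Cochain.mk_v]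

theorem whisk_add {n : ℤ} (z z' : Cochain K K' n) : whisk L (z + z') = whisk L z + whisk L z' := by
  refine Cochain.ext _ _ fun j j' hj => ?_
  refine hom_extT fun p q h => ?_
  simp [ι_whisk L _ p q j j' (p + n) h rfl hj, MonoidalPreadditive.add_whiskerRight]

theorem whisk_zero {n : ℤ} : whisk L (0 : Cochain K K' n) = 0 := by
  refine Cochain.ext _ _ fun j j' hj => ?_
  refine hom_extT fun p q h => ?_
  simp [ι_whisk L _ p q j j' (p + n) h rfl hj, MonoidalPreadditive.zero_whiskerRight]

theorem whisk_neg {n : ℤ} (z : Cochain K K' n) : whisk L (-z) = - whisk L z := by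
  rw [eq_neg_iff_add_eq_zero, ← whisk_add, neg_add_cancel, whisk_zero]

theorem whisk_comp {n₁ n₂ n : ℤ} (z₁ : Cochain K K' n₁) (z₂ : Cochain K' K'' n₂) (h : n₁ + n₂ = n) :
    whisk L (z₁.comp z₂ h) = (whisk L z₁).comp (whisk L z₂) h := by
  refine Cochain.ext _ _ fun j j' hj => ?_
  refine hom_extT fun p q hpq => ?_
  rw [ι_whisk L _ p q j j' (p + n) hpq rfl hj,
    Cochain.comp_v _ _ h j (j + n₁) j' rfl (by omega),
    Cochain.comp_v _ _ h p (p + n₁) (p + n) rfl (by omega),
    ← Category.assoc (ιT K L p q j hpq), ι_whisk L z₁ p q j (j + n₁) (p + n₁) hpq rfl rfl,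
    Category.assoc, ι_whisk L z₂ (p + n₁) q (j + n₁) j' (p + n) (by omega) (by omega) (by omega),
    MonoidalCategory.comp_whiskerRight, Category.assoc]

/-- Tensoring a morphism with a complex on the right. -/
noncomputable def whiskHom (φ : K ⟶ K') : T K L ⟶ T K' L :=
  HomologicalComplex.tensorHom φ (𝟙 L)

theorem whisk_ofHom (φ : K ⟶ K') : whisk L (Cochain.ofHom φ) = Cochain.ofHom (whiskHom L φ) := by
  ext j : 1
  refine hom_extT fun p q h => ?_
  rw [ι_whisk L _ p q j j p h (add_zero p) (add_zero j), Cochain.ofHom_v, Cochain.ofHom_v]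
  symm
  refine (HomologicalComplex.ι_mapBifunctorMap φ (𝟙 L) (curriedTensor _) (ComplexShape.up ℤ) p q j h).trans ?_
  simp

theorem whiskHom_id : whiskHom L (𝟙 K) = 𝟙 _ := by
  ext j : 1
  refine hom_extT fun p q h => ?_
  refine (HomologicalComplex.ι_mapBifunctorMap (𝟙 K) (𝟙 L) (curriedTensor _) (ComplexShape.up ℤ) p q j h).trans ?_
  simp

theorem δ_whisk {n m : ℤ} (hnm : n + 1 = m) (z : Cochain K K' n) :
    δ n m (whisk L z) = whisk L (δ n m z) := by
  refine Cochain.ext _ _ fun j j' hj => ?_
  refine hom_extT fun p q h => ?_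
  rw [δ_v n m hnm _ j j' hj (j + n) (j + 1) (by omega) rfl,
    ι_whisk L (δ n m z) p q j j' (p + m) h rfl hj,
    δ_v n m hnm z p (p + m) rfl (p + n) (p + 1) (by omega) rfl,
    Preadditive.comp_add, Linear.comp_units_smul,
    ← Category.assoc (ιT K L p q j h), ι_whisk L z p q j (j + n) (p + n) h rfl rfl, Category.assoc,
    ι_d L (p + n) q (j + n) j' (p + m) (q + 1) (by omega) (by omega) rfl (by omega),
    ← Category.assoc (ιT K L p q j h), ι_d L p q j (j + 1) (p + 1) (q + 1) h rfl rfl rfl,
    Preadditive.add_comp, Category.assoc, Linear.units_smul_comp, Category.assoc,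
    ι_whisk L z (p + 1) q (j + 1) j' (p + m) (by omega) (by omega) (by omega),
    ι_whisk L z p (q + 1) (j + 1) j' (p + n) (by omega) rfl (by omega),
    Preadditive.comp_add, Linear.comp_units_smul]
  rw [← Category.assoc (z.v p (p + n) rfl ▷ L.X q), ← Category.assoc (z.v p (p + n) rfl ▷ L.X q),
    ← Category.assoc (K.d p (p + 1) ▷ L.X q), ← Category.assoc (K.X p ◁ L.d q (q + 1)),
    MonoidalCategory.whisker_exchange (z.v p (p + n) rfl) (L.d q (q + 1))]
  rw [smul_add, smul_smul, MonoidalPreadditive.add_whiskerRight, Preadditive.add_comp]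
  have hsgn : m.negOnePow * p.negOnePow = - (p + n).negOnePow := by
    rw [← hnm, Int.negOnePow_succ, neg_mul, ← Int.negOnePow_add, add_comm n p]
  rw [hsgn, Units.neg_smul, MonoidalCategory.comp_whiskerRight]
  have hsm : ∀ {X Y : ModuleCat.{u} A} (e : ℤˣ) (g : X ⟶ Y) (Z : ModuleCat.{u} A),
      (e • g) ▷ Z = e • (g ▷ Z) := fun e g Z => by
    rcases Int.units_eq_one_or e with rfl | rfl
    · rw [one_smul, one_smul]
    · rw [Units.neg_smul, one_smul, Units.neg_smul, one_smul, eq_neg_iff_add_eq_zero,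
        ← MonoidalPreadditive.add_whiskerRight, neg_add_cancel, MonoidalPreadditive.zero_whiskerRight]
  rw [hsm, Linear.units_smul_comp, MonoidalCategory.comp_whiskerRight]
  simp only [Category.assoc]
  abel

variable (φ : K ⟶ K')

/-- The cone of a tensored morphism maps to the tensored cone. -/
noncomputable def coneTensorHom : mappingCone (whiskHom L φ) ⟶ T (mappingCone φ) L :=
  mappingCone.desc (whiskHom L φ) (whisk L (mappingCone.inl φ)) (whiskHom L (mappingCone.inr φ)) (by
    rw [δ_whisk L (neg_add_cancel 1), mappingCone.δ_inl, Cochain.ofHom_comp, whisk_comp,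
      whisk_ofHom, whisk_ofHom, ← Cochain.ofHom_comp])

/-- The inverse. -/
noncomputable def coneTensorInv : T (mappingCone φ) L ⟶ mappingCone (whiskHom L φ) :=
  mappingCone.lift (whiskHom L φ)
    (Cocycle.mk (whisk L (mappingCone.fst φ).1) 2 (by norm_num) (by
      rw [δ_whisk L (by norm_num), Cocycle.δ_eq_zero, whisk_zero]))
    (whisk L (mappingCone.snd φ)) (by
      rw [δ_whisk L (zero_add 1), mappingCone.δ_snd, whisk_neg, whisk_comp, whisk_ofHom]
      exact neg_add_cancel _)

theorem coneTensor_inv_hom : coneTensorInv L φ ≫ coneTensorHom L φ = 𝟙 _ := by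
  ext n : 1
  rw [HomologicalComplex.comp_f, coneTensorInv, coneTensorHom, mappingCone.lift_desc_f _ _ _ _ _ _ _ n (n + 1) rfl]
  have h := congrArg (fun z => (whisk L z).v n n (add_zero n)) (mappingCone.id φ)
  simp only [whisk_add, whisk_comp, whisk_ofHom, whiskHom_id] at h
  simpa [Cochain.comp_v _ _ (add_neg_cancel 1) n (n + 1) n rfl (by omega)] using h

theorem coneTensor_hom_inv : coneTensorHom L φ ≫ coneTensorInv L φ = 𝟙 _ := by
  ext n : 1
  refine mappingCone.ext_from _ (n + 1) n rfl ?_ ?_
  · rw [HomologicalComplex.comp_f, coneTensorHom, coneTensorInv,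
      ← Category.assoc, mappingCone.inl_v_desc_f, HomologicalComplex.id_f, Category.comp_id]
    refine mappingCone.ext_to _ n (n + 1) rfl ?_ ?_
    · have h := congrArg (fun z => (whisk L z).v (n + 1) (n + 1) (add_zero _)) (mappingCone.inl_fst φ)
      simp only [whisk_comp, whisk_ofHom, whiskHom_id] at h
      simpa [Cochain.comp_v _ _ (neg_add_cancel 1) (n + 1) n (n + 1) (by omega) rfl] using h
    · have h := congrArg (fun z => (whisk L z).v (n + 1) n (by omega)) (mappingCone.inl_snd φ)
      simp only [whisk_comp, whisk_zero] at h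
      simpa using h
  · rw [HomologicalComplex.comp_f, coneTensorHom, coneTensorInv,
      ← Category.assoc, mappingCone.inr_f_desc_f, HomologicalComplex.id_f, Category.comp_id]
    refine mappingCone.ext_to _ n (n + 1) rfl ?_ ?_
    · have h := congrArg (fun z => (whisk L z).v n (n + 1) rfl) (mappingCone.inr_fst φ)
      simp only [whisk_comp, whisk_zero, whisk_ofHom] at h
      simpa using h
    · have h := congrArg (fun z => (whisk L z).v n n (add_zero n)) (mappingCone.inr_snd φ)
      simp only [whisk_comp, whisk_ofHom, whiskHom_id] at h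
      simpa using h

/-- Tensor products commute with mapping cones. -/
noncomputable def coneTensorIso : T (mappingCone φ) L ≅ mappingCone (whiskHom L φ) :=
  ⟨coneTensorInv L φ, coneTensorHom L φ, coneTensor_inv_hom L φ, coneTensor_hom_inv L φ⟩

theorem whiskHom_smul_id (f : A) : whiskHom L (f • 𝟙 K) = f • 𝟙 (T K L) := by
  ext j : 1
  refine hom_extT fun p q h => ?_
  refine (HomologicalComplex.ι_mapBifunctorMap (f • 𝟙 K) (𝟙 L) (curriedTensor _) (ComplexShape.up ℤ) p q j h).trans ?_
  simp [MonoidalLinear.smul_whiskerRight]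

/-- Cones of multiplication by `f` on isomorphic complexes. -/
theorem nonempty_coneIso {P Q : CochainComplex (ModuleCat.{u} A) ℤ} (e : P ≅ Q) (f : A) :
    Nonempty (mappingCone (f • 𝟙 P) ≅ mappingCone (f • 𝟙 Q)) := by
  refine ⟨⟨mappingCone.map _ _ e.hom e.hom (by simp), mappingCone.map _ _ e.inv e.inv (by simp), ?_, ?_⟩⟩
  · rw [← mappingCone.map_comp]
    simp only [e.hom_inv_id]
    exact mappingCone.map_id _
  · rw [← mappingCone.map_comp]
    simp only [e.inv_hom_id]
    exact mappingCone.map_id _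

theorem nonempty_koszul_tensor : ∀ (f g : List A),
    Nonempty (T (Koszul.koszul A f) (Koszul.koszul A g) ≅ Koszul.koszul A (f ++ g))
  | [], g => ⟨HomologicalComplex.leftUnitor (Koszul.koszul A g)⟩
  | a :: f, g => by
    obtain ⟨e⟩ := nonempty_koszul_tensor f g
    obtain ⟨e'⟩ := nonempty_coneIso e a
    exact ⟨coneTensorIso _ _ ≪≫ eqToIso (by rw [whiskHom_smul_id]) ≪≫ e'⟩

end Groth.Agent.H80.KoszulTensor
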