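import Groth.Agent.Lib.Pure.Chain
import Groth.Agent.Lib.Pure.UI
import Groth.Agent.S6361
import Groth.Agent.Lib.Henselian.Finite
import Mathlib

/-!
Countably generated Mittag-Leffler modules over henselian local rings: finitely presented
direct summands through any given element.
-/

set_option autoImplicit false

universe u

open CAlg

namespace Groth.Agent.H80.MLSummand

open Groth.Agent.Lib.Pure

variable {R : Type u} [CommRing R] [HenselianLocalRing R]

/-- In a finite algebra over a henselian local ring, every element splits into a unit part and a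
part `t` with `1 - t` invertible. -/
theorem exists_split (C : Type u) [CommRing C] [Algebra R C] [Module.Finite R C] (t : C) :
    ∃ e v w : C, IsIdempotentElem e ∧ t * v = e ∧ v * e = v ∧ (1 - t) * w = 1 - e := by
  classical
  obtain ⟨ι, hι, D, hD, hloc, ⟨φ⟩⟩ :=
    Groth.Agent.Lib.Henselian.Finite.exists_ringEquiv_pi_isLocalRing R C
  let e' : ∀ i, D i := fun i => if IsUnit (φ t i) then 1 else 0
  let v' : ∀ i, D i := fun i => if h : IsUnit (φ t i) then ↑h.unit⁻¹ else 0
  let w' : ∀ i, D i := fun i => if h : IsUnit (φ t i) then 0 else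
    ↑((IsLocalRing.isUnit_one_sub_self_of_mem_nonunits (φ t i) h).unit)⁻¹
  refine ⟨φ.symm e', φ.symm v', φ.symm w', ?_, ?_, ?_, ?_⟩
  · refine φ.injective (?_ : φ (_ * _) = φ _)
    rw [map_mul, φ.apply_symm_apply]
    funext i
    by_cases h : IsUnit (φ t i) <;> simp [e', h]
  · refine φ.injective ?_
    rw [map_mul, φ.apply_symm_apply, φ.apply_symm_apply]
    funext i
    by_cases h : IsUnit (φ t i) <;> simp [e', v', h]
  · refine φ.injective ?_
    rw [map_mul, φ.apply_symm_apply, φ.apply_symm_apply]
    funext i
    by_cases h : IsUnit (φ t i) <;> simp [e', v', h]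
  · refine φ.injective ?_
    rw [map_mul, map_sub, map_sub, map_one, φ.apply_symm_apply, φ.apply_symm_apply]
    funext i
    by_cases h : IsUnit (φ t i) <;> simp [e', w', h]

variable {M : Type u} [AddCommGroup M] [Module R M]

/-- A finitely presented direct summand through the image of a map from a finite module. -/
theorem exists_projector_comp (hc : IsCountablyGenerated R M) (hML : IsMittagLeffler R M)
    {F : Type u} [AddCommGroup F] [Module R F] [Module.Finite R F] (f : F →ₗ[R] M) :
    ∃ p : M →ₗ[R] M, IsIdempotentElem p ∧ p ∘ₗ f = f ∧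
      Module.FinitePresentation R (LinearMap.range p) := by
  obtain ⟨Q, _, _, _, b, c, hbc⟩ := Groth.Agent.S6361.result R M hML hc f
  have hxall : ∀ y, c (b (f y)) = f y := fun y => LinearMap.congr_fun hbc y
  let u : Module.End R Q := b ∘ₗ c
  obtain ⟨P, hP, hPu⟩ := LinearMap.exists_monic_and_aeval_eq_zero R u
  haveI : Module.Finite R (AdjoinRoot P) := hP.finite_adjoinRoot
  let φ : AdjoinRoot P →ₐ[R] Module.End R Q := Ideal.Quotient.liftₐ _ (Polynomial.aeval u) fun a ha => by
    obtain ⟨q, rfl⟩ := Ideal.mem_span_singleton'.mp ha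
    rw [map_mul, hPu, mul_zero]
  have hφ : φ (AdjoinRoot.root P) = u := Polynomial.aeval_X u
  obtain ⟨e, v, w, he, htv, hve, hw⟩ := exists_split (R := R) (AdjoinRoot P) (AdjoinRoot.root P)
  have huv : u * φ v = φ e := by rw [← hφ, ← map_mul, htv]
  have hvu : φ v * u = φ e := by rw [← hφ, ← map_mul, mul_comm, htv]
  have hvev : φ v * φ e = φ v := by rw [← map_mul, hve]
  have hevv : φ e * φ v = φ v := by rw [← map_mul, mul_comm, hve]
  have hbx : ∀ x, c (b x) = x → φ e (b x) = b x := by
    intro x hx
    have h1 : (1 - u) (b x) = 0 := by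
      rw [LinearMap.sub_apply, Module.End.one_apply, sub_eq_zero]
      exact congrArg b hx.symm
    have h2 : φ (1 - e) = φ w * (1 - u) := by
      rw [← hw, mul_comm, map_mul, map_sub, map_one, hφ]
    have h3 := LinearMap.congr_fun h2 (b x)
    rw [map_sub, map_one, Module.End.mul_apply, h1, map_zero, LinearMap.sub_apply,
      Module.End.one_apply, sub_eq_zero] at h3
    exact h3.symm
  have hp2 : ∀ y, c (φ v (b (c (φ v (b y))))) = c (φ v (b y)) := fun y => by
    have : φ v (u (φ v (b y))) = φ v (b y) := by
      rw [← Module.End.mul_apply, ← Module.End.mul_apply, hvu, hevv]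
    exact congrArg c this
  refine ⟨c ∘ₗ φ v ∘ₗ b, LinearMap.ext hp2, ?_, ?_⟩
  · refine LinearMap.ext fun y => ?_
    show c (φ v (b (f y))) = f y
    have hx := hxall y
    generalize f y = x at hx ⊢
    have : φ v (b x) = b x := by
      have h1 : φ v (u (b x)) = φ e (b x) := by rw [← Module.End.mul_apply, hvu]
      rw [hbx x hx, show u (b x) = b x from congrArg b hx] at h1
      exact h1
    rw [this, hx]
  · let l : Q →ₗ[R] LinearMap.range (c ∘ₗ φ v ∘ₗ b) := (c ∘ₗ φ v).codRestrict _ fun y =>
      ⟨c (φ v y), by
        show c (φ v (u (φ v y))) = c (φ v y)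
        rw [← Module.End.mul_apply, ← Module.End.mul_apply, hvu, hevv]⟩
    refine Module.finitePresentation_of_surjective l ?_ ?_
    · rintro ⟨_, y, rfl⟩
      exact ⟨b y, rfl⟩
    · have hker : LinearMap.ker l = LinearMap.range (1 - φ e : Module.End R Q) := by
        ext y
        rw [LinearMap.mem_ker]
        constructor
        · intro hy
          have h0 : c (φ v y) = 0 := congrArg Subtype.val hy
          have h1 : φ e y = 0 := by
            rw [← huv, Module.End.mul_apply]
            show b (c (φ v y)) = 0
            rw [h0, map_zero]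
          exact ⟨y, by rw [LinearMap.sub_apply, Module.End.one_apply, h1, sub_zero]⟩
        · rintro ⟨z, rfl⟩
          refine Subtype.ext ?_
          show c (φ v ((1 - φ e : Module.End R Q) z)) = 0
          rw [← Module.End.mul_apply, mul_sub, mul_one, hvev, sub_self, LinearMap.zero_apply, map_zero]
      rw [hker, LinearMap.range_eq_map]
      exact Module.Finite.fg_top.map _

/-- Every element lies in a finitely presented direct summand. -/
theorem exists_projector (hc : IsCountablyGenerated R M) (hML : IsMittagLeffler R M) (x : M) :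
    ∃ p : M →ₗ[R] M, IsIdempotentElem p ∧ p x = x ∧ Module.FinitePresentation R (LinearMap.range p) := by
  obtain ⟨p, hp, hpf, hfp⟩ := exists_projector_comp hc hML (LinearMap.toSpanSingleton R M x)
  exact ⟨p, hp, by simpa using LinearMap.congr_fun hpf 1, hfp⟩

end Groth.Agent.H80.MLSummand
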