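import Groth.Agent.Lib.TorObstruction.Bridge
import Groth.Agent.Lib.Regular.Serre
import Mathlib.RingTheory.Ideal.Quotient.Operations
import Mathlib.LinearAlgebra.FreeModule.Basic

/-!
# Finite tor dimension and relations lying in `m J`

If `A / J` has finite tor dimension over `A / I`, then `I ∩ m J ≤ m I`.  The proof lifts a minimal
resolution of `A / J` over `A / I` to `A` and compares it with a periodic complex `D ∘ D = x`.
-/

set_option autoImplicit false
set_option linter.style.haveILetI false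
set_option linter.unusedSectionVars false

universe u

namespace Groth.Agent.H80.MinResObstruction

open IsLocalRing Groth.Agent.Lib.TorObstruction.Bridge CategoryTheory

section MinRes

variable {R : Type u} [CommRing R] [IsLocalRing R] [IsNoetherianRing R]

/-- The next step of a minimal resolution. -/
theorem exists_next_minimal {a b : ℕ} (M : Fin a → Fin b → R) :
    ∃ (c : ℕ) (M' : Fin b → Fin c → R), (∀ v : Fin b → R,
      mv M v = 0 ↔ ∃ w : Fin c → R, mv M' w = v) ∧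
      ∀ w : Fin c → R, mv M' w = 0 → ∀ i, w i ∈ maximalIdeal R := by
  obtain ⟨c, g, hg, hmin⟩ :=
    Lib.Regular.Serre.exists_minimal_cover (R := R) (LinearMap.ker (mv (V := R) M))
  obtain ⟨M', hM'⟩ := exists_matrix ((LinearMap.ker (mv (V := R) M)).subtype ∘ₗ g)
  refine ⟨c, M', fun v => ⟨fun hv => ?_, ?_⟩, fun w hw => hmin w (Subtype.ext ?_)⟩
  · obtain ⟨w, hw⟩ := hg ⟨v, hv⟩
    exact ⟨w, by rw [hM', LinearMap.comp_apply, hw]; rfl⟩
  · rintro ⟨w, rfl⟩
    rw [hM']
    exact (g w).2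
  · rw [hM'] at hw
    exact hw

/-- A minimal free resolution of `R / I`. -/
theorem exists_minimal_resolution (I : Ideal R) (hI : I ≤ maximalIdeal R) :
    ∃ (n : ℕ → ℕ) (M : ∀ j, Fin (n j) → Fin (n (j + 1)) → R) (i0 : Fin (n 0)),
      Subsingleton (Fin (n 0)) ∧
      (∀ v : Fin (n 0) → R, (∃ w : Fin (n 1) → R, mv (M 0) w = v) ↔ v i0 ∈ I) ∧
      (∀ j (v : Fin (n (j + 1)) → R),
        mv (M j) v = 0 ↔ ∃ w : Fin (n (j + 2)) → R, mv (M (j + 1)) w = v) ∧
      ∀ j i k, M j i k ∈ maximalIdeal R := by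
  classical
  obtain ⟨b, g, hg, hgmin⟩ := Lib.Regular.Serre.exists_minimal_cover (R := R) I
  obtain ⟨M₀, hM₀⟩ := exists_matrix
    ((LinearMap.pi fun _ : Fin 1 => (I.subtype ∘ₗ g)) : (Fin b → R) →ₗ[R] (Fin 1 → R))
  choose c next hnext using fun s : Step R => exists_next_minimal (R := R) s.2.2
  let seq : ℕ → Step R := fun j => Nat.rec (motive := fun _ => Step R) ⟨1, b, M₀⟩
    (fun _ s => ⟨s.2.1, c s, next s⟩) j
  let n : ℕ → ℕ := fun j => match j with
    | 0 => 1
    | j + 1 => (seq j).2.1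
  let M : ∀ j, Fin (n j) → Fin (n (j + 1)) → R := fun j => match j with
    | 0 => M₀
    | j + 1 => next (seq j)
  have hminker : ∀ j (v : Fin (n (j + 1)) → R), mv (M j) v = 0 → ∀ i, v i ∈ maximalIdeal R := by
    intro j
    cases j with
    | zero =>
      intro v hv
      refine hgmin v (Subtype.ext ?_)
      change mv M₀ v = 0 at hv
      rw [hM₀] at hv
      exact congr_fun hv 0
    | succ j => exact (hnext (seq j)).2
  have hex : ∀ j (v : Fin (n (j + 1)) → R),
      mv (M j) v = 0 ↔ ∃ w : Fin (n (j + 2)) → R, mv (M (j + 1)) w = v := by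
    intro j v
    cases j with
    | zero => exact (hnext (seq 0)).1 v
    | succ j => exact (hnext (seq (j + 1))).1 v
  refine ⟨n, M, (0 : Fin 1), inferInstanceAs (Subsingleton (Fin 1)), fun v => ⟨?_, fun hv => ?_⟩,
    hex, fun j i k => ?_⟩
  · rintro ⟨w, rfl⟩
    change mv M₀ w 0 ∈ I
    rw [hM₀]
    exact (g w).2
  · obtain ⟨w, hw⟩ := hg ⟨v 0, hv⟩
    refine ⟨w, ?_⟩
    change mv M₀ w = v
    rw [hM₀]
    funext i
    obtain rfl : i = (0 : Fin 1) := Subsingleton.elim _ _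
    change ((g w : I) : R) = _
    rw [hw]
  · have hcol : ∀ (a : ℕ) (k : Fin (n (a + 1))), mv (M a) (Pi.single k 1) = fun i => M a i k :=
      fun a k => funext fun i => by simp [mv_apply, Pi.single_apply]
    cases j with
    | zero =>
      refine hI ?_
      obtain rfl : i = (0 : Fin 1) := Subsingleton.elim _ _
      have h := congr_fun (hcol 0 k) (0 : Fin 1)
      change mv M₀ _ 0 = _ at h
      rw [hM₀] at h
      change _ ∈ I
      rw [← h]
      exact (g _).2
    | succ j => exact hminker j _ ((hex j _).2 ⟨_, hcol (j + 1) k⟩) i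

/-- Vanishing of `Tor` against the residue field kills the minimal resolution. -/
theorem eq_zero_of_subsingleton_tor (I : Ideal R) (n : ℕ → ℕ)
    (M : ∀ j, Fin (n j) → Fin (n (j + 1)) → R) (i0 : Fin (n 0)) [Subsingleton (Fin (n 0))]
    (h0 : ∀ v : Fin (n 0) → R, (∃ w : Fin (n 1) → R, mv (M 0) w = v) ↔ v i0 ∈ I)
    (hex : ∀ j (v : Fin (n (j + 1)) → R),
      mv (M j) v = 0 ↔ ∃ w : Fin (n (j + 2)) → R, mv (M (j + 1)) w = v)
    (hM : ∀ j i k, M j i k ∈ maximalIdeal R) (p : ℕ)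
    (htor : Subsingleton (DRing.Tor R (p + 1) (R ⧸ maximalIdeal R) (R ⧸ I))) : n (p + 1) = 0 := by
  have hzero : ∀ j (t : Fin (n (j + 1)) → R ⧸ maximalIdeal R), mv (M j) t = 0 := by
    intro j t
    funext i
    rw [mv_apply, Pi.zero_apply]
    refine Finset.sum_eq_zero fun k _ => ?_
    obtain ⟨r, hr⟩ := Ideal.Quotient.mk_surjective (t k)
    rw [← hr]
    change Ideal.Quotient.mk _ (M j i k * r) = 0
    exact Ideal.Quotient.eq_zero_iff_mem.mpr (Ideal.mul_mem_right _ _ (hM j i k))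
  by_contra h
  obtain ⟨k⟩ : Nonempty (Fin (n (p + 1))) := ⟨⟨0, Nat.pos_of_ne_zero h⟩⟩
  obtain ⟨t, ht⟩ := exact_of_subsingleton_tor I n M i0 h0 hex (R ⧸ maximalIdeal R) p htor
    (fun _ => 1) (hzero p _)
  rw [hzero] at ht
  exact zero_ne_one (α := R ⧸ maximalIdeal R) (congr_fun ht k)

end MinRes

variable {A : Type u} [CommRing A]

/-- `x` is the square of an operator with values in `m P`, compatible with `J`. -/
def Factors (𝔪 J : Ideal A) (x : A) : Prop :=
  ∃ (P : Type u) (_ : AddCommGroup P) (_ : Module A P) (_ : Module.Free A P) (D : P →ₗ[A] P)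
    (ε : P →ₗ[A] A) (e : P), ε e = 1 ∧ (∀ v, D v ∈ 𝔪 • (⊤ : Submodule A P)) ∧
    (∀ v, D (D v) = x • v) ∧ ∀ v, ε (D v) ∈ J

theorem factors_zero (𝔪 J : Ideal A) : Factors 𝔪 J 0 :=
  ⟨A, inferInstance, inferInstance, inferInstance, 0, LinearMap.id, 1, rfl, fun v => by simp,
    fun v => by simp, fun v => by simp⟩

theorem factors_add_mul {𝔪 J : Ideal A} {x a b : A} (h : Factors 𝔪 J x) (hJ : J ≤ 𝔪) (ha : a ∈ 𝔪)
    (hb : b ∈ J) : Factors 𝔪 J (x + a * b) := by
  obtain ⟨P, _, _, _, D, ε, e, he, hD, hDD, hε⟩ := h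
  have hpair : ∀ u v : P, u ∈ 𝔪 • (⊤ : Submodule A P) → v ∈ 𝔪 • (⊤ : Submodule A P) →
      (u, v) ∈ 𝔪 • (⊤ : Submodule A (P × P)) := by
    intro u v hu hv
    have h1 := Submodule.mem_map_of_mem (f := LinearMap.inl A P P) hu
    have h2 := Submodule.mem_map_of_mem (f := LinearMap.inr A P P) hv
    rw [Submodule.map_smul''] at h1 h2
    have h3 := add_mem (Submodule.smul_mono le_rfl le_top h1) (Submodule.smul_mono le_rfl le_top h2)
    simpa using h3
  refine ⟨P × P, inferInstance, inferInstance, inferInstance,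
    ((D ∘ₗ LinearMap.fst A P P) + b • LinearMap.snd A P P).prod
      (a • LinearMap.fst A P P - D ∘ₗ LinearMap.snd A P P),
    ε ∘ₗ LinearMap.fst A P P, (e, 0), he, fun v => hpair _ _ ?_ ?_, fun v => ?_, fun v => ?_⟩
  · exact add_mem (hD _) (Submodule.smul_mem_smul (hJ hb) Submodule.mem_top)
  · exact sub_mem (Submodule.smul_mem_smul ha Submodule.mem_top) (hD _)
  · obtain ⟨u, w⟩ := v
    simp only [LinearMap.prod_apply, Function.prod_apply, LinearMap.add_apply, LinearMap.sub_apply,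
      LinearMap.smul_apply, LinearMap.comp_apply, LinearMap.fst_apply, LinearMap.snd_apply, map_add,
      map_sub, map_smul, hDD, Prod.smul_mk, Prod.mk.injEq]
    constructor <;> module
  · simp only [LinearMap.comp_apply, LinearMap.prod_apply, Function.prod_apply, LinearMap.fst_apply,
      LinearMap.snd_apply, LinearMap.add_apply, LinearMap.smul_apply, map_add, map_smul, smul_eq_mul]
    exact add_mem (hε _) (Ideal.mul_mem_right _ _ hb)

theorem factors_of_mem_mul {𝔪 J : Ideal A} (hJ : J ≤ 𝔪) {x : A} (hx : x ∈ 𝔪 * J) :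
    Factors 𝔪 J x := by
  suffices h : ∀ y, Factors 𝔪 J y → Factors 𝔪 J (y + x) by
    simpa using h 0 (factors_zero 𝔪 J)
  refine Submodule.mul_induction_on hx (fun a ha b hb y hy => factors_add_mul hy hJ ha hb)
    (fun z w hz hw y hy => ?_)
  rw [← add_assoc]
  exact hw _ (hz _ hy)

/-- A linear map with values in `J`-vectors sends `𝔪 P` into `(𝔪 * J)`-vectors. -/
theorem apply_mem_mul {P : Type u} [AddCommGroup P] [Module A P] {b : ℕ} {𝔪 J : Ideal A}
    (φ : P →ₗ[A] (Fin b → A)) (h : ∀ v i, φ v i ∈ J) {v : P}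
    (hv : v ∈ 𝔪 • (⊤ : Submodule A P)) (i : Fin b) : φ v i ∈ 𝔪 * J := by
  induction hv using Submodule.smul_induction_on' with
  | smul r hr w _ => rw [map_smul, Pi.smul_apply, smul_eq_mul]; exact Ideal.mul_mem_mul hr (h w i)
  | add u _ w _ hu hw => rw [map_add, Pi.add_apply]; exact add_mem hu hw

theorem mv_mem_mul {a b : ℕ} {𝔞 𝔟 : Ideal A} (M : Fin a → Fin b → A) (hM : ∀ i k, M i k ∈ 𝔞)
    {v : Fin b → A} (hv : ∀ k, v k ∈ 𝔟) (i : Fin a) : mv M v i ∈ 𝔞 * 𝔟 := by
  rw [mv_apply]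
  exact sum_mem fun k _ => Ideal.mul_mem_mul (hM i k) (hv k)

theorem mem_mul_of_resolution [IsLocalRing A] {I J : Ideal A} (hJm : J ≤ maximalIdeal A) {x : A}
    (hxI : x ∈ I) (hx : x ∈ maximalIdeal A * J) (n : ℕ → ℕ)
    (M : ∀ j, Fin (n j) → Fin (n (j + 1)) → A) (i0 : Fin (n 0)) [Subsingleton (Fin (n 0))]
    (h0 : ∀ v : Fin (n 0) → A, v i0 ∈ J → ∃ w : Fin (n 1) → A, ∀ i, mv (M 0) w i - v i ∈ I)
    (hex : ∀ j (v : Fin (n (j + 1)) → A), (∀ i, mv (M j) v i ∈ I) →
      ∃ w : Fin (n (j + 2)) → A, ∀ i, mv (M (j + 1)) w i - v i ∈ I)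
    (hcomp : ∀ j (w : Fin (n (j + 2)) → A) i, mv (M j) (mv (M (j + 1)) w) i ∈ I)
    (hM : ∀ j i k, M j i k ∈ maximalIdeal A) (N : ℕ) (hN : n (2 * N) = 0) :
    x ∈ maximalIdeal A * I := by
  classical
  obtain ⟨P, _, _, _, D, ε, e, he, hD, hDD, hεD⟩ := factors_of_mem_mul hJm hx
  let bP := Module.Free.chooseBasis A P
  -- lifting a map through `M j`, modulo `I`
  have hlift : ∀ j (φ : P →ₗ[A] (Fin (n j) → A)),
      (∀ u, ∃ w, ∀ i, mv (M j) w i - φ u i ∈ I) →
      ∃ ψ : P →ₗ[A] (Fin (n (j + 1)) → A), ∀ u i, mv (M j) (ψ u) i - φ u i ∈ I := by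
    intro j φ h
    choose w hw using h
    refine ⟨bP.constr A fun k => w (bP k), fun u => ?_⟩
    let Φ := (mv (V := A) (M j)) ∘ₗ (bP.constr A fun k => w (bP k)) - φ
    intro i
    change Φ u i ∈ I
    have hu : u ∈ Submodule.span A (Set.range bP) := by rw [bP.span_eq]; trivial
    induction hu using Submodule.span_induction with
    | mem v hv =>
      obtain ⟨k, rfl⟩ := hv
      simp only [Φ, LinearMap.sub_apply, LinearMap.comp_apply, Pi.sub_apply, Module.Basis.constr_basis]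
      exact hw _ i
    | zero => simp
    | add v w _ _ hv hw => rw [map_add]; exact add_mem hv hw
    | smul r v _ hv => rw [map_smul]; exact Ideal.mul_mem_left _ r hv
  -- compare the periodic complex with the resolution
  let Good : ∀ j, (P →ₗ[A] (Fin (n j) → A)) → Prop := fun j φ =>
    ∀ u, ∃ w, ∀ i, mv (M j) w i - φ (D u) i ∈ I
  have step : ∀ j (φ : P →ₗ[A] (Fin (n j) → A)), Good j φ →
      ∃ ψ : P →ₗ[A] (Fin (n (j + 1)) → A),
        (∀ u i, mv (M j) (ψ u) i - φ (D u) i ∈ I) ∧ Good (j + 1) ψ := by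
    intro j φ hφ
    obtain ⟨ψ, hψ⟩ := hlift j (φ ∘ₗ D) hφ
    refine ⟨ψ, hψ, fun u => hex j _ fun i => ?_⟩
    have h := hψ (D u) i
    rw [LinearMap.comp_apply, hDD, map_smul, Pi.smul_apply, smul_eq_mul] at h
    have h' := add_mem h (I.mul_mem_right (φ u i) hxI)
    rwa [sub_add_cancel] at h'
  let φ₀ : P →ₗ[A] (Fin (n 0) → A) := LinearMap.pi fun _ => ε
  have hg0 : Good 0 φ₀ := fun u => h0 _ (hεD u)
  choose next hnext hgood using step
  let seq : ∀ j, {φ : P →ₗ[A] (Fin (n j) → A) // Good j φ} := fun j =>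
    Nat.rec (motive := fun j => {φ : P →ₗ[A] (Fin (n j) → A) // Good j φ}) ⟨φ₀, hg0⟩
      (fun j p => ⟨next j p.1 p.2, hgood j p.1 p.2⟩) j
  let ψ : ∀ j, P →ₗ[A] (Fin (n j) → A) := fun j => (seq j).1
  have hψ : ∀ j u i, mv (M j) (ψ (j + 1) u) i - ψ j (D u) i ∈ I := fun j u i =>
    hnext j (seq j).1 (seq j).2 u i
  by_contra hxmI
  have key : ∀ j u, (∀ k, ψ (j + 2) u k ∈ maximalIdeal A) → ∀ i, ψ j u i ∈ maximalIdeal A := by
    intro j u hu i
    by_contra hni
    refine hxmI ?_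
    have h1 : mv (M j) (mv (M (j + 1)) (ψ (j + 2) u)) i ∈ maximalIdeal A * I := by
      have := apply_mem_mul (𝔪 := maximalIdeal A) ((mv (M j)) ∘ₗ (mv (V := A) (M (j + 1))))
        (fun w i => hcomp j w i) (v := ψ (j + 2) u) ?_ i
      · exact this
      · have := sum_mem (t := Finset.univ) (f := fun k => ψ (j + 2) u k • (Pi.single k 1 : Fin _ → A))
          (S := maximalIdeal A • (⊤ : Submodule A (Fin (n (j + 2)) → A)))
          fun k _ => Submodule.smul_mem_smul (hu k) Submodule.mem_top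
        rwa [← pi_eq_sum_univ'] at this
    have h2 : mv (M j) (mv (M (j + 1)) (ψ (j + 2) u) - ψ (j + 1) (D u)) i ∈ maximalIdeal A * I :=
      mv_mem_mul _ (hM j) (fun k => hψ (j + 1) u k) i
    have h3 : mv (M j) (ψ (j + 1) (D u)) i - ψ j (D (D u)) i ∈ maximalIdeal A * I :=
      apply_mem_mul ((mv (V := A) (M j)) ∘ₗ ψ (j + 1) - ψ j ∘ₗ D) (fun v k => hψ j v k) (hD u) i
    rw [map_sub, Pi.sub_apply] at h2
    have h4 := sub_mem h1 (add_mem h2 h3)
    rw [hDD, map_smul, Pi.smul_apply, smul_eq_mul] at h4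
    ring_nf at h4
    exact (Ideal.mul_unit_mem_iff_mem _ (notMem_maximalIdeal.mp hni)).mp h4
  have hall : ∀ t, t ≤ N → ∀ i, ψ (2 * (N - t)) e i ∈ maximalIdeal A := by
    intro t
    induction t with
    | zero =>
      intro _ i
      exact (Fin.cast (by rw [Nat.sub_zero, hN]) i).elim0
    | succ t ih =>
      intro ht
      obtain ⟨q, hq⟩ : ∃ q, N - (t + 1) = q := ⟨_, rfl⟩
      have h' := ih (by omega)
      rw [show N - t = q + 1 by omega] at h'
      rw [hq]
      exact key (2 * q) e h'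
  have h00 := hall N le_rfl
  rw [Nat.sub_self] at h00
  have h1 : ψ (2 * 0) e i0 = 1 := he
  exact one_notMem_maximalIdeal (h1 ▸ h00 i0)
where
  one_notMem_maximalIdeal {R : Type u} [CommRing R] [IsLocalRing R] :
      (1 : R) ∉ maximalIdeal R :=
    (Ideal.ne_top_iff_one _).mp (maximalIdeal.isMaximal R).ne_top

theorem mem_mul_of_hasFiniteTorDim [IsNoetherianRing A] [IsLocalRing A] (I J : Ideal A)
    (hIJ : I ≤ J) (hJ : J ≠ ⊤) [Algebra (A ⧸ I) (A ⧸ J)] [IsScalarTower A (A ⧸ I) (A ⧸ J)]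
    (hfd : DRing.HasFiniteTorDim (A ⧸ I) (A ⧸ J)) {x : A} (hx : x ∈ I)
    (hxm : x ∈ maximalIdeal A * J) : x ∈ maximalIdeal A * I := by
  haveI : Nontrivial (A ⧸ I) :=
    Ideal.Quotient.nontrivial_iff.mpr fun h => hJ (top_le_iff.mp (h ▸ hIJ))
  haveI : IsLocalRing (A ⧸ I) := IsLocalRing.of_surjective' _ Ideal.Quotient.mk_surjective
  obtain ⟨N, hN⟩ := hfd
  let φ := algebraMap (A ⧸ I) (A ⧸ J)
  have hφ : ∀ a, φ (Ideal.Quotient.mk I a) = Ideal.Quotient.mk J a := fun a =>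
    (IsScalarTower.algebraMap_apply A (A ⧸ I) (A ⧸ J) a).symm
  have hφs : Function.Surjective φ := fun y => by
    obtain ⟨a, rfl⟩ := Ideal.Quotient.mk_surjective y
    exact ⟨_, hφ a⟩
  let Jb : Ideal (A ⧸ I) := RingHom.ker φ
  haveI : Nontrivial (A ⧸ J) := Ideal.Quotient.nontrivial_iff.mpr hJ
  have hJb : Jb ≤ maximalIdeal (A ⧸ I) := IsLocalRing.le_maximalIdeal (RingHom.ker_ne_top φ)
  obtain ⟨n, M, i0, hsub, h0, hex, hM⟩ := exists_minimal_resolution Jb hJb
  haveI := hsub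
  let e : ModuleCat.of (A ⧸ I) (A ⧸ J) ≅ ModuleCat.of (A ⧸ I) ((A ⧸ I) ⧸ Jb) :=
    (Ideal.quotientKerAlgEquivOfSurjective (f := Algebra.ofId (A ⧸ I) (A ⧸ J)) hφs).symm.toLinearEquiv.toModuleIso
  have hvan : n (2 * (N + 1)) = 0 := by
    obtain ⟨p, hp⟩ : ∃ p, 2 * (N + 1) = p + 1 := ⟨2 * N + 1, by omega⟩
    rw [hp]
    refine eq_zero_of_subsingleton_tor Jb n M i0 h0 hex hM p ?_
    let k := (A ⧸ I) ⧸ maximalIdeal (A ⧸ I)
    let i := Lib.Tor.Balance.torFlipIso (ModuleCat.of (A ⧸ I) (A ⧸ J)) (ModuleCat.of (A ⧸ I) k) (p + 1) ≪≫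
      ((CategoryTheory.Tor (ModuleCat.{u} (A ⧸ I)) (p + 1)).obj (ModuleCat.of (A ⧸ I) k)).mapIso e
    haveI := hN k (p + 1) (by omega)
    exact i.toLinearEquiv.symm.toEquiv.subsingleton
  choose M' hM' using fun j i k => Ideal.Quotient.mk_surjective (M j i k)
  have hmap : ∀ j (v : Fin (n (j + 1)) → A) i, Ideal.Quotient.mk I (mv (M' j) v i) =
      mv (M j) (fun k => Ideal.Quotient.mk I (v k)) i := by
    intro j v i
    simp [mv_apply, hM']
  refine mem_mul_of_resolution (IsLocalRing.le_maximalIdeal hJ) hx hxm n M' i0 ?_ ?_ ?_ ?_ (N + 1) hvan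
  · intro v hv
    obtain ⟨w, hw⟩ := (h0 fun k => Ideal.Quotient.mk I (v k)).2
      (RingHom.mem_ker.mpr (by rw [hφ]; exact Ideal.Quotient.eq_zero_iff_mem.mpr hv))
    choose w' hw' using fun k => Ideal.Quotient.mk_surjective (w k)
    refine ⟨w', fun i => Ideal.Quotient.eq.mp ?_⟩
    rw [hmap, funext hw']
    exact congr_fun hw i
  · intro j v hv
    obtain ⟨w, hw⟩ := (hex j fun k => Ideal.Quotient.mk I (v k)).1 (funext fun i => by
      rw [← hmap]
      exact Ideal.Quotient.eq_zero_iff_mem.mpr (hv i))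
    choose w' hw' using fun k => Ideal.Quotient.mk_surjective (w k)
    refine ⟨w', fun i => Ideal.Quotient.eq.mp ?_⟩
    rw [hmap, funext hw']
    exact congr_fun hw i
  · intro j w i
    rw [← Ideal.Quotient.eq_zero_iff_mem, hmap]
    have := congr_fun ((hex j _).2 ⟨fun k => Ideal.Quotient.mk I (w k), rfl⟩) i
    simpa [hmap] using this
  · intro j i k
    have := hM j i k
    rw [← hM' j i k, IsLocalRing.mem_maximalIdeal] at this
    exact (IsLocalRing.mem_maximalIdeal _).mpr fun hu => this (hu.map _)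

end Groth.Agent.H80.MinResObstruction
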