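import Mathlib.Algebra.Polynomial.Div
import Mathlib.Algebra.Polynomial.AlgebraMap

/-!
# `A[X]` is free over `A[h]` for monic `h`
-/

universe u

open Polynomial

namespace Groth.Agent.H80.MonicBasis

variable {A : Type u} [CommRing A] [Nontrivial A] {h : A[X]} {n : ℕ}

theorem exists_repr (hm : h.Monic) (hn : h.natDegree = n) (hpos : 0 < n) :
    ∀ (N : ℕ) (q : A[X]), q.natDegree < N →
      ∃ c : Fin n → A[X], q = ∑ i : Fin n, aeval h (c i) * X ^ (i : ℕ) := by
  intro N
  induction N with
  | zero => intro q hq; omega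
  | succ N ih =>
    intro q hq
    have hr : q %ₘ h = ∑ i : Fin n, C ((q %ₘ h).coeff i) * X ^ (i : ℕ) := by
      have hlt : (q %ₘ h).natDegree < n :=
        hn ▸ natDegree_modByMonic_lt q hm (fun e => by rw [e, natDegree_one] at hn; omega)
      rw [Fin.sum_univ_eq_sum_range (fun i => C ((q %ₘ h).coeff i) * X ^ i)]
      exact as_sum_range_C_mul_X_pow' _ hlt
    by_cases hq0 : q /ₘ h = 0
    · refine ⟨fun i => C ((q %ₘ h).coeff i), ?_⟩
      conv_lhs => rw [← modByMonic_add_div q h, hq0, mul_zero, add_zero, hr]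
      exact Finset.sum_congr rfl fun i _ => by simp
    · have hd : (q /ₘ h).natDegree < N := by
        rw [natDegree_divByMonic q hm, hn]
        rcases Nat.eq_zero_or_pos q.natDegree with h0 | h0
        · exact absurd ((divByMonic_eq_zero_iff hm).mpr (lt_of_le_of_lt degree_le_natDegree (by
            rw [degree_eq_natDegree hm.ne_zero, hn, h0]; exact_mod_cast hpos))) hq0
        · omega
      obtain ⟨c, hc⟩ := ih _ hd
      refine ⟨fun i => C ((q %ₘ h).coeff i) + X * c i, ?_⟩
      conv_lhs => rw [← modByMonic_add_div q h, hr, hc, Finset.mul_sum, ← Finset.sum_add_distrib]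
      exact Finset.sum_congr rfl fun i _ => by simp; ring

theorem eq_zero_of_repr (hm : h.Monic) (hn : h.natDegree = n) :
    ∀ (N : ℕ) (c : Fin n → A[X]), (∀ i, (c i).natDegree < N) →
      ∑ i : Fin n, aeval h (c i) * X ^ (i : ℕ) = 0 → c = 0 := by
  intro N
  induction N with
  | zero => intro c hc _; funext i; have := hc i; omega
  | succ N ih =>
    intro c hc h0
    have hsplit : ∀ i, aeval h (c i) = C ((c i).coeff 0) + h * aeval h (c i).divX := fun i => by
      conv_lhs => rw [← divX_mul_X_add (c i)]
      simp; ring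
    have h1 : (∑ i : Fin n, C ((c i).coeff 0) * X ^ (i : ℕ)) +
        h * ∑ i : Fin n, aeval h (c i).divX * X ^ (i : ℕ) = 0 := by
      rw [Finset.mul_sum, ← Finset.sum_add_distrib, ← h0]
      exact Finset.sum_congr rfl fun i _ => by rw [hsplit i]; ring
    have hdeg : (∑ i : Fin n, C ((c i).coeff 0) * X ^ (i : ℕ)).degree < h.degree := by
      rw [degree_eq_natDegree hm.ne_zero, hn]
      exact degree_sum_fin_lt _
    have hu := div_modByMonic_unique (∑ i : Fin n, aeval h (c i).divX * X ^ (i : ℕ))
      (∑ i : Fin n, C ((c i).coeff 0) * X ^ (i : ℕ)) (f := 0) hm ⟨h1, hdeg⟩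
    rw [zero_divByMonic, zero_modByMonic] at hu
    have hd : (fun i => (c i).divX) = 0 := by
      rcases N with _ | N
      · funext i
        exact divX_eq_zero_iff.mpr (eq_C_of_natDegree_eq_zero (by have := hc i; omega))
      · exact ih _ (fun i => by
          rw [natDegree_divX_eq_natDegree_tsub_one]; have := hc i; omega) hu.1.symm
    funext i
    rw [← divX_mul_X_add (c i), show (c i).divX = 0 from congrFun hd i]
    have hci := congrArg (fun p => p.coeff i.1) hu.2.symm
    simp only [finsetSum_coeff, coeff_C_mul_X_pow, coeff_zero] at hci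
    rw [Finset.sum_eq_single i (fun j _ hj => by
      rw [if_neg (fun e => hj (Fin.ext e.symm))]) (by simp), if_pos rfl] at hci
    simp [hci]

/-- Unique expansion in powers of a monic polynomial. -/
theorem existsUnique_repr (hm : h.Monic) (hn : h.natDegree = n) (hpos : 0 < n) (q : A[X]) :
    ∃! c : Fin n → A[X], q = ∑ i : Fin n, aeval h (c i) * X ^ (i : ℕ) := by
  obtain ⟨c, hc⟩ := exists_repr hm hn hpos (q.natDegree + 1) q (Nat.lt_succ_self _)
  refine ⟨c, hc, fun d hd => sub_eq_zero.mp ?_⟩
  refine eq_zero_of_repr hm hn ((Finset.univ.sup fun i => ((d - c) i).natDegree) + 1) _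
    (fun i => Nat.lt_succ_of_le (Finset.le_sup (f := fun i => ((d - c) i).natDegree)
      (Finset.mem_univ i))) ?_
  simp only [Pi.sub_apply, map_sub, sub_mul, Finset.sum_sub_distrib, ← hd, ← hc, sub_self]

end Groth.Agent.H80.MonicBasis
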