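import Groth.Prelude.Def_SGA7IX
import Groth.Agent.Lib.RedPts.AlgClosedDescend
import Groth.Agent.H1.Classical.TorusSplit
import Groth.Agent.Lib.GrpSch.BaseChange

/-!
# Additive subgroups of the closed fibre
-/

set_option autoImplicit false
set_option linter.style.haveILetI false
set_option backward.isDefEq.respectTransparency false
set_option synthInstance.maxHeartbeats 400000
universe u

open CategoryTheory MonoidalCategory CartesianMonoidalCategory MonObj GrpObj AlgebraicGeometry
open Groth.Agent Groth.Agent.Lib

namespace Groth.Agent.H80.NeronNoGa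

theorem not_closedImmersion_Ga (R : Type u) [CommRing R] [IsLocalRing R] [IsAlgClosed (IsLocalRing.ResidueField R)]
    (N : Over (Spec (CommRingCat.of R))) [GrpObj N]
    (h : SGA7.FibreUnipotentRankZero (IsLocalRing.closedPoint R : ↥(Spec (CommRingCat.of R))) N)
    (j : Red.Ga (Spec (CommRingCat.of (IsLocalRing.ResidueField R))) ⟶
      Red.bc (Spec.map (CommRingCat.ofHom (IsLocalRing.residue R))) N)
    (hj : IsMonHom j) (hjc : IsClosedImmersion j.left) : False := by
  let S := Spec (CommRingCat.of R)
  let s : S := IsLocalRing.closedPoint R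
  let Ω := AlgebraicClosure (S.residueField s)
  let φ := Spec.preimage (Red.geomPt s)
  have hφ : Spec.map φ = Red.geomPt s := Spec.map_preimage _
  have hker : ∀ a ∈ IsLocalRing.maximalIdeal R, φ.hom a = 0 := by
    intro a ha
    have h0 : (Spec.map φ) (IsLocalRing.closedPoint Ω) = s := by
      rw [hφ, Scheme.Hom.comp_apply]
      exact Scheme.fromSpecResidueField_apply _ _
    have h1 : a ∈ ((Spec.map φ) (IsLocalRing.closedPoint Ω)).asIdeal := by
      rw [h0]
      exact ha
    have h2 : φ.hom a ∈ IsLocalRing.maximalIdeal Ω := h1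
    rwa [IsLocalRing.maximalIdeal_eq_bot, Ideal.mem_bot] at h2
  let ψ : IsLocalRing.ResidueField R →+* Ω := Ideal.Quotient.lift (IsLocalRing.maximalIdeal R) φ.hom hker
  let t := Spec.map (CommRingCat.ofHom ψ)
  have ht : t ≫ Spec.map (CommRingCat.ofHom (IsLocalRing.residue R)) = Red.geomPt s := by
    rw [← hφ, ← Spec.map_comp]
    congr 1
  obtain ⟨G', hG'⟩ := H1.Classical.TorusSplit.exists_bc_Ga t
  haveI := hj
  haveI := hjc
  haveI := hG'
  haveI : IsMonHom G'.inv := inferInstance
  haveI := RedPts.AlgClosedDescend.isMonHom_compIso t _ ht N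
  haveI : IsIso (Groth.Agent.H69.GrpDescend.compIso t _ ht N).hom.left :=
    ((Over.forget _).mapIso (Groth.Agent.H69.GrpDescend.compIso t _ ht N)).isIso_hom
  haveI : IsIso G'.inv.left := ((Over.forget _).mapIso G').isIso_inv
  haveI : IsClosedImmersion ((Over.pullback t).map j).left :=
    GrpSch.bc_map_left_of (P := @IsClosedImmersion) t j hjc
  haveI := GrpSch.isMonHom_bc_map t j
  exact h (G'.inv ≫ (Over.pullback t).map j ≫ (Groth.Agent.H69.GrpDescend.compIso t _ ht N).hom) inferInstance (by
    rw [Over.comp_left, Over.comp_left]; infer_instance)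

end Groth.Agent.H80.NeronNoGa
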