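import Groth.Agent.H52.CompDiv
import Groth.Agent.H66.Vec.Split
import Groth.Agent.Lib.RedPts.Ga
import Groth.Agent.Lib.RedPts.Affine
import Groth.Agent.H1.Classical.Scheme
import Groth.Agent.Lib.KilledAff89.Power
import Groth.Agent.S5342
import Groth.Agent.Lib.GrpQ.RedSubgroup
import Groth.Agent.Lib.TopDim.Basic
import Groth.Agent.Lib.FinCond.Components
import Groth.Agent.H63.GrpSmooth
import Mathlib.AlgebraicGeometry.AlgClosed.Basic
import Groth.Agent.H4.IsogenyDim

/-!
# Identity components without additive subgroups are divisible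
-/

set_option autoImplicit false
set_option linter.style.haveILetI false
set_option backward.isDefEq.respectTransparency false
set_option synthInstance.maxHeartbeats 400000
universe u

open CategoryTheory CategoryTheory.Limits MonoidalCategory CartesianMonoidalCategory MonObj GrpObj AlgebraicGeometry
open Groth.Agent Groth.Agent.Lib Groth.Agent.Lib.GrpQ.MonoClosed

namespace Groth.Agent.H80.NoGaDiv.Comp

variable {K : Type u} [Field K] [IsAlgClosed K] {S : Scheme.{u}}

/-- The connected component of the unit of a group scheme locally of finite type, as a subgroup. -/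
theorem exists_component (R : Over (Spec (CommRingCat.of K))) [GrpObj R] [LocallyOfFiniteType R.hom] :
    ∃ (C : Over (Spec (CommRingCat.of K))) (_ : GrpObj C) (i : C ⟶ R), IsMonHom i ∧ IsOpenImmersion i.left ∧
      IsClosedImmersion i.left ∧ ConnectedSpace C.left ∧
      Set.range i.left = connectedComponent (η[R].left (IsLocalRing.closedPoint K)) := by
  have : IsLocallyNoetherian R.left := LocallyOfFiniteType.isLocallyNoetherian R.hom
  have : LocallyConnectedSpace R.left :=
    FinCond.locallyConnectedSpace_of_locally_noetherian fun x => FinCond.locally_noetherian R.left x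
  let e := η[R].left (IsLocalRing.closedPoint K)
  let O : R.left.Opens := ⟨connectedComponent e, isOpen_connectedComponent⟩
  let C : Over (Spec (CommRingCat.of K)) := Over.mk (O.ι ≫ R.hom)
  let i : C ⟶ R := Over.homMk O.ι rfl
  have hic : IsClosedImmersion i.left := by
    refine IsClosedImmersion.of_isPreimmersion O.ι ?_
    rw [Scheme.Opens.range_ι]
    exact isClosed_connectedComponent
  have : IsOpenImmersion i.left := inferInstanceAs (IsOpenImmersion O.ι)
  have : Mono i := (Over.forget _).mono_of_mono_map (show Mono i.left from inferInstance)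
  have hconn : ConnectedSpace C.left := Subtype.connectedSpace isConnected_connectedComponent
  have hlift : ∀ {T : Over (Spec (CommRingCat.of K))} (q : T ⟶ R), Set.range q.left ⊆ connectedComponent e →
      ∃ l : T ⟶ C, l ≫ i = q := by
    intro T q hq
    have hr : Set.range q.left ⊆ Set.range O.ι := by rw [Scheme.Opens.range_ι]; exact hq
    exact ⟨Over.homMk (IsOpenImmersion.lift O.ι q.left hr) (by
      show IsOpenImmersion.lift O.ι q.left hr ≫ O.ι ≫ R.hom = _
      rw [IsOpenImmersion.lift_fac_assoc, Over.w]), Over.OverMorphism.ext (IsOpenImmersion.lift_fac _ _ _)⟩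
  have hη : Set.range η[R].left ⊆ connectedComponent e := by
    rintro _ ⟨p, rfl⟩
    rw [show η[R].left p = e from congrArg η[R].left (Subsingleton.elim (α := PrimeSpectrum K) _ _)]
    exact mem_connectedComponent
  obtain ⟨one, hone⟩ := hlift η[R] hη
  have : ConnectedSpace (C ⊗ C).left := Groth.Agent.S5342.result K C.left C.left C.hom C.hom one.left (Over.w one)
  let p₀ : ↥(𝟙_ (Over (Spec (CommRingCat.of K)))).left := IsLocalRing.closedPoint K
  have honep : i.left (one.left p₀) = e := by
    rw [← Scheme.Hom.comp_apply, ← Over.comp_left, hone]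
  have hsub : ∀ {T : Over (Spec (CommRingCat.of K))} [ConnectedSpace T.left] (q : T ⟶ R)
      (t : 𝟙_ (Over (Spec (CommRingCat.of K))) ⟶ T), t ≫ q = 1 → Set.range q.left ⊆ connectedComponent e := by
    intro T _ q t ht
    refine (isPreconnected_range q.left.continuous).subset_connectedComponent ⟨t.left p₀, ?_⟩
    rw [← Scheme.Hom.comp_apply, ← Over.comp_left, ht, Hom.one_def, toUnit_unique (toUnit _) (𝟙 _), Category.id_comp]
  have hone' : one ≫ i = 1 := by
    rw [hone, Hom.one_def, toUnit_unique (toUnit _) (𝟙 _), Category.id_comp]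
  obtain ⟨_, hi⟩ := GrpQ.InfSub.exists_grpObj_of_mono i ⟨one, hone⟩
    (hlift _ (hsub _ (lift one one) (by
      rw [MonObj.comp_mul, lift_fst_assoc, lift_snd_assoc, hone', _root_.mul_one])))
    (hlift _ (hsub _ one (by rw [GrpObj.comp_inv, hone', inv_one])))
  exact ⟨C, inferInstance, i, hi, inferInstance, hic, hconn, Scheme.Opens.range_ι _⟩

theorem dim_le_component (R : Over (Spec (CommRingCat.of K))) [GrpObj R] [LocallyOfFiniteType R.hom] :
    topologicalKrullDim R.left ≤
      topologicalKrullDim ↥(connectedComponent (η[R].left (IsLocalRing.closedPoint K))) := by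
  haveI : IsLocallyNoetherian R.left := LocallyOfFiniteType.isLocallyNoetherian R.hom
  haveI : LocallyConnectedSpace R.left :=
    FinCond.locallyConnectedSpace_of_locally_noetherian fun x => FinCond.locally_noetherian R.left x
  haveI : JacobsonSpace R.left := LocallyOfFiniteType.jacobsonSpace R.hom
  let e := η[R].left (IsLocalRing.closedPoint K)
  let Y : _root_.ConnectedComponents R.left → Set R.left := fun c => _root_.ConnectedComponents.mk ⁻¹' {c}
  have hY : ∀ x : R.left, Y (_root_.ConnectedComponents.mk x) = connectedComponent x :=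
    fun x => connectedComponents_preimage_singleton
  rw [TopDim.Basic.topologicalKrullDim_eq_iSup_of_locallyFinite Y
    (fun c => by
      obtain ⟨x, rfl⟩ := _root_.ConnectedComponents.surjective_coe c
      rw [hY]
      exact isClosed_connectedComponent)
    (fun x => ⟨connectedComponent x, isOpen_connectedComponent.mem_nhds mem_connectedComponent, by
      refine (Set.finite_singleton (_root_.ConnectedComponents.mk x)).subset ?_
      rintro c ⟨z, hz, hz'⟩
      simp only [Y, Set.mem_preimage, Set.mem_singleton_iff] at hz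
      rw [Set.mem_singleton_iff, ← hz, _root_.ConnectedComponents.coe_eq_coe]
      exact (connectedComponent_eq hz').symm⟩)
    (Set.eq_univ_of_forall fun x => Set.mem_iUnion.mpr ⟨_root_.ConnectedComponents.mk x, rfl⟩)]
  refine iSup_le fun c => ?_
  obtain ⟨x, rfl⟩ := _root_.ConnectedComponents.surjective_coe c
  rw [hY]
  obtain ⟨y, hy, hyc⟩ := nonempty_inter_closedPoints (X := R.left) ⟨x, mem_connectedComponent⟩
    (isOpen_connectedComponent (x := x)).isLocallyClosed
  rw [connectedComponent_eq hy]
  let p : 𝟙_ (Over (Spec (CommRingCat.of K))) ⟶ R :=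
    Over.homMk (pointOfClosedPoint R.hom y hyc) (pointOfClosedPoint_comp _ _ _)
  let τ : R ≅ R :=
    { hom := (toUnit R ≫ p) * 𝟙 R
      inv := (toUnit R ≫ p)⁻¹ * 𝟙 R
      hom_inv_id := by
        rw [MonObj.comp_mul, GrpObj.comp_inv, ← Category.assoc, toUnit_unique (_ ≫ toUnit R) (toUnit R),
          Category.comp_id, inv_mul_cancel_left]
      inv_hom_id := by
        rw [MonObj.comp_mul, ← Category.assoc, toUnit_unique (_ ≫ toUnit R) (toUnit R), Category.comp_id,
          mul_inv_cancel_left] }
  let h : R.left ≃ₜ R.left := Scheme.homeoOfIso ((Over.forget _).mapIso τ)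
  have he : h e = y := by
    show τ.hom.left (η[R].left (IsLocalRing.closedPoint K)) = y
    rw [← Scheme.Hom.comp_apply, ← Over.comp_left, MonObj.comp_mul, Category.comp_id, ← Category.assoc,
      toUnit_unique (η[R] ≫ toUnit R) (𝟙 _), Category.id_comp]
    have h1 : (η[R] : 𝟙_ (Over (Spec (CommRingCat.of K))) ⟶ R) = 1 := by
      rw [Hom.one_def, toUnit_unique (toUnit _) (𝟙 _), Category.id_comp]
    rw [h1, _root_.mul_one]
    exact pointOfClosedPoint_apply _ _ _ _
  have himg := h.image_connectedComponentIn (s := Set.univ) (x := e) trivial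
  rw [Set.image_univ, h.surjective.range_eq, connectedComponentIn_univ, connectedComponentIn_univ, he] at himg
  rw [← himg, ← IsHomeomorph.topologicalKrullDim_eq _ (h.image (connectedComponent e)).isHomeomorph]

theorem isCommMonObj_of_points (H : Over S) [GrpObj H]
    (h : ∀ (X : Over S) (x y : X ⟶ H), x * y = y * x) : IsCommMonObj H := by
  refine ⟨?_⟩
  rw [MonObj.mul_eq_mul, MonObj.comp_mul, CartesianMonoidalCategory.braiding_hom_fst,
    CartesianMonoidalCategory.braiding_hom_snd]
  exact h _ _ _

/-- A smooth connected subgroup of full dimension. -/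
theorem exists_smooth_connected (HO : Over (Spec (CommRingCat.of K))) [GrpObj HO] [LocallyOfFiniteType HO.hom]
    [QuasiCompact HO.hom] :
    ∃ (C : Over (Spec (CommRingCat.of K))) (_ : GrpObj C) (c : C ⟶ HO), IsMonHom c ∧ IsClosedImmersion c.left ∧
      Smooth C.hom ∧ ConnectedSpace C.left ∧ topologicalKrullDim ↥HO.left ≤ topologicalKrullDim ↥C.left := by
  obtain ⟨C, _, c, hcm, hco, hcc, hcn, hrange⟩ := exists_component HO
  haveI := hcm; haveI := hco; haveI := hcc; haveI := hcn
  haveI : LocallyOfFiniteType C.hom := by rw [← Over.w c]; infer_instance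
  haveI : QuasiCompact C.hom := by rw [← Over.w c]; infer_instance
  obtain ⟨R, _, r, hrm, hrc, hrs, hrr⟩ := GrpQ.RedSubgroup.exists_reduced_subgroup C
  haveI := hrm; haveI := hrc; haveI := hrs; haveI := hrr
  haveI : LocallyOfFiniteType R.hom := by rw [← Over.w r]; infer_instance
  haveI : GrpObj (Over.mk R.hom) := inferInstanceAs (GrpObj R)
  haveI : Smooth R.hom := Groth.Agent.H63.GrpSmooth.smooth_of_nonempty R
    (R.hom.dense_smoothLocus_of_perfectField.nonempty_iff.2 ⟨η[R].left (IsLocalRing.closedPoint K)⟩)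
  let h := r.left.isClosedEmbedding.isEmbedding.toHomeomorphOfSurjective r.left.surjective
  haveI : ConnectedSpace R.left := h.symm.surjective.connectedSpace h.symm.continuous
  refine ⟨R, inferInstance, r ≫ c, inferInstance, by rw [Over.comp_left]; infer_instance, inferInstance,
    inferInstance, ?_⟩
  refine (dim_le_component HO).trans (le_of_eq ?_)
  rw [← hrange, IsHomeomorph.topologicalKrullDim_eq _ h.isHomeomorph,
    IsHomeomorph.topologicalKrullDim_eq _ c.left.isClosedEmbedding.isEmbedding.toHomeomorph.isHomeomorph]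


end Groth.Agent.H80.NoGaDiv.Comp

namespace Groth.Agent.H80.NoGaDiv.GaIso

open CategoryTheory.Limits MonoidalCategory CartesianMonoidalCategory MonObj

theorem isMonHom_of_mul {S : Scheme.{u}} {G H : Over S} [GrpObj G] [GrpObj H] (f : G ⟶ H)
    (hf : ∀ (W : Over S) (x y : W ⟶ G), (x * y) ≫ f = (x ≫ f) * (y ≫ f)) : IsMonHom f where
  one_hom := by
    have h1 : (1 : 𝟙_ (Over S) ⟶ G) ≫ f = 1 := by
      have := hf _ (1 : 𝟙_ (Over S) ⟶ G) 1
      rwa [_root_.one_mul, left_eq_mul] at this
    rwa [Hom.one_def, Hom.one_def, toUnit_unique (toUnit _) (𝟙 _), Category.id_comp, Category.id_comp] at h1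
  mul_hom := by
    have := hf _ (fst G G) (snd G G)
    rw [show fst G G * snd G G = μ[G] by simp [Hom.mul_def]] at this
    rw [this, Hom.mul_def]
    congr 1

variable {k : Type u} [Field k]

attribute [local instance] RedPts.Points.baseAlgebra

theorem sym_iso_Ga : Nonempty (Grp.mk (H1.Classical.Scheme'.GA k (SymmetricAlgebra k k)) ≅
    Grp.mk (Red.Ga (Spec (CommRingCat.of k)))) := by
  obtain ⟨f, hf⟩ : ∃ f : H1.Classical.Scheme'.GA k (SymmetricAlgebra k k) ⟶ Red.Ga (Spec (CommRingCat.of k)),
      ∀ (W : Over (Spec (CommRingCat.of k))) (x : W ⟶ _), Red.gaFn (x ≫ f) = RedPts.Affine.symFn x :=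
    ⟨RedPts.Ga.gaPt (RedPts.Affine.symFn (𝟙 _)), fun W x => by
      rw [RedPts.Ga.gaFn_comp, RedPts.Ga.gaFn_gaPt, RedPts.Affine.symFn, RedPts.Affine.symFn]
      refine (RedPts.Points.ringHomOf_comp x.left _ _).symm.trans ?_
      exact congrArg (fun t : W ⟶ _ => RedPts.Points.algHomOf t (SymmetricAlgebra.ι k k 1)) (Category.comp_id x)⟩
  obtain ⟨g, hg⟩ : ∃ g : Red.Ga (Spec (CommRingCat.of k)) ⟶ H1.Classical.Scheme'.GA k (SymmetricAlgebra k k),
      RedPts.Affine.symFn g = Red.gaFn (𝟙 _) := RedPts.Affine.symFn_surjective _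
  have hgf : g ≫ f = 𝟙 _ := RedPts.Ga.gaFn_injective (by rw [hf, hg])
  have hfg : f ≫ g = 𝟙 _ := RedPts.Affine.symFn_injective (by
    refine (RedPts.Points.ringHomOf_comp f.left _ _).trans ?_
    change f.left.appTop (RedPts.Affine.symFn g) = _
    rw [hg, ← RedPts.Ga.gaFn_comp, Category.comp_id]
    simpa using hf _ (𝟙 _))
  haveI : IsMonHom f := isMonHom_of_mul f fun W x y => RedPts.Ga.gaFn_injective (by
    rw [RedPts.Ga.gaFn_mul, hf, hf, hf, RedPts.Affine.symFn_mul])
  exact ⟨Grp.mkIso' (⟨f, g, hfg, hgf⟩ : _ ≅ _)⟩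

end Groth.Agent.H80.NoGaDiv.GaIso

namespace Groth.Agent.H80.NoGaDiv

variable {k : Type u} [Field k] [IsAlgClosed k]

/-- A smooth connected commutative group killed by `p` of positive dimension contains the additive group. -/
theorem exists_Ga {p : ℕ} [Fact p.Prime] [CharP k p] (C : Over (Spec (CommRingCat.of k))) [GrpObj C]
    [IsAffine C.left] [Smooth C.hom] [ConnectedSpace C.left]
    (hcomm : ∀ (X : Over (Spec (CommRingCat.of k))) (g h : X ⟶ C), g * h = h * g)
    (htors : ∀ (X : Over (Spec (CommRingCat.of k))) (g : X ⟶ C), g ^ p = 1) :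
    topologicalKrullDim C.left ≤ 0 ∨
      ∃ j : Red.Ga (Spec (CommRingCat.of k)) ⟶ C, IsMonHom j ∧ IsClosedImmersion j.left := by
  obtain ⟨A, _, _, _, _, _, e, he, htor⟩ := H66.Vec.exists_hopf p C hcomm htors
  haveI := he
  haveI : IsIso e.hom.left := ((Over.forget _).mapIso e).isIso_hom
  haveI : IsIso e.inv.left := ((Over.forget _).mapIso e).isIso_inv
  obtain ⟨n, f, hf⟩ := H66.Vec.exists_bijective_toVec htor (H66.Vec.noIdem_of_connectedSpace e)
  cases n with
  | zero =>
    left
    have hs : Function.Surjective (algebraMap k A) := by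
      intro a
      obtain ⟨z, rfl⟩ := hf.2 a
      induction z using SymmetricAlgebra.induction with
      | algebraMap r => exact ⟨r, ((f : SymmetricAlgebra k (Fin 0 → k) →ₐ[k] A).commutes r).symm⟩
      | «ι» v => exact ⟨0, by rw [Subsingleton.elim v 0, map_zero, map_zero, map_zero]⟩
      | mul a b ha hb =>
        obtain ⟨x, hx⟩ := ha
        obtain ⟨y, hy⟩ := hb
        exact ⟨x * y, by rw [map_mul, map_mul, hx, hy]⟩
      | add a b ha hb =>
        obtain ⟨x, hx⟩ := ha
        obtain ⟨y, hy⟩ := hb
        exact ⟨x + y, by rw [map_add, map_add, hx, hy]⟩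
    haveI : Subsingleton (PrimeSpectrum A) :=
      (PrimeSpectrum.comap_injective_of_surjective _ hs).subsingleton
    haveI : Subsingleton C.left :=
      e.hom.left.homeomorph.injective.subsingleton (β := PrimeSpectrum A)
    exact topologicalKrullDim_zero_of_discreteTopology C.left
  | succ m =>
    right
    classical
    have hu : ∀ i : Fin (m + 1),
        (if i = 0 then SymmetricAlgebra.ι k k 1 else 0) ∈ H66.Vec.primSub k (SymmetricAlgebra k k) := fun i => by
      split_ifs
      · exact H66.Vec.mem_primSub.2 (SymmetricAlgebra.comul_ι k k 1)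
      · exact zero_mem _
    let w : Fin (m + 1) → SymmetricAlgebra k k := fun i => if i = 0 then SymmetricAlgebra.ι k k 1 else 0
    let q : SymmetricAlgebra k (Fin (m + 1) → k) →ₐc[k] SymmetricAlgebra k k := H66.Vec.toVec w hu
    have hw : SymmetricAlgebra.ι k k 1 ∈ Algebra.adjoin k (Set.range w) :=
      Algebra.subset_adjoin (Set.mem_range.2 ⟨0, if_pos rfl⟩)
    have hmem : ∀ a : SymmetricAlgebra k k, a ∈ Algebra.adjoin k (Set.range w) := by
      intro a
      induction a using SymmetricAlgebra.induction with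
      | algebraMap r => exact Subalgebra.algebraMap_mem _ r
      | «ι» v =>
        have hv : SymmetricAlgebra.ι k k v = v • SymmetricAlgebra.ι k k 1 := by
          rw [← map_smul, smul_eq_mul, _root_.mul_one]
        rw [hv]
        exact Subalgebra.smul_mem _ hw _
      | mul a b ha hb => exact mul_mem ha hb
      | add a b ha hb => exact add_mem ha hb
    have hq : Function.Surjective q := by
      intro a
      have ha : a ∈ (q : SymmetricAlgebra k (Fin (m + 1) → k) →ₐ[k] SymmetricAlgebra k k).range :=
        (H66.Vec.range_toVec w hu).symm ▸ hmem a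
      exact ha
    let q' : A →ₐc[k] SymmetricAlgebra k k :=
      q.comp ((BialgEquiv.ofBijective f hf).symm : A →ₐc[k] SymmetricAlgebra k (Fin (m + 1) → k))
    have hq' : Function.Surjective q' := hq.comp (BialgEquiv.ofBijective f hf).symm.surjective
    obtain ⟨E⟩ := GaIso.sym_iso_Ga (k := k)
    let E₀ : H1.Classical.Scheme'.GA k (SymmetricAlgebra k k) ≅ Red.Ga (Spec (CommRingCat.of k)) :=
      (Grp.forget _).mapIso E
    haveI : IsMonHom E₀.inv := E.inv.hom.isMonHom_hom
    haveI : IsIso E₀.inv.left := ((Over.forget _).mapIso E₀).isIso_inv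
    haveI := H66.Vec.isClosedImmersion_specHom hq'
    refine ⟨E₀.inv ≫ H66.Vec.specHom q' ≫ e.inv, inferInstance, ?_⟩
    rw [Over.comp_left, Over.comp_left]
    infer_instance

/-- The identity component of a commutative group without additive subgroups is `p`-divisible. -/
theorem exists_root_char {p : ℕ} [Fact p.Prime] [CharP k p] (G : Over (Spec (CommRingCat.of k))) [GrpObj G]
    [IsCommMonObj G] [Smooth G.hom] [QuasiCompact G.hom]
    (hGa : ∀ j : Red.Ga (Spec (CommRingCat.of k)) ⟶ G, IsMonHom j → IsClosedImmersion j.left → False)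
    {g : 𝟙_ (Over (Spec (CommRingCat.of k))) ⟶ G} (hg : g ∈ H52.CompDiv.idComp G) :
    ∃ z ∈ H52.CompDiv.idComp G, z ^ p = g := by
  obtain ⟨C, _, i, hi, hio, hic, hcn, hrange⟩ := Comp.exists_component G
  haveI := hi; haveI := hio; haveI := hic; haveI := hcn
  haveI : Mono i := Over.mono_of_mono_left i
  haveI : Smooth C.hom := by rw [← Over.w i]; infer_instance
  haveI : QuasiCompact C.hom := by rw [← Over.w i]; infer_instance
  haveI : IsCommMonObj C := Comp.isCommMonObj_of_points C fun X x y => (cancel_mono i).1 (by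
    rw [MonObj.mul_comp, MonObj.mul_comp, _root_.mul_comm])
  haveI := GrpSch.isSeparated_of_field C
  haveI : IsIntegral C.left := H2.Rigid.GeomIrred.isIntegral_of_smooth C.hom
  let u : C ⟶ C := (𝟙 C : C ⟶ C) ^ p
  haveI : IsMonHom u := H4.NPowEtale.isMonHom_pow_id C p
  haveI := GrpQ.quasiCompact_left u
  obtain ⟨N, _, j, hj, hjc, hN, -⟩ := GrpQ.exists_kernel u
  haveI := hj; haveI := hjc
  haveI : LocallyOfFiniteType N.hom := by rw [← Over.w j]; infer_instance
  haveI : QuasiCompact N.hom := by rw [← Over.w j]; infer_instance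
  haveI : Mono j := GrpQ.mono_of_left j
  have hkill : (𝟙 N : N ⟶ N) ^ p = 1 := by
    rw [← cancel_mono j, MonObj.pow_comp, Category.id_comp, MonObj.one_comp]
    calc (j : N ⟶ C) ^ p = j ≫ u := by rw [MonObj.comp_pow, Category.comp_id]
      _ = 1 := GrpQ.kernel_comp hN
  haveI : IsAffine N.left := KilledAff89.isAffine_of_killed N (Fact.out : p.Prime).pos hkill
  obtain ⟨R, _, r, hr, hrc, hrs, hrn, hrd⟩ := Comp.exists_smooth_connected N
  haveI := hr; haveI := hrc; haveI := hrs; haveI := hrn
  haveI : IsAffine R.left := isAffine_of_isAffineHom r.left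
  haveI : Mono r := Over.mono_of_mono_left r
  have hcomm : ∀ (X : Over (Spec (CommRingCat.of k))) (a b : X ⟶ R), a * b = b * a := fun X a b => by
    haveI : Mono (r ≫ j ≫ i) := inferInstance
    rw [← cancel_mono (r ≫ j ≫ i), MonObj.mul_comp, MonObj.mul_comp, _root_.mul_comm]
  have htors : ∀ (X : Over (Spec (CommRingCat.of k))) (a : X ⟶ R), a ^ p = 1 := fun X a => by
    rw [← cancel_mono r, MonObj.pow_comp, MonObj.one_comp,
      show (a ≫ r) ^ p = (a ≫ r) ≫ ((𝟙 N : N ⟶ N) ^ p) by rw [MonObj.comp_pow, Category.comp_id],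
      hkill, MonObj.comp_one]
  have hd : topologicalKrullDim N.left ≤ 0 := by
    rcases exists_Ga R hcomm htors with h | ⟨s, hs, hsc⟩
    · exact hrd.trans h
    · haveI := hs; haveI := hsc
      exact (hGa (s ≫ r ≫ j ≫ i) inferInstance (by
        rw [Over.comp_left, Over.comp_left, Over.comp_left]; infer_instance)).elim
  haveI : IsLocallyNoetherian N.left := LocallyOfFiniteType.isLocallyNoetherian N.hom
  haveI := IsLocallyArtinian.of_topologicalKrullDim_le_zero hd
  haveI hNq : LocallyQuasiFinite N.hom :=
    locallyQuasiFinite_iff_isDiscrete_preimage_singleton.2 fun _ => IsDiscrete.mk inferInstance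
  haveI : LocallyQuasiFinite (pullback.snd u.left η[C].left) :=
    (MorphismProperty.cancel_left_of_respectsIso @LocallyQuasiFinite (hN.map (Over.forget _)).isoPullback.hom
      (pullback.snd u.left η[C].left)).1 (by
        exact (show (hN.map (Over.forget _)).isoPullback.hom ≫ pullback.snd u.left η[C].left = N.hom from
          (hN.map (Over.forget _)).isoPullback_hom_snd) ▸ hNq)
  haveI : LocallyQuasiFinite u.left := ActSep.locallyQuasiFinite_of_ker u
  haveI := ActSep.isFinite_of_locallyQuasiFinite u
  haveI := H4.IsogenyDim.surjective_of_finite u le_rfl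
  have hg' : ptOf g ∈ Set.range i.left := by
    rw [hrange]
    exact (H52.CompDiv.mem_idComp_iff g).2 hg
  obtain ⟨g₀, hg₀⟩ := exists_ptOf (X := C) (s := i.left ⁻¹' {ptOf g})
    ((Groth.Agent.H52.OpenRange.isClosed_range_of_isOpen_algClosed.isClosed_ptOf g).preimage
      i.left.continuous).isLocallyClosed hg'
  obtain ⟨w, hw⟩ := H52.CompDiv.exists_pow_eq_of_mem_range C (n := p) (g := g₀) (u.left.surjective _)
  refine ⟨w ≫ i, (H52.CompDiv.mem_idComp_iff _).1 ?_, ?_⟩
  · show ptOf (w ≫ i) ∈ connectedComponent (η[G].left (IsLocalRing.closedPoint k))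
    rw [← hrange, ← ptOf_comp]
    exact Set.mem_range_self _
  · rw [← MonObj.pow_comp, hw]
    exact (eq_comp_of_ptOf_eq i g₀ g hg₀).symm

/-- The identity component of a commutative group without additive subgroups is divisible. -/
theorem exists_root (G : Over (Spec (CommRingCat.of k))) [GrpObj G] [IsCommMonObj G] [Smooth G.hom]
    [QuasiCompact G.hom]
    (hGa : ∀ j : Red.Ga (Spec (CommRingCat.of k)) ⟶ G, IsMonHom j → IsClosedImmersion j.left → False)
    {n : ℕ} (hn : n ≠ 0) {g : 𝟙_ (Over (Spec (CommRingCat.of k))) ⟶ G} (hg : g ∈ H52.CompDiv.idComp G) :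
    ∃ z ∈ H52.CompDiv.idComp G, z ^ n = g := by
  induction n using Nat.recOnMul generalizing g with
  | zero => exact absurd rfl hn
  | one => exact ⟨g, hg, pow_one g⟩
  | prime q hq =>
    by_cases hqk : (q : k) = 0
    · haveI := Fact.mk hq
      haveI : CharP k q := (CharP.charP_iff_prime_eq_zero hq).2 hqk
      exact exists_root_char G hGa hg
    · exact H52.CompDiv.exists_root G hqk hg
  | mul a b iha ihb =>
    obtain ⟨z, hz, hza⟩ := iha (left_ne_zero_of_mul hn) hg
    obtain ⟨w, hw, hwb⟩ := ihb (right_ne_zero_of_mul hn) hz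
    exact ⟨w, hw, by rw [mul_comm, pow_mul, hwb, hza]⟩

end Groth.Agent.H80.NoGaDiv
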