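import Groth.Prelude.Def_DRing2
import Groth.Agent.Lib.DMod.InjAmp
import Groth.Agent.Lib.InjHull.Coextend
import Groth.Agent.Lib.InjHull.Noeth
import Mathlib.CategoryTheory.Abelian.Injective.Dimension
import Mathlib.Algebra.Polynomial.Basis
import Mathlib.LinearAlgebra.DirectSum.Finsupp

/-!
# `A[X]`-modules that are injective over `A` have injective dimension at most one
-/

set_option autoImplicit false
set_option backward.isDefEq.respectTransparency false
universe u

open CategoryTheory CategoryTheory.Limits Polynomial TensorProduct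
open Groth.Agent.Lib.InjHull.Coextend

attribute [local instance] HasDerivedCategory.standard

namespace Groth.Agent.H80.PolyInjDim

variable (A : Type u) [CommRing A] (M : Type u) [AddCommGroup M] [Module A M] [Module A[X] M]
  [IsScalarTower A A[X] M]

/-- The unit of coextension. -/
noncomputable def ι : M →ₗ[A[X]] Coext A A[X] M where
  toFun m := ofHom ((LinearMap.toSpanSingleton A[X] M m).restrictScalars A)
  map_add' m n := toHom_injective (LinearMap.ext fun b => by simp [smul_add])
  map_smul' r m := toHom_injective (LinearMap.ext fun b => by simp [mul_smul])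

theorem toHom_ι (m : M) (b : A[X]) : toHom (ι A M m) b = b • m := rfl

/-- The map `φ ↦ (p ↦ φ (X * p) - X • φ p)`. -/
noncomputable def δ : (Coext A A[X] M : Type u) →ₗ[A[X]] Coext A A[X] M where
  toFun g := ofHom (toHom g ∘ₗ LinearMap.mulLeft A X -
    ((LinearMap.lsmul A[X] M X).restrictScalars A) ∘ₗ toHom g)
  map_add' g g' := toHom_injective (LinearMap.ext fun b => by
    simp [smul_add, add_sub_add_comm])
  map_smul' r g := toHom_injective (LinearMap.ext fun b => by
    simp [mul_assoc])

theorem toHom_δ (g : Coext A A[X] M) (b : A[X]) :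
    toHom (δ A M g) b = toHom g (X * b) - (X : A[X]) • toHom g b := rfl

theorem δ_ι (m : M) : δ A M (ι A M m) = 0 := toHom_injective (LinearMap.ext fun b => by
  rw [toHom_δ, toHom_ι, toHom_ι, mul_smul, sub_self]; simp)

/-- Values of a primitive of `ψ` on monomials. -/
noncomputable def prim (ψ : A[X] →ₗ[A] M) : ℕ → M
  | 0 => 0
  | n + 1 => ψ (X ^ n) + (X : A[X]) • prim ψ n

theorem δ_surjective : Function.Surjective (δ A M) := fun g => by
  refine ⟨ofHom ((Polynomial.basisMonomials A).constr A (prim A M (toHom g))), toHom_injective ?_⟩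
  refine (Polynomial.basisMonomials A).ext fun n => ?_
  rw [toHom_δ, toHom_ofHom, coe_basisMonomials]
  beta_reduce
  rw [show monomial n (1 : A) = X ^ n from (X_pow_eq_monomial n).symm,
    ← pow_succ' X n]
  have hc : ∀ k, (Polynomial.basisMonomials A).constr A (prim A M (toHom g)) (X ^ k) =
      prim A M (toHom g) k := fun k => by
    rw [X_pow_eq_monomial, ← show (Polynomial.basisMonomials A) k = monomial k 1 by simp,
      Module.Basis.constr_basis]
  rw [hc, hc, prim]
  abel

theorem ker_δ (g : Coext A A[X] M) (hg : δ A M g = 0) : ∃ m, ι A M m = g := by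
  refine ⟨toHom g 1, toHom_injective ((Polynomial.basisMonomials A).ext fun n => ?_)⟩
  rw [toHom_ι, coe_basisMonomials]
  beta_reduce
  rw [show monomial n (1 : A) = X ^ n from (X_pow_eq_monomial n).symm]
  induction n with
  | zero => rw [pow_zero, one_smul]
  | succ n ih =>
    have h := LinearMap.congr_fun (congrArg toHom hg) (X ^ n)
    rw [toHom_δ, toHom_zero, LinearMap.zero_apply, sub_eq_zero] at h
    rw [pow_succ' X n, mul_smul, ih, h]

theorem hasInjectiveDimensionLT [Module.Injective A M] :
    HasInjectiveDimensionLT (ModuleCat.of A[X] M) 2 := by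
  have := injective_coext (A := A) (B := A[X]) (E := M)
  have hinj : Injective (ModuleCat.of A[X] (Coext A A[X] M : Type u)) :=
    Module.injective_object_of_injective_module A[X] _
  let S : ShortComplex (ModuleCat.{u} A[X]) :=
    ShortComplex.mk (ModuleCat.ofHom (ι A M)) (ModuleCat.ofHom (δ A M))
      (ModuleCat.hom_ext (LinearMap.ext fun m => δ_ι A M m))
  have hS : S.ShortExact :=
    { exact := (ShortComplex.moduleCat_exact_iff S).mpr fun g hg => ker_δ A M g hg
      mono_f := (ModuleCat.mono_iff_injective _).mpr fun m n h => by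
        have := LinearMap.congr_fun (congrArg toHom h) 1
        change (1 : A[X]) • m = (1 : A[X]) • n at this
        rwa [one_smul, one_smul] at this
      epi_g := (ModuleCat.epi_iff_surjective _).mpr (δ_surjective A M) }
  have h3 : Injective S.X₃ := hinj
  have h2 : Injective S.X₂ := hinj
  exact hS.hasInjectiveDimensionLT_X₁ 1 inferInstance inferInstance

omit [Module A[X] M] [IsScalarTower A A[X] M] in
theorem injective_polynomial_tensor [IsNoetherianRing A] [Module.Injective A M] :
    Module.Injective A (A[X] ⊗[A] M) := by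
  classical
  let e : A[X] ⊗[A] M ≃ₗ[A] DirectSum (ULift.{u} ℕ) (fun _ => M) :=
    TensorProduct.congr ((Polynomial.basisMonomials A).reindex Equiv.ulift.symm).repr (LinearEquiv.refl A M) ≪≫ₗ
      TensorProduct.finsuppScalarLeft A M (ULift.{u} ℕ) ≪≫ₗ finsuppLEquivDirectSum A M (ULift.{u} ℕ)
  have h := Groth.Agent.Lib.InjHull.Noeth.injective_directSum (R := A) (fun _ : ULift.{u} ℕ => M)
    (fun _ => inferInstance)
  refine ⟨fun X Y _ _ _ _ f hf g => ?_⟩
  obtain ⟨k, hk⟩ := h.out f hf (e.toLinearMap ∘ₗ g)
  exact ⟨e.symm.toLinearMap ∘ₗ k, fun x => by simp [hk]⟩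

theorem hasInjAmplitudeIn {B : Type u} [CommRing B] (N : Type u) [AddCommGroup N] [Module B N] {n : ℕ}
    (h : HasInjectiveDimensionLT (ModuleCat.of B N) (n + 1)) :
    DRing.HasInjAmplitudeIn B 0 n (Dual.inD B N) := by
  refine ((Groth.Agent.Lib.DMod.InjAmp.tfae (Dual.inD B N) 0 n).out 0 1).mpr ?_
  intro L hL1 hL2 i hi
  rcases hi with hi | hi
  · refine subsingleton_of_forall_eq 0 fun f => ?_
    have : ((Dual.inD B N)⟦i⟧).IsGE (-i) :=
      DerivedCategory.TStructure.t.isGE_shift (Dual.inD B N) 0 i (-i) (by omega)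
    exact DerivedCategory.TStructure.t.zero f 0 (-i) (by omega)
  · obtain ⟨k, rfl⟩ := Int.eq_ofNat_of_zero_le (le_trans (by omega) hi.le)
    have := HasInjectiveDimensionLT.subsingleton (ModuleCat.of B N) (n + 1) k (by omega) (ModuleCat.of B L)
    exact (Abelian.Ext.homEquiv (X := ModuleCat.of B L) (Y := ModuleCat.of B N) (n := k)).symm.subsingleton

end Groth.Agent.H80.PolyInjDim
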