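import Groth.Prelude.Def_Pi1

/-!
# Descent of finiteness along universally injective ring maps
-/

universe u

open TensorProduct

namespace Groth.Agent.H80.PureDescent

variable {R S : Type u} [CommRing R] [CommRing S] [Algebra R S]

theorem tmul_injective (h : Pi1.UnivInjective R S) (P : Type u) [AddCommGroup P] [Module R P] :
    Function.Injective fun p : P => (1 : S) ⊗ₜ[R] p := by
  intro p q hpq
  have h1 : LinearMap.lTensor P (Algebra.linearMap R S) (p ⊗ₜ 1) =
      LinearMap.lTensor P (Algebra.linearMap R S) (q ⊗ₜ 1) := by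
    simpa using congrArg (TensorProduct.comm R S P) hpq
  simpa using congrArg (TensorProduct.rid R P) (h P h1)

theorem injective_of_lTensor (h : Pi1.UnivInjective R S) {P M : Type u} [AddCommGroup P]
    [Module R P] [AddCommGroup M] [Module R M] (f : P →ₗ[R] M)
    (hf : Function.Injective (f.lTensor S)) : Function.Injective f := fun p q hpq =>
  tmul_injective h P (hf (by rw [LinearMap.lTensor_tmul, LinearMap.lTensor_tmul, hpq]))

theorem surjective_of_lTensor (h : Pi1.UnivInjective R S) {P M : Type u} [AddCommGroup P]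
    [Module R P] [AddCommGroup M] [Module R M] (f : P →ₗ[R] M)
    (hf : Function.Surjective (f.lTensor S)) : Function.Surjective f := by
  rw [← LinearMap.range_eq_top, ← Submodule.Quotient.subsingleton_iff]
  refine ⟨fun a b => tmul_injective h _ ?_⟩
  obtain ⟨a, rfl⟩ := f.range.mkQ_surjective a
  obtain ⟨b, rfl⟩ := f.range.mkQ_surjective b
  have hz : ∀ z : S ⊗[R] M, f.range.mkQ.lTensor S z = 0 := fun z => by
    obtain ⟨w, rfl⟩ := hf z
    rw [← LinearMap.lTensor_comp_apply, f.range_mkQ_comp, LinearMap.lTensor_zero,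
      LinearMap.zero_apply]
  exact ((hz ((1 : S) ⊗ₜ a)).trans (hz ((1 : S) ⊗ₜ b)).symm : _)

/-- Finitely many elements of `S ⊗ M` only involve finitely many elements of `M`. -/
theorem exists_finset_le_span (M : Type u) [AddCommGroup M] [Module R M]
    (s : Finset (S ⊗[R] M)) : ∃ T : Finset M,
      (s : Set (S ⊗[R] M)) ⊆ LinearMap.range ((Submodule.span R (T : Set M)).subtype.lTensor S) := by
  classical
  have key : ∀ z : S ⊗[R] M, ∃ T : Finset M,
      z ∈ LinearMap.range ((Submodule.span R (T : Set M)).subtype.lTensor S) := fun z => by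
    induction z with
    | zero => exact ⟨∅, zero_mem _⟩
    | tmul a m => exact ⟨{m}, a ⊗ₜ ⟨m, Submodule.subset_span (by simp)⟩, rfl⟩
    | add x y hx hy =>
      obtain ⟨T₁, ⟨x', rfl⟩⟩ := hx
      obtain ⟨T₂, ⟨y', rfl⟩⟩ := hy
      refine ⟨T₁ ∪ T₂, ?_⟩
      have h₁ : Submodule.span R (T₁ : Set M) ≤ Submodule.span R ((T₁ ∪ T₂ : Finset M) : Set M) :=
        Submodule.span_mono (by simp)
      have h₂ : Submodule.span R (T₂ : Set M) ≤ Submodule.span R ((T₁ ∪ T₂ : Finset M) : Set M) :=
        Submodule.span_mono (by simp)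
      refine add_mem ⟨(Submodule.inclusion h₁).lTensor S x', ?_⟩
        ⟨(Submodule.inclusion h₂).lTensor S y', ?_⟩ <;>
        rw [← LinearMap.lTensor_comp_apply, Submodule.subtype_comp_inclusion]
  choose T hT using key
  refine ⟨s.biUnion T, fun z hz => ?_⟩
  obtain ⟨w, hw⟩ := hT z
  have hle : Submodule.span R (T z : Set M) ≤ Submodule.span R (s.biUnion T : Set M) :=
    Submodule.span_mono fun m hm => Finset.mem_coe.mpr (Finset.mem_biUnion.mpr ⟨z, hz, hm⟩)
  exact ⟨(Submodule.inclusion hle).lTensor S w, by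
    rw [← LinearMap.lTensor_comp_apply, Submodule.subtype_comp_inclusion, hw]⟩

theorem range_lTensor_top {P M : Type u} [AddCommGroup P] [Module R P] [AddCommGroup M] [Module R M]
    (f : P →ₗ[R] M) {s : Set (S ⊗[R] M)} (hs : Submodule.span S s = ⊤)
    (h : s ⊆ LinearMap.range (f.lTensor S)) : Function.Surjective (f.lTensor S) := fun z => by
  have hle : Submodule.span S s ≤ LinearMap.range (f.baseChange S) := Submodule.span_le.mpr fun x hx => h hx
  obtain ⟨w, hw⟩ := hle (hs ▸ Submodule.mem_top : z ∈ _)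
  exact ⟨w, hw⟩

theorem finite (h : Pi1.UnivInjective R S) (M : Type u) [AddCommGroup M] [Module R M]
    [Module.Finite S (S ⊗[R] M)] : Module.Finite R M := by
  obtain ⟨s, hs⟩ := Module.Finite.fg_top (R := S) (M := S ⊗[R] M)
  obtain ⟨T, hT⟩ := exists_finset_le_span M s
  have hsurj := surjective_of_lTensor h (Submodule.span R (T : Set M)).subtype
    (range_lTensor_top _ hs hT)
  exact ⟨⟨T, eq_top_iff.mpr fun m _ => by obtain ⟨x, rfl⟩ := hsurj m; exact x.2⟩⟩

theorem finitePresentation (h : Pi1.UnivInjective R S) (M : Type u) [AddCommGroup M] [Module R M]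
    [Module.FinitePresentation S (S ⊗[R] M)] : Module.FinitePresentation R M := by
  have := finite h M
  obtain ⟨n, f, hf⟩ := Module.Finite.exists_fin' R M
  have hfS : Function.Surjective (f.baseChange S) := LinearMap.lTensor_surjective S hf
  obtain ⟨s, hs⟩ := Module.FinitePresentation.fg_ker (f.baseChange S) hfS
  let K := LinearMap.ker f
  have hex : ∀ z ∈ LinearMap.ker (f.baseChange S), ∃ w : S ⊗[R] K, K.subtype.lTensor S w = z :=
    fun z hz => (lTensor_exact S (LinearMap.exact_subtype_ker_map f) hf z).mp hz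
  classical
  choose g hg using fun z : s => hex z.1 (hs ▸ Submodule.subset_span z.2)
  obtain ⟨T, hT⟩ := exists_finset_le_span K (Finset.univ.image g)
  let K' : Submodule R (Fin n → R) := (Submodule.span R (T : Set K)).map K.subtype
  have hK'fg : K'.FG := (Submodule.fg_span T.finite_toSet).map _
  have hK' : K' ≤ LinearMap.ker f := Submodule.map_subtype_le _ _
  have hinj : Function.Injective ((K'.liftQ f hK').lTensor S) := by
    refine LinearMap.ker_eq_bot.mp (eq_bot_iff.mpr fun z hz => ?_)
    obtain ⟨z, rfl⟩ := LinearMap.lTensor_surjective S K'.mkQ_surjective z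
    rw [LinearMap.mem_ker, ← LinearMap.lTensor_comp_apply, Submodule.liftQ_mkQ] at hz
    have hz' : z ∈ Submodule.span S (s : Set _) := by rw [hs]; exact hz
    have hle : Submodule.span S (s : Set _) ≤ LinearMap.ker (K'.mkQ.baseChange S) :=
      Submodule.span_le.mpr fun x hx => by
        obtain ⟨w, hw⟩ := hT (Finset.mem_image_of_mem g (Finset.mem_univ ⟨x, hx⟩))
        have hcomp : (K'.mkQ ∘ₗ K.subtype) ∘ₗ (Submodule.span R (T : Set K)).subtype = 0 :=
          LinearMap.ext fun t => (Submodule.Quotient.mk_eq_zero _).mpr ⟨t, t.2, rfl⟩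
        rw [SetLike.mem_coe, LinearMap.mem_ker, show K'.mkQ.baseChange S x = K'.mkQ.lTensor S x from rfl,
          show x = _ from (hg ⟨x, hx⟩).symm, ← LinearMap.lTensor_comp_apply, ← hw,
          ← LinearMap.lTensor_comp_apply, hcomp, LinearMap.lTensor_zero, LinearMap.zero_apply]
    exact hle hz'
  have hker : K' = LinearMap.ker f := le_antisymm hK' fun x hx => by
    rw [← Submodule.Quotient.mk_eq_zero]
    exact injective_of_lTensor h _ hinj (by rw [map_zero]; exact hx)
  exact Module.finitePresentation_of_surjective f hf (hker ▸ hK'fg)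

variable (A : Type u) [CommRing A] [Algebra R A]

theorem exists_finset_le_adjoin (s : Finset (S ⊗[R] A)) : ∃ T : Finset A,
    (s : Set (S ⊗[R] A)) ⊆ LinearMap.range ((Algebra.adjoin R (T : Set A)).toSubmodule.subtype.lTensor S) := by
  obtain ⟨T, hT⟩ := exists_finset_le_span A s
  refine ⟨T, fun z hz => ?_⟩
  obtain ⟨w, hw⟩ := hT hz
  have hle : Submodule.span R (T : Set A) ≤ (Algebra.adjoin R (T : Set A)).toSubmodule :=
    Submodule.span_le.mpr Algebra.subset_adjoin
  exact ⟨(Submodule.inclusion hle).lTensor S w, by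
    rw [← LinearMap.lTensor_comp_apply, Submodule.subtype_comp_inclusion, hw]⟩

theorem finiteType (h : Pi1.UnivInjective R S) [Algebra.FiniteType S (S ⊗[R] A)] :
    Algebra.FiniteType R A := by
  obtain ⟨s, hs⟩ := Algebra.FiniteType.out (R := S) (A := S ⊗[R] A)
  obtain ⟨T, hT⟩ := exists_finset_le_adjoin A s
  let B := Algebra.adjoin R (T : Set A)
  have hle : Algebra.adjoin S (s : Set (S ⊗[R] A)) ≤
      (Algebra.TensorProduct.map (AlgHom.id S S) B.val).range :=
    Algebra.adjoin_le fun z hz => by
      obtain ⟨w, hw⟩ := hT hz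
      exact ⟨w, hw⟩
  have hsurj := surjective_of_lTensor h B.toSubmodule.subtype fun z => by
    obtain ⟨w, hw⟩ := hle (hs ▸ Algebra.mem_top : z ∈ _)
    exact ⟨w, hw⟩
  exact ⟨⟨T, eq_top_iff.mpr fun m _ => by obtain ⟨x, rfl⟩ := hsurj m; exact x.2⟩⟩

theorem algebraFinitePresentation (h : Pi1.UnivInjective R S)
    [Algebra.FinitePresentation S (S ⊗[R] A)] : Algebra.FinitePresentation R A := by
  have := finiteType A h
  obtain ⟨n, f, hf⟩ := Algebra.FiniteType.iff_quotient_mvPolynomial''.mp this
  let fS : S ⊗[R] MvPolynomial (Fin n) R →ₐ[S] S ⊗[R] A :=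
    Algebra.TensorProduct.map (AlgHom.id S S) f
  have hfS : Function.Surjective fS := LinearMap.lTensor_surjective S (g := f.toLinearMap) hf
  obtain ⟨s, hs⟩ := Algebra.FinitePresentation.ker_fG_of_surjective fS hfS
  let K := LinearMap.ker f.toLinearMap
  have hex : ∀ z ∈ LinearMap.ker (f.toLinearMap.lTensor S), ∃ w : S ⊗[R] K, K.subtype.lTensor S w = z :=
    fun z hz => (lTensor_exact S (LinearMap.exact_subtype_ker_map f.toLinearMap) hf z).mp hz
  classical
  choose g hg using fun z : s => hex z.1 ((hs ▸ Ideal.subset_span z.2 : z.1 ∈ RingHom.ker fS.toRingHom))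
  obtain ⟨T, hT⟩ := exists_finset_le_span K (Finset.univ.image g)
  let J : Ideal (MvPolynomial (Fin n) R) := Ideal.span (T.image Subtype.val : Set _)
  have hJ : J ≤ RingHom.ker f.toRingHom := Ideal.span_le.mpr fun x hx => by
    obtain ⟨y, -, rfl⟩ := Finset.mem_image.mp hx
    exact y.2
  let q : (MvPolynomial (Fin n) R ⧸ J) →ₐ[R] A := Ideal.Quotient.liftₐ J f fun x hx => hJ hx
  have hinj : Function.Injective (q.toLinearMap.lTensor S) := by
    refine LinearMap.ker_eq_bot.mp (eq_bot_iff.mpr fun z hz => ?_)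
    obtain ⟨z, rfl⟩ := LinearMap.lTensor_surjective S
      (g := (Ideal.Quotient.mkₐ R J).toLinearMap) Ideal.Quotient.mk_surjective z
    rw [LinearMap.mem_ker, ← LinearMap.lTensor_comp_apply] at hz
    have hz' : z ∈ Ideal.span (s : Set (S ⊗[R] MvPolynomial (Fin n) R)) := by rw [hs]; exact hz
    have hle : Ideal.span (s : Set _) ≤
        RingHom.ker (Algebra.TensorProduct.map (AlgHom.id S S) (Ideal.Quotient.mkₐ R J)).toRingHom :=
      Ideal.span_le.mpr fun x hx => by
        obtain ⟨w, hw⟩ := hT (Finset.mem_image_of_mem g (Finset.mem_univ ⟨x, hx⟩))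
        have hcomp : ((Ideal.Quotient.mkₐ R J).toLinearMap ∘ₗ K.subtype) ∘ₗ
            (Submodule.span R (T : Set K)).subtype = 0 := LinearMap.ext fun t => by
          have hmem : (t.1 : MvPolynomial (Fin n) R) ∈ J := by
            have : Submodule.span R (T : Set K) ≤ (J.restrictScalars R).comap K.subtype :=
              Submodule.span_le.mpr fun y hy => Ideal.subset_span (Finset.mem_image_of_mem _ hy)
            exact this t.2
          exact Ideal.Quotient.eq_zero_iff_mem.mpr hmem
        change (Ideal.Quotient.mkₐ R J).toLinearMap.lTensor S x = 0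
        rw [show x = _ from (hg ⟨x, hx⟩).symm, ← LinearMap.lTensor_comp_apply, ← hw,
          ← LinearMap.lTensor_comp_apply, hcomp, LinearMap.lTensor_zero, LinearMap.zero_apply]
    exact hle hz'
  have hker : J = RingHom.ker f.toRingHom := le_antisymm hJ fun x hx => by
    rw [← Ideal.Quotient.eq_zero_iff_mem]
    exact injective_of_lTensor h _ hinj ((show q.toLinearMap (Ideal.Quotient.mk J x) = 0 from hx).trans (map_zero _).symm)
  exact Algebra.FinitePresentation.of_surjective (f := f) hf (hker ▸ ⟨_, rfl⟩)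

end Groth.Agent.H80.PureDescent
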