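import Groth.Agent.H80.PureDescent
import Mathlib.RingTheory.Flat.Tensor
import Mathlib.RingTheory.Flat.Stability
import Mathlib.RingTheory.Kaehler.TensorProduct
import Mathlib.RingTheory.Etale.Basic
import Mathlib.RingTheory.Smooth.Flat

/-!
# Descent of flatness along universally injective ring maps
-/

set_option autoImplicit false

universe u

open TensorProduct

namespace Groth.Agent.H80.PureFlat

variable {R S : Type u} [CommRing R] [CommRing S] [Algebra R S]

/-- Characters of `R` extend linearly to characters of `S`. -/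
theorem exists_section (h : Pi1.UnivInjective R S) :
    ∃ σ : CharacterModule R →ₗ[R] CharacterModule S,
      ∀ (c : CharacterModule R) (r : R), σ c (algebraMap R S r) = c r := by
  obtain ⟨e, he⟩ := CharacterModule.dual_surjective_of_injective
    (LinearMap.lTensor (CharacterModule R) (Algebra.linearMap R S)) (h (CharacterModule R))
    (CharacterModule.uncurry (R := R) (A := CharacterModule R) (B := R) LinearMap.id)
  refine ⟨CharacterModule.curry e, fun c r => ?_⟩
  exact congrArg (fun f : CharacterModule (CharacterModule R ⊗[R] R) => f (c ⊗ₜ r)) he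

theorem exact_ker_rTensor {A : Type u} [CommRing A] {N P : Type u} [AddCommGroup N]
    [AddCommGroup P] [Module A N] [Module A P] (Q : Type u) [AddCommGroup Q] [Module A Q]
    [Module.Flat A Q] (g : N →ₗ[A] P) :
    Function.Exact ((LinearMap.ker g).subtype.rTensor Q) (g.rTensor Q) :=
  Module.Flat.rTensor_exact Q (LinearMap.exact_subtype_ker_map g)

set_option maxHeartbeats 1600000 in
/-- Flatness descends along universally injective ring maps. -/
theorem flat (h : Pi1.UnivInjective R S) (M : Type u) [AddCommGroup M] [Module R M]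
    [Module.Flat S (S ⊗[R] M)] : Module.Flat R M := by
  rw [Module.Flat.iff_rTensor_injective']
  intro I
  rw [injective_iff_map_eq_zero]
  intro x hx
  obtain ⟨σ, hσ⟩ := exists_section h
  refine CharacterModule.eq_zero_of_character_apply fun φ => ?_
  let φt : ↥I ⊗[R] M →ₗ[R] CharacterModule R :=
    CharacterModule.curry (CharacterModule.dual (TensorProduct.rid R (↥I ⊗[R] M)).toLinearMap φ)
  have hφt : ∀ z r, φt z r = φ (r • z) := fun z r =>
    congrArg φ (TensorProduct.rid_tmul z r)
  let Φ : CharacterModule ((S ⊗[R] ↥I) ⊗[R] M) :=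
    CharacterModule.dual ((TensorProduct.comm R S (↥I ⊗[R] M)).toLinearMap ∘ₗ
      (TensorProduct.assoc R S I M).toLinearMap) (CharacterModule.uncurry (σ ∘ₗ φt))
  have hΦ : ∀ (s : S) (i : I) (m : M), Φ ((s ⊗ₜ i) ⊗ₜ m) = σ (φt (i ⊗ₜ m)) s := fun s i m => rfl
  let g : S ⊗[R] ↥I →ₗ[S] S := LinearMap.liftBaseChange S ((Algebra.linearMap R S).comp I.subtype)
  have hg : ∀ (s : S) (i : I), g (s ⊗ₜ i) = s * algebraMap R S i := fun s i =>
    (LinearMap.liftBaseChange_tmul _ _ _ _).trans rfl
  -- relations between the two rings give nothing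
  have hK : ∀ (t : S ⊗[R] ↥I) (m : M), g t = 0 → Φ (t ⊗ₜ m) = 0 := by
    intro t m ht
    have : Module.Injective R (CharacterModule R) :=
      Module.Flat.iff_characterModule_injective.mp inferInstance
    obtain ⟨ψ, hψ⟩ := Module.Injective.out I.subtype Subtype.val_injective
      (φt ∘ₗ (TensorProduct.mk R I M).flip m)
    have key : ∀ u : S ⊗[R] ↥I, Φ (u ⊗ₜ m) = σ (ψ 1) (g u) := fun u => by
      induction u using TensorProduct.induction_on with
      | zero => simp
      | add u v hu hv => rw [TensorProduct.add_tmul, map_add, hu, hv, map_add, map_add]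
      | tmul s i =>
        rw [hΦ, hg, show φt (i ⊗ₜ m) = ψ (I.subtype i) from (hψ i).symm,
          show ψ (I.subtype i) = (i : R) • ψ 1 by rw [← map_smul, smul_eq_mul, mul_one]; rfl,
          map_smul, CharacterModule.smul_apply, Algebra.smul_def, mul_comm]
    rw [key, ht, map_zero]
  let η : ↥I ⊗[R] M →ₗ[R] (S ⊗[R] ↥I) ⊗[R] M := (TensorProduct.mk R S I 1).rTensor M
  let e := AlgebraTensorModule.cancelBaseChange R S S (S ⊗[R] ↥I) M
  have hz : g.rTensor (S ⊗[R] M) (e.symm (η x)) = 0 := by
    let L : ↥I ⊗[R] M →ₗ[R] S ⊗[S] (S ⊗[R] M) :=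
      ((g.rTensor (S ⊗[R] M)).restrictScalars R) ∘ₗ (e.symm.toLinearMap.restrictScalars R) ∘ₗ η
    let L' : ↥I ⊗[R] M →ₗ[R] S ⊗[S] (S ⊗[R] M) :=
      ((TensorProduct.mk S S (S ⊗[R] M) 1).restrictScalars R) ∘ₗ (TensorProduct.mk R S M 1) ∘ₗ
        (TensorProduct.lid R M).toLinearMap ∘ₗ I.subtype.rTensor M
    have : L = L' := by
      refine TensorProduct.ext' fun i m => ?_
      change g.rTensor (S ⊗[R] M) (((1 : S) ⊗ₜ[R] i) ⊗ₜ[S] ((1 : S) ⊗ₜ[R] m)) =
        (1 : S) ⊗ₜ[S] ((1 : S) ⊗ₜ[R] ((i : R) • m))
      rw [LinearMap.rTensor_tmul, hg, one_mul, TensorProduct.tmul_smul,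
        ← algebraMap_smul S (i : R) ((1 : S) ⊗ₜ[R] m), ← TensorProduct.smul_tmul, smul_eq_mul, mul_one]
    change L x = 0
    rw [this]
    change _ ⊗ₜ[S] ((1 : S) ⊗ₜ[R] (TensorProduct.lid R M (I.subtype.rTensor M x))) = 0
    rw [hx, map_zero, TensorProduct.tmul_zero, TensorProduct.tmul_zero]
  have hex := exact_ker_rTensor (S ⊗[R] M) g
  obtain ⟨w, hw⟩ := (hex _).mp hz
  have h0 : ∀ w, Φ (e ((LinearMap.ker g).subtype.rTensor (S ⊗[R] M) w)) = 0 := fun w => by
    induction w using TensorProduct.induction_on with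
    | zero => simp
    | add u v hu hv => rw [map_add, map_add, map_add, hu, hv, add_zero]
    | tmul t z =>
      induction z using TensorProduct.induction_on with
      | zero => simp
      | add u v hu hv => rw [TensorProduct.tmul_add, map_add, map_add, map_add, hu, hv, add_zero]
      | tmul s m =>
        rw [LinearMap.rTensor_tmul, AlgebraTensorModule.cancelBaseChange_tmul]
        exact hK _ m (by rw [map_smul, show g ((LinearMap.ker g).subtype t) = 0 from t.2, smul_zero])
  have h1 : Φ (η x) = 0 := by rw [← e.apply_symm_apply (η x), ← hw]; exact h0 w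
  have h2 : ∀ y, Φ (η y) = φ y := fun y => by
    induction y using TensorProduct.induction_on with
    | zero => simp
    | add u v hu hv => rw [map_add, map_add, map_add, hu, hv]
    | tmul i m =>
      change Φ (((1 : S) ⊗ₜ i) ⊗ₜ m) = _
      rw [hΦ, ← map_one (algebraMap R S), hσ, hφt, one_smul]
  rw [← h2, h1]

/-- Etaleness descends along universally injective ring maps. -/
theorem etale (h : Pi1.UnivInjective R S) (A : Type u) [CommRing A] [Algebra R A]
    [Algebra.Etale S (S ⊗[R] A)] : Algebra.Etale R A := by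
  have : Algebra.FinitePresentation R A := PureDescent.algebraFinitePresentation A h
  have : Module.Flat R A := flat h A
  have : Algebra.FormallyUnramified R A := by
    refine ⟨⟨fun a b => ?_⟩⟩
    let : Algebra A (S ⊗[R] A) := Algebra.TensorProduct.rightAlgebra
    have : Subsingleton (S ⊗[R] Ω[A⁄R]) :=
      (KaehlerDifferential.tensorKaehlerEquivBase R S A (S ⊗[R] A)).toEquiv.subsingleton
    exact PureDescent.tmul_injective h _ (Subsingleton.elim _ _)
  have : Algebra.Unramified R A := ⟨inferInstance, inferInstance⟩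
  exact Algebra.Etale.of_formallyUnramified_of_flat

end Groth.Agent.H80.PureFlat
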