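import Groth.Agent.H80.PurityFlat
import Groth.Agent.Lib.FEt.DepthTwo
import Groth.Agent.Lib.Depth.Assoc
import Mathlib.AlgebraicGeometry.Morphisms.Etale

/-!
# Purity for finite flat morphisms over points of depth at least two
-/

universe u

open CategoryTheory CategoryTheory.Limits AlgebraicGeometry Groth.Agent.Lib

namespace Groth.Agent.H80.PurityFlat

theorem etale_restrict_iff {X Y : Scheme.{u}} (π : Y ⟶ X) {V : X.Opens} (hV : IsAffineOpen V)
    (hW : IsAffineOpen (π ⁻¹ᵁ V)) : Etale (π ∣_ V) ↔ (π.app V).hom.Etale := by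
  have : IsAffine (V : Scheme.{u}) := hV
  have : IsAffine ((π ⁻¹ᵁ V : Y.Opens) : Scheme.{u}) := hW
  rw [HasRingHomProperty.iff_of_isAffine (P := @Etale), Scheme.Hom.appTop, Scheme.Hom.app_eq_appLE,
    morphismRestrict_appLE, Scheme.Hom.app_eq_appLE]
  exact Scheme.Hom.appLE_congr π _ V.ι_image_top
    (by rw [Scheme.Hom.preimage_top, Scheme.Opens.ι_image_top]) fun {R S} φ => φ.hom.Etale

theorem etale_of_flat {X Y : Scheme.{u}} [IsLocallyNoetherian X] (U : X.Opens)
    (hU : ∀ x : X, x ∉ U → (2 : ℕ∞) ≤ LocCoh.depth (X.presheaf.stalk x) (X.presheaf.stalk x))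
    (π : Y ⟶ X) [IsFinite π] [Flat π] (hπU : Etale (π ∣_ U)) : Etale π := by
  have : IsZariskiLocalAtTarget @Etale := HasRingHomProperty.instIsZariskiLocalAtTarget @Etale
  have : MorphismProperty.RespectsIso @Etale :=
    (MorphismProperty.IsStableUnderBaseChange.respectsIso (P := @Etale))
  refine (IsZariskiLocalAtTarget.iff_of_iSup_eq_top (P := @Etale) (fun V : X.affineOpens => V.1)
    (iSup_affineOpens_eq_top X)).mpr fun VV => ?_
  obtain ⟨V, hV⟩ := VV
  have hW : IsAffineOpen (π ⁻¹ᵁ V) := hV.preimage π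
  refine (etale_restrict_iff π hV hW).mpr ?_
  let A := Γ(X, V)
  let B := Γ(Y, π ⁻¹ᵁ V)
  let : Algebra A B := (π.app V).hom.toAlgebra
  have : IsNoetherianRing A := IsLocallyNoetherian.component_noetherian ⟨V, hV⟩
  have : Module.Finite A B := IsFinite.finite_app π V hV
  have : Module.Flat A B := by
    change (π.app V).hom.Flat
    rw [Scheme.Hom.app_eq_appLE]
    exact HasRingHomProperty.appLE (P := @Flat) π inferInstance ⟨V, hV⟩ ⟨_, hW⟩ le_rfl
  change Algebra.Etale A B
  refine etale_of_unramified_dim A B fun p => ?_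
  let x : X := hV.fromSpec p
  have hxV : x ∈ V := hV.range_fromSpec.le (Set.mem_range_self p)
  by_cases hx : x ∈ U
  · right
    intro q hq
    -- a basic open neighbourhood of `x` inside `U`
    obtain ⟨a, hav, hxa⟩ := hV.exists_basicOpen_le ⟨x, hx⟩ hxV
    have hap : a ∉ p.asIdeal := by
      have hp' : p ∈ hV.fromSpec ⁻¹ᵁ X.basicOpen a := hxa
      rw [hV.fromSpec_preimage_basicOpen] at hp'
      exact hp'
    have hDa : IsAffineOpen (X.basicOpen a) := hV.basicOpen a
    have het : (π.app (X.basicOpen a)).hom.Etale := by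
      refine (etale_restrict_iff π hDa (hDa.preimage π)).mp ?_
      have h1 : Etale ((π ∣_ U) ∣_ U.ι ⁻¹ᵁ X.basicOpen a) :=
        IsZariskiLocalAtTarget.restrict (P := @Etale) hπU _
      have h2 : U.ι ''ᵁ (U.ι ⁻¹ᵁ X.basicOpen a) = X.basicOpen a := by
        rw [Scheme.Hom.image_preimage_eq_opensRange_inf, Scheme.Opens.opensRange_ι]
        exact inf_eq_right.mpr hav
      have h3 := (MorphismProperty.arrow_mk_iso_iff @Etale (morphismRestrictRestrict π U _)).mp h1
      rwa [h2] at h3
    let Aa := Γ(X, X.basicOpen a)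
    let Ba := Γ(Y, π ⁻¹ᵁ X.basicOpen a)
    let ra : A →+* Aa := (X.presheaf.map (homOfLE (X.basicOpen_le a)).op).hom
    let rb : B →+* Ba := (Y.presheaf.map (homOfLE (π.preimage_mono (X.basicOpen_le a))).op).hom
    let : Algebra A Aa := ra.toAlgebra
    have : IsLocalization.Away a Aa := hV.isLocalization_basicOpen a
    let : Algebra Aa Ba := (π.app (X.basicOpen a)).hom.toAlgebra
    let : Algebra B Ba := rb.toAlgebra
    let : Algebra A Ba := ((π.app (X.basicOpen a)).hom.comp ra).toAlgebra
    have : IsScalarTower A Aa Ba := IsScalarTower.of_algebraMap_eq fun _ => rfl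
    have : IsScalarTower A B Ba := IsScalarTower.of_algebraMap_eq fun t =>
      congr($(π.naturality (homOfLE (X.basicOpen_le a)).op).hom t)
    have : Algebra.Etale Aa Ba := het
    have : Algebra.FormallyUnramified A Aa := Algebra.FormallyUnramified.of_isLocalization (Submonoid.powers a)
    have hfu : Algebra.FormallyUnramified A Ba := Algebra.FormallyUnramified.comp A Aa Ba
    have : IsLocalization.Away (algebraMap A B a) Ba := by
      have hb : π ⁻¹ᵁ X.basicOpen a = Y.basicOpen ((π.app V).hom a) := Scheme.preimage_basicOpen π a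
      exact hW.isLocalization_of_eq_basicOpen _ (homOfLE (π.preimage_mono (X.basicOpen_le a))) hb
    have hq' : algebraMap A B a ∉ q.asIdeal := fun h => hap (hq ▸ h)
    have := Algebra.basicOpen_subset_unramifiedLocus_iff.mpr
      (Algebra.FormallyUnramified.of_equiv
        ((IsLocalization.algEquiv (Submonoid.powers (algebraMap A B a)) Ba
          (Localization.Away (algebraMap A B a))).restrictScalars A))
    exact this (show q ∈ PrimeSpectrum.basicOpen (algebraMap A B a) from hq')
  · left
    have h2 := hU x hx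
    let : Algebra A (X.presheaf.stalk x) := X.presheaf.algebra_section_stalk ⟨x, hxV⟩
    have hpx : (hV.primeIdealOf ⟨x, hxV⟩) = p := (hV.isOpenImmersion_fromSpec.base_open.injective)
      (hV.fromSpec_primeIdealOf ⟨x, hxV⟩)
    have := hV.isLocalization_stalk ⟨x, hxV⟩
    rw [hpx] at this
    have e : X.presheaf.stalk x ≃ₐ[A] Localization.AtPrime p.asIdeal :=
      IsLocalization.algEquiv p.asIdeal.primeCompl _ _
    rw [Lib.FEt.DepthTwo.depth_eq_of_ringEquiv e.toRingEquiv] at h2
    exact le_trans (WithBot.coe_le_coe.mpr h2)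
      (Depth.Assoc.depth_le_ringKrullDim (Localization.AtPrime p.asIdeal))

end Groth.Agent.H80.PurityFlat
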