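import Mathlib.RingTheory.Ideal.AssociatedPrime.Finiteness
import Mathlib.RingTheory.Ideal.AssociatedPrime.Localization
import Mathlib.RingTheory.Ideal.MinimalPrime.Localization
import Mathlib.RingTheory.Ideal.Height
import Mathlib.RingTheory.KrullDimension.Zero
import Mathlib.RingTheory.Ideal.Colon
import Mathlib.RingTheory.Ideal.Maps
import Mathlib.Algebra.Module.FinitePresentation
import Mathlib.Algebra.Module.LocalizedModule.Basic
import Mathlib.LinearAlgebra.Dual.Defs
import Mathlib.RingTheory.LocalProperties.Submodule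

set_option autoImplicit false
set_option backward.isDefEq.respectTransparency false
universe u

namespace Groth.Agent.H80.ReflEnd

variable {S : Type u} [CommRing S] {M : Type u} [AddCommGroup M] [Module S M]

/-- the endomorphism `z ↦ f z • n` -/
def rk1 (f : M →ₗ[S] S) (n : M) : Module.End S M := f.smulRight n

/-- trace ideal -/
def trace (S : Type u) [CommRing S] (M : Type u) [AddCommGroup M] [Module S M] : Ideal S :=
  Ideal.span {c | ∃ (f : M →ₗ[S] S) (m : M), f m = c}

theorem mem_trace (f : M →ₗ[S] S) (m : M) : f m ∈ trace S M := Ideal.subset_span ⟨f, m, rfl⟩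

theorem exists_notMem_of_trace_eq_top (h : trace S M = ⊤) (P : Ideal S) (hP : P ≠ ⊤) :
    ∃ (f : M →ₗ[S] S) (m : M), f m ∉ P := by
  by_contra! hc
  exact hP (top_le_iff.1 (h ▸ Ideal.span_le.2 fun c ⟨f, m, e⟩ => e ▸ hc f m))

theorem exists_assoc [IsNoetherianRing S] (hdim : ringKrullDim S ≤ 1) (P : Ideal S) [hP : P.IsMaximal] :
    (∃ y : S, y ≠ 0 ∧ ∀ p ∈ P, p * y = 0) ∨
      (∃ x ∈ nonZeroDivisors S, ∃ y, y ∉ Ideal.span {x} ∧ x ∈ P ∧ ∀ p ∈ P, p * y ∈ Ideal.span {x}) := by
  by_cases h : ∃ x ∈ P, x ∈ nonZeroDivisors S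
  · right
    obtain ⟨x, hxP, hx⟩ := h
    have hmin : P ∈ (Ideal.span {x}).minimalPrimes := by
      refine ⟨⟨hP.isPrime, (Ideal.span_singleton_le_iff_mem _).2 hxP⟩, fun q ⟨hq, hxq⟩ hqP => ?_⟩
      by_contra hne
      have hlt : q < P := lt_of_le_not_ge hqP hne
      have := hq
      have h1 := Ideal.height_add_one_le_of_lt_of_isPrime hlt
      have h2 : P.height ≤ 1 := by
        exact_mod_cast (Ideal.height_le_ringKrullDim_of_ne_top hP.ne_top).trans hdim
      have h0 : q.height = 0 := by
        have := h1.trans h2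
        by_contra h0
        have : (1 : ℕ∞) ≤ q.height := ENat.one_le_iff_ne_zero.2 h0
        have h3 := (add_le_add this le_rfl).trans (h1.trans h2)
        norm_num at h3
      exact Set.disjoint_left.1 (Ideal.disjoint_nonZeroDivisors_of_mem_minimalPrimes
        (Ideal.height_eq_zero_iff.1 h0)) ((Ideal.span_singleton_le_iff_mem _).1 hxq) hx
    have : P ∈ associatedPrimes S (S ⧸ Ideal.span {x}) := by
      apply Module.associatedPrimes.minimalPrimes_annihilator_subset_associatedPrimes S (S ⧸ Ideal.span {x})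
      rwa [Ideal.annihilator_quotient]
    obtain ⟨-, yb, hyb⟩ := isAssociatedPrime_iff.1 this
    obtain ⟨y, rfl⟩ := Ideal.Quotient.mk_surjective yb
    refine ⟨x, hx, y, fun hy => ?_, hxP, fun p hp => ?_⟩
    · refine hP.ne_top (top_le_iff.1 fun z _ => hyb ▸ ?_)
      rw [Submodule.mem_colon_singleton, Submodule.mem_bot, Ideal.Quotient.eq_zero_iff_mem.2 hy, smul_zero]
    · rw [hyb, Submodule.mem_colon_singleton, Submodule.mem_bot] at hp
      exact Ideal.Quotient.eq_zero_iff_mem.1 hp
  · left
    push Not at h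
    have hsub : (P : Set S) ⊆ ⋃ q ∈ associatedPrimes S S, (q : Set S) := by
      rw [biUnion_associatedPrimes_eq_compl_nonZeroDivisors]
      exact h
    obtain ⟨q, hq, hPq⟩ := (Ideal.subset_union_prime_finite (associatedPrimes.finite S S) ⊥ ⊥
      fun q hq _ _ => (AssociatedPrimes.mem_iff.1 hq).isPrime).1 hsub
    have hPq' : P = q := hP.eq_of_le (AssociatedPrimes.mem_iff.1 hq).isPrime.ne_top hPq
    obtain ⟨hq', y, hy⟩ := isAssociatedPrime_iff.1 (AssociatedPrimes.mem_iff.1 hq)
    refine ⟨y, fun h0 => hq'.ne_top (top_le_iff.1 fun z _ => hy ▸ ?_), fun p hp => ?_⟩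
    · rw [h0, Submodule.mem_colon_singleton, Submodule.mem_bot, smul_zero]
    · rw [hPq', hy, Submodule.mem_colon_singleton, Submodule.mem_bot] at hp
      exact hp

theorem trace_eq_top [IsNoetherianRing S] (hdim : ringKrullDim S ≤ 1) [Module.IsReflexive S M]
    (hend : Function.Bijective (algebraMap S (Module.End S M))) : trace S M = ⊤ := by
  by_contra hT
  obtain ⟨P, hP, hTP⟩ := Ideal.exists_le_maximal _ hT
  have hrefl : Function.Bijective (Module.Dual.eval S M) := Module.IsReflexive.bijective_dual_eval'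
  have kill : ∀ c : S, (∀ (f : M →ₗ[S] S) (m : M), c * f m = 0) → c = 0 := by
    intro c hc
    refine hend.1 ?_
    rw [map_zero]
    refine LinearMap.ext fun m => hrefl.1 (LinearMap.ext fun f => ?_)
    simp [hc f m]
  rcases exists_assoc hdim P with ⟨y, hy, hy'⟩ | ⟨x, hx, y, hy, hxP, hy'⟩
  · exact hy (kill y fun f m => by rw [mul_comm]; exact hy' _ (hTP (mem_trace f m)))
  choose d hd using fun (f : M →ₗ[S] S) (m : M) =>
    Ideal.mem_span_singleton'.1 (hy' _ (hTP (mem_trace f m)))
  have hcan : ∀ a b : S, a * x = b * x → a = b := fun a b h =>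
    (isRegular_iff_mem_nonZeroDivisors.2 hx).right h
  let ψ : (M →ₗ[S] S) →ₗ[S] (M →ₗ[S] S) :=
    { toFun := fun f =>
        { toFun := d f
          map_add' := fun a b => hcan _ _ (by simp only [add_mul, hd, map_add])
          map_smul' := fun c a => hcan _ _ (by
            simp only [RingHom.id_apply, smul_eq_mul, mul_assoc, hd, map_smul]) }
      map_add' := fun f g => LinearMap.ext fun m => hcan _ _ (by
        simp only [LinearMap.coe_mk, AddHom.coe_mk, LinearMap.add_apply, add_mul, hd])
      map_smul' := fun c f => LinearMap.ext fun m => hcan _ _ (by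
        simp only [LinearMap.coe_mk, AddHom.coe_mk, RingHom.id_apply, LinearMap.smul_apply,
          smul_eq_mul, mul_assoc, hd]) }
  let e : M ≃ₗ[S] Module.Dual S (Module.Dual S M) := LinearEquiv.ofBijective _ hrefl
  obtain ⟨s, hs⟩ := hend.2 (e.symm.toLinearMap ∘ₗ ψ.dualMap ∘ₗ e.toLinearMap)
  refine hy ?_
  have hz : y - s * x = 0 := kill _ fun f m => by
    have h1 := LinearMap.congr_fun hs m
    have h2 := LinearMap.congr_fun (congrArg e h1) f
    simp only [LinearMap.comp_apply, LinearEquiv.coe_coe, LinearEquiv.apply_symm_apply] at h2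
    have h3 : s * f m = d f m := by
      simpa [e, ψ] using h2
    rw [sub_mul, mul_right_comm, h3, hd]
    ring
  rw [sub_eq_zero.1 hz]
  exact Ideal.mem_span_singleton'.2 ⟨s, rfl⟩

/-- at a point of nonvanishing, `M` is free of rank one -/
theorem free_one_of_comm (P : Ideal S) [P.IsPrime] (f : M →ₗ[S] S) (m : M) (hu : f m ∉ P)
    (hc : ∀ z, ∃ t ∈ P.primeCompl, t • (f z • m) = t • (f m • z)) :
    Nonempty (LocalizedModule P.primeCompl M ≃ₗ[Localization.AtPrime P] Localization.AtPrime P) := by
  let ι := LocalizedModule.mkLinearMap P.primeCompl M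
  let L : Localization.AtPrime P →ₗ[Localization.AtPrime P] LocalizedModule P.primeCompl M :=
    LinearMap.toSpanSingleton _ _ (ι m)
  refine ⟨(LinearEquiv.ofBijective L ⟨?_, ?_⟩).symm⟩
  · rw [injective_iff_map_eq_zero]
    intro r hr
    obtain ⟨r, t, rfl⟩ := IsLocalization.exists_mk'_eq P.primeCompl r
    have h1 : ι (r • m) = 0 := by
      have := congrArg ((t : S) • ·) hr
      simp only [L, LinearMap.toSpanSingleton_apply, smul_zero] at this
      rw [← smul_assoc, Algebra.smul_def, mul_comm, IsLocalization.mk'_spec, algebraMap_smul] at this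
      rw [map_smul]
      exact this
    obtain ⟨c, hcr⟩ := (IsLocalizedModule.eq_zero_iff P.primeCompl ι).1 h1
    rw [IsLocalization.mk'_eq_zero_iff]
    refine ⟨c * ⟨f m, hu⟩, ?_⟩
    have := congrArg f hcr
    simp only [Submonoid.smul_def, map_smul, smul_eq_mul, map_zero] at this
    rw [Submonoid.coe_mul]
    linear_combination this
  · intro z
    obtain ⟨⟨z, t⟩, rfl⟩ := IsLocalizedModule.mk'_surjective P.primeCompl ι z
    obtain ⟨c, hcP, hcz⟩ := hc z
    refine ⟨IsLocalization.mk' _ (f z) (t * ⟨f m, hu⟩), ?_⟩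
    simp only [L, LinearMap.toSpanSingleton_apply, Function.uncurry_apply_pair]
    rw [IsLocalization.mk'_eq_mul_mk'_one, mul_smul, algebraMap_smul]
    symm
    rw [IsLocalizedModule.mk'_eq_iff]
    have hinv : ((t * ⟨f m, hu⟩ : P.primeCompl) : S) •
        (IsLocalization.mk' (Localization.AtPrime P) (1 : S) (t * ⟨f m, hu⟩)) = 1 := by
      rw [Algebra.smul_def, IsLocalization.mk'_spec']
      simp
    have hinj := IsLocalizedModule.smul_injective ι (⟨f m, hu⟩ : P.primeCompl)
    apply hinj
    apply IsLocalizedModule.smul_injective ι (⟨c, hcP⟩ : P.primeCompl)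
    simp only [Submonoid.smul_def]
    rw [← mul_smul (f m) (t : S), show f m * (t : S) = ((t * ⟨f m, hu⟩ : P.primeCompl) : S) by
      simp [mul_comm], smul_comm (f z), ← smul_assoc ((t * ⟨f m, hu⟩ : P.primeCompl) : S), hinv, one_smul,
      ← map_smul, ← map_smul, ← map_smul, ← map_smul, ← hcz]

theorem bijective_of_local [Module.FinitePresentation S M] (hloc : ∀ (P : Ideal S) (_ : P.IsPrime),
    Nonempty (LocalizedModule P.primeCompl M ≃ₗ[Localization.AtPrime P] Localization.AtPrime P)) :
    Function.Bijective (algebraMap S (Module.End S M)) := by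
  classical
  have hT : trace S M = ⊤ := by
    by_contra hT
    obtain ⟨P, hP, hTP⟩ := Ideal.exists_le_maximal _ hT
    obtain ⟨e⟩ := hloc P hP.isPrime
    let φ : M →ₗ[S] Localization.AtPrime P :=
      (e.toLinearMap.restrictScalars S) ∘ₗ LocalizedModule.mkLinearMap P.primeCompl M
    obtain ⟨f, c, hf⟩ := Module.FinitePresentation.exists_lift_of_isLocalizedModule P.primeCompl
      (Algebra.linearMap S (Localization.AtPrime P)) φ
    obtain ⟨⟨m, t⟩, hm⟩ := IsLocalizedModule.mk'_surjective P.primeCompl
      (LocalizedModule.mkLinearMap P.primeCompl M) (e.symm 1)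
    simp only [Function.uncurry_apply_pair] at hm
    have hφ : φ m = algebraMap S _ (t : S) := by
      have h1 : LocalizedModule.mkLinearMap P.primeCompl M m = (t : S) • e.symm 1 :=
        ((IsLocalizedModule.mk'_eq_iff).1 hm).trans (Submonoid.smul_def _ _)
      simp only [φ, LinearMap.comp_apply, h1, LinearMap.restrictScalars_apply, LinearMap.map_smul_of_tower]
      simp [Algebra.smul_def]
    have h2 := LinearMap.congr_fun hf m
    rw [LinearMap.comp_apply, LinearMap.smul_apply, hφ, Submonoid.smul_def, Algebra.smul_def,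
      Algebra.linearMap_apply, ← map_mul] at h2
    have hmem : f m ∈ P := hTP (mem_trace f m)
    have := (IsLocalization.AtPrime.to_map_mem_maximal_iff (Localization.AtPrime P) P (f m)).2 hmem
    rw [h2, IsLocalization.AtPrime.to_map_mem_maximal_iff (Localization.AtPrime P) P] at this
    exact (c * t).2 this
  have hcomm : ∀ (g : M →ₗ[S] S) (z n : M), g z • n = g n • z := by
    intro g z n
    rw [← sub_eq_zero]
    refine Module.eq_zero_of_localization_maximal (R := S) (M := M) (fun (P : Ideal S) _ => LocalizedModule P.primeCompl M)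
      (fun (P : Ideal S) _ => LocalizedModule.mkLinearMap P.primeCompl M) _ fun P hP => ?_
    obtain ⟨e⟩ := hloc P hP.isPrime
    let G := IsLocalizedModule.map P.primeCompl (LocalizedModule.mkLinearMap P.primeCompl M)
      (Algebra.linearMap S (Localization.AtPrime P)) g
    let G' : LocalizedModule P.primeCompl M →ₗ[Localization.AtPrime P] Localization.AtPrime P :=
      LinearMap.extendScalarsOfIsLocalization P.primeCompl _ G
    have hG : ∀ w, G' (LocalizedModule.mkLinearMap P.primeCompl M w) = algebraMap S _ (g w) := fun w =>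
      IsLocalizedModule.map_apply P.primeCompl (LocalizedModule.mkLinearMap P.primeCompl M)
        (Algebra.linearMap S (Localization.AtPrime P)) g w
    set ι := LocalizedModule.mkLinearMap P.primeCompl M
    have key : ∀ a b, G' a • b = G' b • a := fun a b => by
      apply e.injective
      have : ∀ a, G' a = e a * G' (e.symm 1) := fun a => by
        rw [← smul_eq_mul, ← map_smul, ← e.symm.map_smul]; simp
      rw [map_smul, map_smul, this a, this b, smul_eq_mul, smul_eq_mul]
      ring
    rw [map_sub, map_smul, map_smul, ← algebraMap_smul (Localization.AtPrime P) (g z),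
      ← algebraMap_smul (Localization.AtPrime P) (g n), ← hG, ← hG, key, sub_self]
  obtain ⟨k, hk⟩ := (Submodule.mem_span_set (s := {c | ∃ (f : M →ₗ[S] S) (m : M), f m = c})).1
    (show (1 : S) ∈ trace S M from hT ▸ trivial)
  choose! F μ hF using fun c (hc : c ∈ k.support) => hk.1 hc
  have h1 : ∑ c ∈ k.support, k c * F c (μ c) = 1 := by
    rw [← hk.2, Finsupp.sum]
    exact Finset.sum_congr rfl fun c hc => by rw [hF c hc, smul_eq_mul]
  refine ⟨fun a b hab => ?_, fun h => ⟨∑ c ∈ k.support, k c * F c (h (μ c)), LinearMap.ext fun z => ?_⟩⟩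
  · have hm : ∀ m : M, a • m = b • m := fun m => LinearMap.congr_fun hab m
    calc a = a * ∑ c ∈ k.support, k c * F c (μ c) := by rw [h1, mul_one]
      _ = ∑ c ∈ k.support, k c * F c (a • μ c) := by
        rw [Finset.mul_sum]; exact Finset.sum_congr rfl fun c _ => by rw [map_smul, smul_eq_mul]; ring
      _ = ∑ c ∈ k.support, k c * F c (b • μ c) := by simp only [hm]
      _ = b * ∑ c ∈ k.support, k c * F c (μ c) := by
        rw [Finset.mul_sum]; exact Finset.sum_congr rfl fun c _ => by rw [map_smul, smul_eq_mul]; ring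
      _ = b := by rw [h1, mul_one]
  · show (∑ c ∈ k.support, k c * F c (h (μ c))) • z = h z
    conv_rhs => rw [← one_smul S (h z), ← h1]
    rw [Finset.sum_smul, Finset.sum_smul]
    refine Finset.sum_congr rfl fun c _ => ?_
    rw [mul_smul, mul_smul]
    congr 1
    calc F c (h (μ c)) • z = (F c ∘ₗ h) z • μ c := hcomm (F c ∘ₗ h) (μ c) z
      _ = F c (μ c) • h z := hcomm (F c) (h z) (μ c)

theorem main [IsNoetherianRing S] (hdim : ringKrullDim S ≤ 1) [Module.Finite S M] [Module.IsReflexive S M] :
    (∀ (P : Ideal S) (_ : P.IsPrime),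
        Nonempty (LocalizedModule P.primeCompl M ≃ₗ[Localization.AtPrime P] Localization.AtPrime P)) ↔
      Function.Bijective (algebraMap S (Module.End S M)) := by
  have : Module.FinitePresentation S M := Module.finitePresentation_of_finite S M
  refine ⟨bijective_of_local, fun hend P hP => ?_⟩
  obtain ⟨f, m, hu⟩ := exists_notMem_of_trace_eq_top (trace_eq_top hdim hend) P hP.ne_top
  refine free_one_of_comm P f m hu fun z => ⟨f m, hu, ?_⟩
  obtain ⟨a, ha⟩ := hend.2 (rk1 f m)
  have ha' : ∀ z, a • z = f z • m := fun z => LinearMap.congr_fun ha z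
  have : f m * a = f m * f m := by
    have := congrArg f (ha' m)
    simp only [map_smul, smul_eq_mul] at this
    linear_combination this
  rw [← ha', ← mul_smul, this, mul_smul]

end Groth.Agent.H80.ReflEnd
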