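import Groth.Agent.H80.RegularExtend
import Groth.Agent.H80.FiberTorDim
import Mathlib.RingTheory.Regular.Flat
import Mathlib.RingTheory.Flat.EquationalCriterion
import Mathlib.RingTheory.Ideal.Quotient.Operations

/-!
# Relative complete intersections and finite tor dimension
-/

set_option autoImplicit false
set_option linter.style.haveILetI false
set_option linter.unusedSectionVars false

universe u

open CategoryTheory IsLocalRing RingTheory.Sequence
open scoped Pointwise TensorProduct

namespace Groth.Agent.H80.RelativeCI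

section General

variable {B : Type u} [CommRing B]

theorem hasTorDimLE_of_equiv {V W : Type u} [AddCommGroup V] [Module B V] [AddCommGroup W] [Module B W]
    (e : V ≃ₗ[B] W) {d : ℕ} (h : DRing.HasTorDimLE B d V) : DRing.HasTorDimLE B d W := by
  intro N _ _ p hp
  haveI := h N p hp
  exact ((((CategoryTheory.Tor (ModuleCat.{u} B) p).mapIso e.toModuleIso).app
    (ModuleCat.of B N)).toLinearEquiv).toEquiv.symm.subsingleton

variable {S : Type u} [CommRing S] [Algebra B S]

theorem hasTorDimLE_quotient : ∀ (ys : List S) (d : ℕ) (V : Type u) [AddCommGroup V] [Module B V]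
    [Module S V] [IsScalarTower B S V], DRing.HasTorDimLE B d V → IsWeaklyRegular V ys →
    DRing.HasTorDimLE B (d + ys.length) (V ⧸ (Ideal.ofList ys • (⊤ : Submodule S V))) := by
  intro ys
  induction ys with
  | nil =>
    intro d V _ _ _ _ h _
    let e : (V ⧸ (Ideal.ofList ([] : List S) • (⊤ : Submodule S V))) ≃ₗ[S] V :=
      Submodule.quotEquivOfEqBot _ (by rw [Ideal.ofList_nil, Submodule.bot_smul])
    exact hasTorDimLE_of_equiv (e.restrictScalars B).symm h
  | cons y ys ih =>
    intro d V _ _ _ _ h hreg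
    rw [isWeaklyRegular_cons_iff] at hreg
    let ι : V →ₗ[B] V := (LinearMap.lsmul S V y).restrictScalars B
    let π : V →ₗ[B] QuotSMulTop y V :=
      LinearMap.restrictScalars B (Submodule.mkQ (y • (⊤ : Submodule S V)))
    have hex : Function.Exact ι π := fun v => by
      change Submodule.Quotient.mk v = (0 : V ⧸ (y • (⊤ : Submodule S V))) ↔ ∃ w, y • w = v
      rw [Submodule.Quotient.mk_eq_zero, Submodule.mem_smul_pointwise_iff_exists]
      exact ⟨fun ⟨w, _, hw⟩ => ⟨w, hw⟩, fun ⟨w, hw⟩ => ⟨w, trivial, hw⟩⟩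
    have h1 : DRing.HasTorDimLE B (d + 1) (QuotSMulTop y V) :=
      FiberTorDim.hasTorDimLE_coker (ι := ι) (π := π) hreg.1
        (Submodule.mkQ_surjective (y • (⊤ : Submodule S V))) hex h h
    have h2 := ih (d + 1) (QuotSMulTop y V) h1 hreg.2
    rw [List.length_cons, show d + (ys.length + 1) = d + 1 + ys.length by omega]
    let e := Submodule.quotOfListConsSMulTopEquivQuotSMulTopInner V y ys
    exact hasTorDimLE_of_equiv (V := QuotSMulTop y V ⧸ (Ideal.ofList ys • (⊤ : Submodule S (QuotSMulTop y V))))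
      (e.restrictScalars B).symm h2

end General

variable {R S : Type u} [CommRing R] [CommRing S] [IsNoetherianRing R] [IsNoetherianRing S]
  [IsLocalRing R] [IsLocalRing S] [Algebra R S] [IsLocalHom (algebraMap R S)] [Module.Flat R S]

theorem exists_regular_of_map (I : Ideal R) (hI : I ≠ ⊤)
    (h : ∃ rs : List S, Ideal.ofList rs = I.map (algebraMap R S) ∧ IsRegular S rs) :
    ∃ rs : List R, Ideal.ofList rs = I ∧ IsRegular R rs := by
  classical
  haveI : Module.FaithfullyFlat R S := Module.FaithfullyFlat.of_flat_of_isLocalHom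
  obtain ⟨ss, hss, hreg⟩ := h
  obtain ⟨k, f, hf, hker⟩ := Lib.Regular.Serre.exists_minimal_cover (R := R) I
  let x : Fin k → R := fun i => (f (Pi.single i 1) : R)
  have hfx : ∀ c : Fin k → R, (f c : R) = ∑ i, c i * x i := by
    intro c
    conv_lhs => rw [pi_eq_sum_univ' c]
    simp only [map_sum, map_smul, Submodule.coe_sum, Submodule.coe_smul, smul_eq_mul, x]
  have hxI : Ideal.ofList (List.ofFn x) = I := by
    refine le_antisymm (Ideal.span_le.mpr fun z hz => ?_) fun z hz => ?_
    · obtain ⟨i, rfl⟩ := List.mem_ofFn.mp hz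
      exact (f _).2
    · obtain ⟨c, hc⟩ := hf ⟨z, hz⟩
      have : z = ∑ i, c i * x i := by rw [← hfx, hc]
      rw [this]
      exact sum_mem fun i _ => Ideal.mul_mem_left _ _ (Ideal.subset_span (List.mem_ofFn.mpr ⟨i, rfl⟩))
  let xS : Fin k → S := fun i => algebraMap R S (x i)
  set IS := I.map (algebraMap R S) with hIS
  have hxS : Ideal.ofList (List.ofFn xS) = IS := by
    rw [hIS, ← hxI, Ideal.map_ofList, List.map_ofFn]
    rfl
  have hxSmem : ∀ i, xS i ∈ IS := fun i => Ideal.mem_map_of_mem _ (f _).2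
  have hmS : (maximalIdeal R).map (algebraMap R S) ≤ maximalIdeal S :=
    ((IsLocalRing.local_hom_TFAE (algebraMap R S)).out 0 2).mp ‹IsLocalHom (algebraMap R S)›
  have hind : ∀ c : Fin k → S, ∑ i, c i * xS i ∈ maximalIdeal S * IS → ∀ i, c i ∈ maximalIdeal S := by
    intro c hc
    have h2 : ∀ z ∈ maximalIdeal S * IS, ∃ d : Fin k → S, (∀ i, d i ∈ maximalIdeal S) ∧
        ∑ i, d i * xS i = z := by
      intro z hz
      refine Submodule.mul_induction_on hz (fun a ha b hb => ?_) ?_
      · rw [← hxS] at hb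
        have hb' : b ∈ Ideal.span (Set.range xS) := Ideal.span_mono (fun w hw => List.mem_ofFn.mp hw) hb
        obtain ⟨e, he⟩ := Ideal.mem_span_range_iff_exists_fun.mp hb'
        exact ⟨fun i => a * e i, fun i => Ideal.mul_mem_right _ _ ha, by
          rw [← he, Finset.mul_sum]; simp [mul_assoc]⟩
      · rintro _ _ ⟨d, hd, rfl⟩ ⟨d', hd', rfl⟩
        exact ⟨d + d', fun i => add_mem (hd i) (hd' i), by simp [add_mul, Finset.sum_add_distrib]⟩
    obtain ⟨d, hd, hde⟩ := h2 _ hc
    have hrel : ∑ i, x i • (c i - d i) = 0 := by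
      simp only [Algebra.smul_def, mul_sub, Finset.sum_sub_distrib]
      rw [sub_eq_zero]
      simpa [xS, mul_comm] using hde.symm
    obtain ⟨m, a, y, hy, ha⟩ := Module.Flat.isTrivialRelation_of_sum_smul_eq_zero hrel
    intro i
    have h3 : c i - d i ∈ maximalIdeal S := by
      rw [show c i - d i = _ from hy i]
      refine sum_mem fun j _ => ?_
      rw [Algebra.smul_def]
      refine Ideal.mul_mem_right _ _ (hmS (Ideal.mem_map_of_mem _ ?_))
      exact hker (fun i => a i j) (Subtype.ext (by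
        rw [hfx, ZeroMemClass.coe_zero, ← ha j]
        exact Finset.sum_congr rfl fun i _ => mul_comm _ _)) i
    simpa using add_mem h3 (hd i)
  obtain ⟨t, hlen, hgen⟩ := RegularExtend.exists_extend (J := IS) ss.get
    (by rw [Set.range_list_get]; exact hss) xS hxSmem hind
  have hIStop : IS ≠ ⊤ := fun h => hreg.top_ne_smul (by rw [hss, h]; simp)
  set L := List.ofFn xS ++ t with hL
  have hLm : ∀ z ∈ L, z ∈ maximalIdeal S := fun z hz =>
    IsLocalRing.le_maximalIdeal hIStop (hgen ▸ Ideal.subset_span hz)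
  have hLreg : IsRegular S L := by
    have hspan : ∀ (m : ℕ) (g : Fin m → S), Ideal.ofList (List.ofFn g) = Ideal.span (Set.range g) :=
      fun m g => congrArg Ideal.span (Set.ext fun z => by simp [List.mem_ofFn])
    have h := S0611.result ss.get (fun i => L.get (Fin.cast hlen.symm i)) (by rwa [List.ofFn_get]) ?_
    · rwa [← List.ofFn_congr hlen L.get, List.ofFn_get] at h
    · rw [← hspan, ← hspan, List.ofFn_get, ← List.ofFn_congr hlen L.get, List.ofFn_get, hss, hgen]
  obtain ⟨h1, -⟩ := (isWeaklyRegular_append_iff S (List.ofFn xS) t).mp hLreg.toIsWeaklyRegular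
  refine ⟨List.ofFn x, hxI, IsRegular.of_isWeaklyRegular_of_mem_maximalIdeal R
    (fun z hz => IsLocalRing.le_maximalIdeal hI (hxI ▸ Ideal.subset_span hz)) ?_⟩
  rw [isWeaklyRegular_iff]
  intro i hi
  have h1' : IsWeaklyRegular S ((List.ofFn x).map (algebraMap R S)) := by rwa [List.map_ofFn]
  rw [isWeaklyRegular_iff] at h1'
  have h2 := h1' i (by simpa using hi)
  simp only [List.getElem_map, smul_eq_mul, Ideal.mul_top, ← List.map_take,
    isSMulRegular_quotient_iff_mem_of_smul_mem, ← Ideal.map_ofList] at h2 ⊢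
  intro z hz
  rw [← Ideal.comap_map_eq_self_of_faithfullyFlat (B := S) (Ideal.ofList (List.take i (List.ofFn x))),
    Ideal.mem_comap]
  refine h2 _ ?_
  rw [← map_mul]
  exact Ideal.mem_map_of_mem _ hz

theorem main [IsRegularLocalRing (S ⧸ (maximalIdeal R).map (algebraMap R S))]
    (I : Ideal R) (J : Ideal S) (hI : I ≠ ⊤) (hJ : J ≠ ⊤) (hIJ : I.map (algebraMap R S) ≤ J)
    [Algebra (R ⧸ I) (S ⧸ J)] [IsScalarTower R (R ⧸ I) (S ⧸ J)] :
    let P3 := (∃ rs : List R, Ideal.ofList rs = I ∧ IsRegular R rs) ∧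
      ∃ rs' : List (S ⧸ I.map (algebraMap R S)),
        Ideal.ofList rs' = J.map (Ideal.Quotient.mk (I.map (algebraMap R S))) ∧
          IsRegular (S ⧸ I.map (algebraMap R S)) rs'
    let Jreg := ∃ rs : List S, Ideal.ofList rs = J ∧ IsRegular S rs
    ((Jreg ∧ DRing.HasFiniteTorDim (R ⧸ I) (S ⧸ J)) ↔ P3) ∧
      ((Jreg ∧ Set.Finite {p : ℕ | ¬Subsingleton (DRing.Tor (R ⧸ I) p (S ⧸ J)
        ((R ⧸ I) ⧸ (maximalIdeal R).map (Ideal.Quotient.mk I)))}) ↔ P3) := by
  intro P3 Jreg
  set IS := I.map (algebraMap R S) with hIS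
  let B := R ⧸ I
  let S' := S ⧸ IS
  letI : Algebra B S' := Ideal.Quotient.algebraQuotientOfLEComap Ideal.le_comap_map
  letI : Algebra S' (S ⧸ J) := (Ideal.Quotient.factor hIJ).toAlgebra
  haveI : IsScalarTower S S' (S ⧸ J) := IsScalarTower.of_algebraMap_eq fun _ => rfl
  haveI : IsScalarTower R B S' := IsScalarTower.of_algebraMap_eq fun _ => rfl
  haveI : IsScalarTower B S' (S ⧸ J) := IsScalarTower.of_algebraMap_eq fun b => by
    obtain ⟨r, rfl⟩ := Ideal.Quotient.mk_surjective b
    exact (IsScalarTower.algebraMap_apply R B (S ⧸ J) r).symm.trans rfl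
  have hsurj : Function.Surjective (algebraMap S' (S ⧸ J)) := Ideal.Quotient.factor_surjective hIJ
  haveI : Module.Finite S' (S ⧸ J) :=
    Module.Finite.of_surjective (Algebra.linearMap S' (S ⧸ J)) hsurj
  haveI : Module.Flat B S' := by
    let e : (B ⊗[R] S) ≃ₗ[R] S' :=
      (TensorProduct.quotTensorEquivQuotSMul S I).trans
        ((Submodule.quotEquivOfEq _ (IS.restrictScalars R) (Ideal.smul_top_eq_map I)).trans
          (Submodule.Quotient.restrictScalarsEquiv R IS))
    exact Module.Flat.of_linearEquiv (e.extendScalarsOfSurjective Ideal.Quotient.mk_surjective).symm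
  have hIStop : IS ≠ ⊤ := fun h => hJ (top_le_iff.mp (h ▸ hIJ))
  haveI : Nontrivial S' := Ideal.Quotient.nontrivial_iff.mpr hIStop
  haveI : IsLocalRing S' := IsLocalRing.of_surjective' _ Ideal.Quotient.mk_surjective
  let 𝔪 : Ideal B := (maximalIdeal R).map (Ideal.Quotient.mk I)
  haveI : IsRegularLocalRing (S' ⧸ 𝔪.map (algebraMap B S')) := by
    have e1 : 𝔪.map (algebraMap B S') =
        ((maximalIdeal R).map (algebraMap R S)).map (Ideal.Quotient.mk IS) := by
      rw [Ideal.map_map, Ideal.map_map]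
      rfl
    have e2 : IS ⊔ (maximalIdeal R).map (algebraMap R S) = (maximalIdeal R).map (algebraMap R S) :=
      sup_eq_right.mpr (Ideal.map_mono (IsLocalRing.le_maximalIdeal hI))
    exact IsRegularLocalRing.of_ringEquiv
      ((Ideal.quotEquivOfEq e2.symm).trans ((DoubleQuot.quotQuotEquivQuotSup IS _).symm.trans
        (Ideal.quotEquivOfEq e1.symm)))
  have h31 : P3 → Jreg ∧ DRing.HasFiniteTorDim B (S ⧸ J) := by
    rintro ⟨⟨rs, hrs, hreg⟩, ⟨rs', hrs', hreg'⟩⟩
    choose l hl using fun y : S' => Ideal.Quotient.mk_surjective (I := IS) y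
    let ls := rs'.map l
    have hls : ls.map (Ideal.Quotient.mk IS) = rs' := by
      rw [List.map_map]
      exact (List.map_congr_left fun y _ => hl y).trans (List.map_id' _)
    have hJ' : Ideal.ofList (rs.map (algebraMap R S) ++ ls) = J := by
      rw [Ideal.ofList_append, ← Ideal.map_ofList, hrs, ← hIS]
      have := congrArg (Ideal.comap (Ideal.Quotient.mk IS)) hrs'
      rw [← hls, ← Ideal.map_ofList, Ideal.comap_map_of_surjective' _ Ideal.Quotient.mk_surjective,
        Ideal.comap_map_of_surjective' _ Ideal.Quotient.mk_surjective, Ideal.mk_ker,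
        sup_eq_left.mpr hIJ, sup_comm] at this
      exact this
    refine ⟨⟨_, hJ', IsRegular.of_isWeaklyRegular_of_mem_maximalIdeal S (fun z hz =>
      IsLocalRing.le_maximalIdeal hJ (hJ' ▸ Ideal.subset_span hz)) ?_⟩, rs'.length, ?_⟩
    · rw [isWeaklyRegular_append_iff]
      refine ⟨hreg.toIsWeaklyRegular.of_flat, ?_⟩
      have e : (Ideal.ofList (rs.map (algebraMap R S)) • ⊤ : Submodule S S) = IS := by
        rw [← Ideal.map_ofList, hrs, smul_eq_mul, Ideal.mul_top]
      rw [(Submodule.quotEquivOfEq _ _ e).isWeaklyRegular_congr ls, ← isWeaklyRegular_map_algebraMap_iff S']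
      change IsWeaklyRegular S' (ls.map (Ideal.Quotient.mk IS))
      rw [hls]
      exact hreg'.toIsWeaklyRegular
    · have h0 : DRing.HasTorDimLE B 0 S' := fun N _ _ p hp =>
        Lib.Tor.Module.subsingleton_tor_of_flat_left B S' N p hp
      have h1 := hasTorDimLE_quotient rs' 0 S' h0 hreg'.toIsWeaklyRegular
      rw [Nat.zero_add] at h1
      have hk : RingHom.ker (Algebra.ofId S' (S ⧸ J)) = Ideal.ofList rs' • (⊤ : Submodule S' S') := by
        rw [smul_eq_mul, Ideal.mul_top, hrs']
        exact Ideal.Quotient.factor_ker hIJ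
      exact hasTorDimLE_of_equiv (((Submodule.quotEquivOfEq _ _ hk.symm).trans
        (Ideal.quotientKerAlgEquivOfSurjective (f := Algebra.ofId S' (S ⧸ J)) hsurj).toLinearEquiv).restrictScalars B) h1
  have h23 : Jreg → ∀ N, FiberTorDim.TorVanish 𝔪 (S ⧸ J) N → P3 := by
    intro hJreg N hN
    have hfd := FiberTorDim.hasFiniteTorDim_of_torVanish (S := S') 𝔪 N (S ⧸ J) hN
    obtain ⟨h1, h2⟩ := RegularExtend.main IS J hIJ hJ hfd hJreg
    exact ⟨exists_regular_of_map I hI h1, h2⟩
  refine ⟨⟨fun h => ?_, h31⟩, ⟨fun h => ?_, fun h => ?_⟩⟩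
  · obtain ⟨N, hN⟩ := h.2
    exact h23 h.1 N fun p hp => hN _ p hp
  · obtain ⟨N, hN⟩ := h.2.bddAbove
    exact h23 h.1 N fun p hp => by_contra fun hc => absurd (hN hc) (not_le.mpr hp)
  · obtain ⟨h1, N, hN⟩ := h31 h
    refine ⟨h1, Set.Finite.subset (Set.finite_Iic N) fun p hp => ?_⟩
    by_contra hc
    exact hp (hN _ p (not_le.mp hc))

end Groth.Agent.H80.RelativeCI
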