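import Groth.Agent.H80.TorPowKoszul
import Groth.Agent.Lib.Tor.ExtTorShift
import Mathlib.Algebra.Module.CharacterModule

/-!
# Maps vanishing on Tor against modules killed by an ideal
-/

set_option autoImplicit false
set_option backward.isDefEq.respectTransparency false
universe u

open CategoryTheory CategoryTheory.Limits TensorProduct
open Groth.Agent.Lib.Tor

namespace Groth.Agent.H80.TorPowTor

variable {A : Type u} [CommRing A]

section Step

variable {F F' S S' : Type u} [AddCommGroup F] [Module A F] [AddCommGroup F'] [Module A F']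
  [AddCommGroup S] [Module A S] [AddCommGroup S'] [Module A S']
  [Module.Projective A F] [Module.Projective A F']
  (π : F →ₗ[A] S) (π' : F' →ₗ[A] S') (ψ : F →ₗ[A] F') (α : S →ₗ[A] S') (hψ : π' ∘ₗ ψ = α ∘ₗ π)
  {N : ModuleCat.{u} A} (Q : ProjectiveResolution N)

omit [Module.Projective A F] in
theorem shift_step (hπ : Function.Surjective π) (hπ' : Function.Surjective π') (e : ℕ)
    (h : ∀ y : LinearMap.ker π ⊗[A] Q.complex.X e,
      (∃ p, LinearMap.rTensor _ (LinearMap.ker π).subtype y =
        LinearMap.lTensor F (Q.complex.d (e + 1) e).hom p) →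
      ∃ w, LinearMap.lTensor _ (Q.complex.d (e + 1) e).hom w =
        LinearMap.rTensor _ (ExtTorShift.kerMap π π' ψ α hψ) y)
    (z : S ⊗[A] Q.complex.X (e + 1))
    (hz : LinearMap.lTensor S (Q.complex.d (e + 1) e).hom z = 0) :
    ∃ w : S' ⊗[A] Q.complex.X (e + 2),
      LinearMap.lTensor S' (Q.complex.d (e + 2) (e + 1)).hom w = LinearMap.rTensor _ α z := by
  have hsub : (LinearMap.ker π').subtype ∘ₗ ExtTorShift.kerMap π π' ψ α hψ =
      ψ ∘ₗ (LinearMap.ker π).subtype := by
    ext x; rfl
  have hE : Function.Exact (LinearMap.ker π).subtype π :=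
    LinearMap.exact_iff.2 (Submodule.range_subtype _).symm
  have hE' : Function.Exact (LinearMap.ker π').subtype π' :=
    LinearMap.exact_iff.2 (Submodule.range_subtype _).symm
  obtain ⟨p, rfl⟩ := LinearMap.rTensor_surjective _ hπ z
  obtain ⟨y, hy⟩ := (rTensor_exact (Q.complex.X e) hE hπ
    (LinearMap.lTensor F (Q.complex.d (e + 1) e).hom p)).1 (by
      rw [← hz]
      exact LinearMap.congr_fun ((LinearMap.rTensor_comp_lTensor _ _ _).trans
        (LinearMap.lTensor_comp_rTensor _ _ _).symm) p)
  obtain ⟨w, hw⟩ := h y ⟨p, hy⟩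
  obtain ⟨q, hq⟩ := ExtTorShift.exact_flat F' Q e
    (LinearMap.rTensor _ ψ p - LinearMap.rTensor _ (LinearMap.ker π').subtype w) (by
      rw [map_sub, ← LinearMap.comp_apply, LinearMap.lTensor_comp_rTensor,
        ← LinearMap.rTensor_comp_lTensor, LinearMap.comp_apply, ← hy, ← LinearMap.comp_apply,
        ← LinearMap.rTensor_comp, ← hsub, LinearMap.rTensor_comp, LinearMap.comp_apply, ← hw,
        sub_eq_zero]
      exact LinearMap.congr_fun ((LinearMap.rTensor_comp_lTensor _ _ _).trans
        (LinearMap.lTensor_comp_rTensor _ _ _).symm) w)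
  refine ⟨LinearMap.rTensor _ π' q, ?_⟩
  rw [← LinearMap.comp_apply, LinearMap.lTensor_comp_rTensor, ← LinearMap.rTensor_comp_lTensor,
    LinearMap.comp_apply, hq, map_sub, (rTensor_exact (Q.complex.X (e + 1)) hE' hπ').apply_apply_eq_zero,
    sub_zero, ← LinearMap.comp_apply, ← LinearMap.rTensor_comp, hψ, LinearMap.rTensor_comp,
    LinearMap.comp_apply]

end Step

variable (I : Ideal A) {P R : ChainComplex (ModuleCat.{u} A) ℕ} (φ : P ⟶ R)

/-- Pullbacks of cocycles in degree `q + 1` with values killed by `I` are coboundaries. -/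
def Coc (q : ℕ) : Prop :=
  ∀ (N : Type u) [AddCommGroup N] [Module A N], (∀ a ∈ I, ∀ y : N, a • y = 0) →
    ∀ c : R.X (q + 1) →ₗ[A] N, (∀ x, c (R.d (q + 2) (q + 1) x) = 0) →
      ∃ h : P.X q →ₗ[A] N, ∀ x, c (φ.f (q + 1) x) = h (P.d (q + 1) q x)

theorem torZero (hRp : ∀ n, Module.Projective A (R.X n))
    (hP : ∀ n, P.ExactAt (n + 1)) (hR : ∀ n, R.ExactAt (n + 1))
    (N : ModuleCat.{u} A) (hN : ∀ a ∈ I, ∀ y : N, a • y = 0) (Q : ProjectiveResolution N)
    (hcoc : ∀ q, Coc I φ q) : ∀ (e j : ℕ) (S S' : Type u) [AddCommGroup S] [Module A S]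
      [AddCommGroup S'] [Module A S'] (π : P.X j →ₗ[A] S) (π' : R.X j →ₗ[A] S') (α : S →ₗ[A] S')
      (_hψ : π' ∘ₗ (φ.f j).hom = α ∘ₗ π), Function.Surjective π → Function.Surjective π' →
      LinearMap.ker π = LinearMap.range (P.d (j + 1) j).hom →
      LinearMap.ker π' = LinearMap.range (R.d (j + 1) j).hom →
      ∀ z : S ⊗[A] Q.complex.X (e + 1), LinearMap.lTensor S (Q.complex.d (e + 1) e).hom z = 0 →
        ∃ w : S' ⊗[A] Q.complex.X (e + 2),
          LinearMap.lTensor S' (Q.complex.d (e + 2) (e + 1)).hom w = LinearMap.rTensor _ α z := by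
  intro e
  induction e with
  | zero =>
    intro j S S' _ _ _ _ π π' α hψ hπ hπ' hkπ hkπ' z hz
    refine shift_step π π' (φ.f j).hom α hψ Q hπ hπ' 0 (fun y ⟨p, hp⟩ => ?_) z hz
    let ε : Q.complex.X 0 →ₗ[A] N := (Q.π.f 0).hom
    have hεsurj : Function.Surjective ε := (ModuleCat.epi_iff_surjective _).1 inferInstance
    have hεex : Function.Exact (Q.complex.d 1 0).hom ε :=
      LinearMap.exact_iff.2 ((ShortComplex.moduleCat_exact_iff_range_eq_ker _).1
        (ShortComplex.exact_of_g_is_cokernel
          (ShortComplex.mk _ _ Q.complex_d_comp_π_f_zero) Q.isColimitCokernelCofork)).symm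
    let β := ExtTorShift.kerMap π π' (φ.f j).hom α hψ
    refine (lTensor_exact (LinearMap.ker π') hεex hεsurj _).1 ?_
    rw [← LinearMap.comp_apply, LinearMap.lTensor_comp_rTensor, ← LinearMap.rTensor_comp_lTensor,
      LinearMap.comp_apply]
    let yb := LinearMap.lTensor (LinearMap.ker π) ε y
    have hyb : LinearMap.rTensor N (LinearMap.ker π).subtype yb = 0 := by
      rw [← LinearMap.comp_apply, LinearMap.rTensor_comp_lTensor, ← LinearMap.lTensor_comp_rTensor,
        LinearMap.comp_apply, hp, ← LinearMap.comp_apply, ← LinearMap.lTensor_comp,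
        hεex.linearMap_comp_eq_zero, LinearMap.lTensor_zero, LinearMap.zero_apply]
    show LinearMap.rTensor N β yb = 0
    refine CharacterModule.eq_zero_of_character_apply fun χ => ?_
    let g : LinearMap.ker π' →ₗ[A] CharacterModule N := CharacterModule.curry χ
    have hkill : ∀ a ∈ I, ∀ t : CharacterModule N, a • t = 0 := fun a ha t => by
      ext y
      rw [CharacterModule.smul_apply, hN a ha y, map_zero]
      rfl
    let π₁ : R.X (j + 1) →ₗ[A] LinearMap.ker π' :=
      (R.d (j + 1) j).hom.codRestrict _ fun x => hkπ' ▸ LinearMap.mem_range_self _ x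
    obtain ⟨h, hh⟩ := hcoc j (CharacterModule N) hkill (g ∘ₗ π₁) (fun x => by
      rw [LinearMap.comp_apply, show π₁ (R.d (j + 2) (j + 1) x) = 0 from Subtype.ext
        (congrArg (fun f => f.hom x) (R.d_comp_d (j + 2) (j + 1) j)), map_zero])
    have hg : ∀ k : LinearMap.ker π, g (β k) = h k.1 := by
      intro k
      have hk : k.1 ∈ LinearMap.range (P.d (j + 1) j).hom := by rw [← hkπ]; exact k.2
      obtain ⟨x, hx⟩ := hk
      have : β k = π₁ (φ.f (j + 1) x) := by
        refine Subtype.ext ?_
        show (φ.f j).hom k.1 = _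
        rw [← hx]
        exact (congrArg (fun f => f.hom x) (φ.comm (j + 1) j)).symm
      rw [this, ← hx]
      exact hh x
    have key : ∀ t : LinearMap.ker π ⊗[A] N, χ (LinearMap.rTensor N β t) =
        CharacterModule.uncurry h (LinearMap.rTensor N (LinearMap.ker π).subtype t) := by
      intro t
      induction t using TensorProduct.induction_on with
      | zero => simp
      | add s t hs ht => simp only [map_add, hs, ht]
      | tmul k n => exact DFunLike.congr_fun (hg k) n
    rw [key, hyb, map_zero]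
  | succ e ih =>
    intro j S S' _ _ _ _ π π' α hψ hπ hπ' hkπ hkπ' z hz
    refine shift_step π π' (φ.f j).hom α hψ Q hπ hπ' (e + 1) (fun y ⟨p, hp⟩ => ?_) z hz
    have := Balance.flat_of_projective (Q.complex.X e)
    have hy : LinearMap.lTensor _ (Q.complex.d (e + 1) e).hom y = 0 := by
      refine Module.Flat.rTensor_preserves_injective_linearMap (LinearMap.ker π).subtype
        Subtype.val_injective ?_
      rw [map_zero, ← LinearMap.comp_apply, LinearMap.rTensor_comp_lTensor,
        ← LinearMap.lTensor_comp_rTensor, LinearMap.comp_apply, hp, ← LinearMap.comp_apply,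
        ← LinearMap.lTensor_comp, ← ModuleCat.hom_comp, HomologicalComplex.d_comp_d,
        ModuleCat.hom_zero, LinearMap.lTensor_zero, LinearMap.zero_apply]
    refine ih (j + 1) (LinearMap.ker π) (LinearMap.ker π')
      ((P.d (j + 1) j).hom.codRestrict _ fun x => hkπ ▸ LinearMap.mem_range_self _ x)
      ((R.d (j + 1) j).hom.codRestrict _ fun x => hkπ' ▸ LinearMap.mem_range_self _ x)
      (ExtTorShift.kerMap π π' (φ.f j).hom α hψ) ?_ ?_ ?_ ?_ ?_ y hy
    · ext x
      exact congrArg (fun f => f.hom x) (φ.comm (j + 1) j)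
    · rintro ⟨k, hk⟩
      rw [hkπ] at hk
      obtain ⟨x, rfl⟩ := hk
      exact ⟨x, rfl⟩
    · rintro ⟨k, hk⟩
      rw [hkπ'] at hk
      obtain ⟨x, rfl⟩ := hk
      exact ⟨x, rfl⟩
    · rw [LinearMap.ker_codRestrict]
      exact ((ShortComplex.moduleCat_exact_iff_range_eq_ker _).1
        ((HomologicalComplex.exactAt_iff' _ (j + 2) (j + 1) j (by simp) (by simp)).1 (hP j))).symm
    · rw [LinearMap.ker_codRestrict]
      exact ((ShortComplex.moduleCat_exact_iff_range_eq_ker _).1
        ((HomologicalComplex.exactAt_iff' _ (j + 2) (j + 1) j (by simp) (by simp)).1 (hR j))).symm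

theorem exists_pow_tor_map_eq_zero [IsNoetherianRing A] (M : Type u) [AddCommGroup M] [Module A M]
    [Module.Finite A M] :
    ∃ n : ℕ, 0 < n ∧ ∀ (N : ModuleCat.{u} A), (∀ a ∈ I, ∀ y : N, a • y = 0) → ∀ p : ℕ,
      ((CategoryTheory.Tor (ModuleCat.{u} A) p).map
        (ModuleCat.ofHom (I ^ n • ⊤ : Submodule A M).subtype)).app N = 0 := by
  obtain ⟨n, hn0, hn⟩ := TorPowKoszul.exists_pow_cocycle I (ModuleCat.of A M)
  refine ⟨n, hn0, fun N hN p => ?_⟩
  let Y : Submodule A M := I ^ n • ⊤
  let PY := projectiveResolution (ModuleCat.of A Y)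
  let PX := projectiveResolution (ModuleCat.of A M)
  obtain ⟨φ, hφ⟩ := hn PY PX
  let Q := projectiveResolution N
  rw [CategoryTheory.Tor_map, Q.leftDerived_app_eq]
  have h0 : HomologicalComplex.homologyMap ((NatTrans.mapHomologicalComplex
      ((MonoidalCategory.tensoringLeft (ModuleCat.{u} A)).map (ModuleCat.ofHom Y.subtype))
      (ComplexShape.down ℕ)).app Q.complex) p = 0 := by
    cases p with
    | zero =>
      let K := (((MonoidalCategory.tensoringLeft (ModuleCat.{u} A)).obj (ModuleCat.of A Y)).mapHomologicalComplex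
        (ComplexShape.down ℕ)).obj Q.complex
      let L := (((MonoidalCategory.tensoringLeft (ModuleCat.{u} A)).obj (ModuleCat.of A M)).mapHomologicalComplex
        (ComplexShape.down ℕ)).obj Q.complex
      let f : K ⟶ L := (NatTrans.mapHomologicalComplex
        ((MonoidalCategory.tensoringLeft (ModuleCat.{u} A)).map (ModuleCat.ofHom Y.subtype))
        (ComplexShape.down ℕ)).app Q.complex
      change HomologicalComplex.homologyMap f 0 = 0
      rw [← cancel_epi (K.homologyπ 0), comp_zero, HomologicalComplex.homologyπ_naturality]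
      ext z
      have key : ∀ t : Y ⊗[A] Q.complex.X 0, ∃ w : M ⊗[A] Q.complex.X 1,
          LinearMap.lTensor M (Q.complex.d 1 0).hom w = LinearMap.rTensor _ Y.subtype t := by
        intro t
        induction t using TensorProduct.induction_on with
        | zero => exact ⟨0, by simp⟩
        | add s t hs ht =>
          obtain ⟨v, hv⟩ := hs
          obtain ⟨w, hw⟩ := ht
          exact ⟨v + w, by rw [map_add, map_add, hv, hw]⟩
        | tmul y q =>
          have hy : (y : M) ∈ I • (⊤ : Submodule A M) :=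
            Submodule.smul_mono_left ((Ideal.pow_le_pow_right hn0).trans (pow_one I).le) y.2
          show ∃ w, LinearMap.lTensor M (Q.complex.d 1 0).hom w = (y : M) ⊗ₜ[A] q
          generalize (y : M) = m at hy ⊢
          refine Submodule.smul_induction_on hy (fun a ha x _ => ?_) (fun x x' hx hx' => ?_)
          · have hex : Function.Exact (Q.complex.d 1 0).hom (Q.π.f 0).hom :=
              LinearMap.exact_iff.2 ((ShortComplex.moduleCat_exact_iff_range_eq_ker _).1
                (Balance.resolution_exact_zero Q)).symm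
            obtain ⟨q', hq'⟩ := (hex (a • q)).1 (by
              rw [map_smul]
              exact hN a ha _)
            refine ⟨x ⊗ₜ q', ?_⟩
            rw [LinearMap.lTensor_tmul, hq', TensorProduct.tmul_smul, TensorProduct.smul_tmul']
          · obtain ⟨v, hv⟩ := hx
            obtain ⟨w, hw⟩ := hx'
            exact ⟨v + w, by rw [map_add, hv, hw, TensorProduct.add_tmul]⟩
      obtain ⟨w, hw⟩ := key ((K.iCycles 0).hom z)
      have hz : L.toCycles 1 0 w = HomologicalComplex.cyclesMap f 0 z := by
        refine (ModuleCat.mono_iff_injective (L.iCycles 0)).1 inferInstance ?_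
        rw [← ConcreteCategory.comp_apply, HomologicalComplex.toCycles_i,
          ← ConcreteCategory.comp_apply, HomologicalComplex.cyclesMap_i]
        exact hw
      change L.homologyπ 0 (HomologicalComplex.cyclesMap f 0 z) = 0
      rw [← hz, ← ConcreteCategory.comp_apply, HomologicalComplex.toCycles_comp_homologyπ]
      rfl
    | succ e =>
      refine Splice.homologyMap_eq_zero _ e fun z hz => ?_
      have hexact : ∀ {X : ModuleCat.{u} A} (P : ProjectiveResolution X),
          LinearMap.ker (P.π.f 0).hom = LinearMap.range (P.complex.d 1 0).hom := fun P =>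
        ((ShortComplex.moduleCat_exact_iff_range_eq_ker _).1 (Balance.resolution_exact_zero P)).symm
      exact torZero I φ.hom
        (fun k => (IsProjective.iff_projective (R := A) _).2 (PX.projective k))
        PY.complex_exactAt_succ PX.complex_exactAt_succ N hN Q
        (fun q N' _ _ hN' c hc => hφ q N' hN' c hc) e 0 Y M (PY.π.f 0).hom (PX.π.f 0).hom Y.subtype
        (by
          have := congrArg ModuleCat.Hom.hom φ.hom_f_zero_comp_π_f_zero
          rw [ModuleCat.hom_comp, ModuleCat.hom_comp, ChainComplex.single₀_map_f_zero] at this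
          exact this)
        ((ModuleCat.epi_iff_surjective _).1 inferInstance) ((ModuleCat.epi_iff_surjective _).1 inferInstance)
        (hexact PY) (hexact PX) z hz
  simp only [HomologicalComplex.homologyFunctor_map]
  erw [h0]
  refine (congrArg (fun t => _ ≫ t) zero_comp).trans comp_zero

theorem rTensor_eq_zero_of_le_mul {M : Type u} [AddCommGroup M] [Module A M] {P P' : Ideal A}
    (β : P →ₗ[A] P') (hβ : ∀ k, (β k : A) = k) (J : Ideal A) (hle : P ≤ J * P')
    (hM : ∀ a ∈ J, ∀ x : M, a • x = 0) (t : P ⊗[A] M) : LinearMap.rTensor M β t = 0 := by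
  induction t using TensorProduct.induction_on with
  | zero => exact map_zero _
  | add s t hs ht => rw [map_add, hs, ht, add_zero]
  | tmul k x =>
    rw [LinearMap.rTensor_tmul]
    have hsub : J * P' ≤ P' := Ideal.mul_le_right
    have key : ∀ v : A, v ∈ J * P' → ∀ hv' : v ∈ P', (⟨v, hv'⟩ : P') ⊗ₜ[A] x = 0 := by
      intro v hv
      induction hv using Submodule.mul_induction_on' with
      | mem_mul_mem a ha b hb =>
        intro hv'
        rw [show (⟨a * b, hv'⟩ : P') = a • ⟨b, hb⟩ from Subtype.ext rfl, TensorProduct.smul_tmul,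
          hM a ha, TensorProduct.tmul_zero]
      | add v hv w hw ihv ihw =>
        intro hvw
        have e : (⟨v + w, hvw⟩ : P') = ⟨v, hsub hv⟩ + ⟨w, hsub hw⟩ := Subtype.ext rfl
        rw [e, TensorProduct.add_tmul, ihv (hsub hv), ihw (hsub hw), add_zero]
    have hk : (k : A) ∈ P' := by
      have := (β k).2
      rwa [hβ k] at this
    have e : β k = ⟨k.1, hk⟩ := Subtype.ext (hβ k)
    rw [e]
    exact key k.1 (hle k.2) hk

set_option maxHeartbeats 400000 in
theorem exists_uniform_tor_map_quot_eq_zero [IsNoetherianRing A] (m i : ℕ) (hi : 0 < i) :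
    ∃ c : ℕ, ∀ (M : ModuleCat.{u} A), (∀ a ∈ I ^ m, ∀ x : M, a • x = 0) → ∀ n : ℕ, c ≤ n →
      (((CategoryTheory.Tor (ModuleCat.{u} A) i).obj M).map
        (ModuleCat.ofHom (Submodule.mapQ (I ^ n) (I ^ (n - c)) LinearMap.id
          (Ideal.pow_le_pow_right (Nat.sub_le n c))))) = 0 := by
  obtain ⟨e, rfl⟩ : ∃ e, i = e + 1 := ⟨i - 1, by omega⟩
  obtain ⟨s, hs⟩ := IsNoetherian.noetherian (I ^ m)
  let l := s.toList
  have hspan : I ^ m ≤ Ideal.span {x | x ∈ l} := le_of_eq (by simp [l, ← hs, Ideal.span])
  have hl : ∀ a ∈ l, a ∈ I ^ m := fun a ha => hs ▸ Submodule.subset_span (Finset.mem_toList.1 ha)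
  obtain ⟨c₁, hmc, hc₁⟩ := TorPowKoszul.exists_killed_uniform l I m hspan (ModuleCat.of A A)
  let c := (l.length + 1) * c₁
  have hc : m ≤ c := hmc.trans (Nat.le_mul_of_pos_left _ (Nat.succ_pos _))
  refine ⟨c, fun M hM n hn => ?_⟩
  have hle : n - c ≤ n := Nat.sub_le n c
  let α : (A ⧸ I ^ n) →ₗ[A] (A ⧸ I ^ (n - c)) :=
    Submodule.mapQ (I ^ n) (I ^ (n - c)) LinearMap.id (Ideal.pow_le_pow_right hle)
  let π : A →ₗ[A] A ⧸ I ^ n := (I ^ n).mkQ
  let π' : A →ₗ[A] A ⧸ I ^ (n - c) := (I ^ (n - c)).mkQ
  have hψ : π' ∘ₗ LinearMap.id = α ∘ₗ π := LinearMap.ext fun x => rfl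
  let Q := projectiveResolution M
  let β := ExtTorShift.kerMap π π' LinearMap.id α hψ
  have hzero : ∀ t : LinearMap.ker π ⊗[A] M, LinearMap.rTensor M β t = 0 :=
    rTensor_eq_zero_of_le_mul β (fun k => rfl) (I ^ m) (by
      rw [Submodule.ker_mkQ, Submodule.ker_mkQ, ← pow_add]
      exact Ideal.pow_le_pow_right (show m + (n - c) ≤ n by omega)) hM
  have hmain : ∀ z : (A ⧸ I ^ n) ⊗[A] Q.complex.X (e + 1),
      LinearMap.lTensor _ (Q.complex.d (e + 1) e).hom z = 0 →
      ∃ w : (A ⧸ I ^ (n - c)) ⊗[A] Q.complex.X (e + 2),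
        LinearMap.lTensor _ (Q.complex.d (e + 2) (e + 1)).hom w = LinearMap.rTensor _ α z := by
    intro z hz
    refine shift_step π π' LinearMap.id α hψ Q (Submodule.mkQ_surjective _) (Submodule.mkQ_surjective _) e
      (fun y ⟨p, hp⟩ => ?_) z hz
    cases e with
    | zero =>
      let ε : Q.complex.X 0 →ₗ[A] M := (Q.π.f 0).hom
      have hεsurj : Function.Surjective ε := (ModuleCat.epi_iff_surjective _).1 inferInstance
      have hεex : Function.Exact (Q.complex.d 1 0).hom ε :=
        LinearMap.exact_iff.2 ((ShortComplex.moduleCat_exact_iff_range_eq_ker _).1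
          (Balance.resolution_exact_zero Q)).symm
      refine (lTensor_exact (LinearMap.ker π') hεex hεsurj _).1 ?_
      rw [← LinearMap.comp_apply, LinearMap.lTensor_comp_rTensor, ← LinearMap.rTensor_comp_lTensor,
        LinearMap.comp_apply]
      exact hzero _
    | succ e =>
      have := Balance.flat_of_projective (Q.complex.X e)
      have hy : LinearMap.lTensor _ (Q.complex.d (e + 1) e).hom y = 0 := by
        refine Module.Flat.rTensor_preserves_injective_linearMap (LinearMap.ker π).subtype
          Subtype.val_injective ?_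
        rw [map_zero, ← LinearMap.comp_apply, LinearMap.rTensor_comp_lTensor,
          ← LinearMap.lTensor_comp_rTensor, LinearMap.comp_apply, hp, ← LinearMap.comp_apply,
          ← LinearMap.lTensor_comp, ← ModuleCat.hom_comp, HomologicalComplex.d_comp_d,
          ModuleCat.hom_zero, LinearMap.lTensor_zero, LinearMap.zero_apply]
      let X := ModuleCat.of A A
      let PY := projectiveResolution (ModuleCat.of A (I ^ n • ⊤ : Submodule A X))
      let PX := projectiveResolution (ModuleCat.of A (I ^ (n - c) • ⊤ : Submodule A X))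
      obtain ⟨φ, hφ⟩ := hc₁ (l.length + 1) (a := n) (b := n - c) (by simp only [c] at hn ⊢; omega) PY PX
      have hk : ∀ k, (LinearMap.ker ((I ^ k).mkQ) : Submodule A A) = (I ^ k • ⊤ : Submodule A A) :=
        fun k => by rw [Submodule.ker_mkQ, smul_eq_mul, Ideal.mul_top]
      let e₁ := LinearEquiv.ofEq (I ^ n • ⊤ : Submodule A A) (LinearMap.ker π) (hk n).symm
      let e₂ := LinearEquiv.ofEq (I ^ (n - c) • ⊤ : Submodule A A) (LinearMap.ker π') (hk (n - c)).symm
      have hexact : ∀ {X : ModuleCat.{u} A} (P : ProjectiveResolution X),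
          LinearMap.ker (P.π.f 0).hom = LinearMap.range (P.complex.d 1 0).hom := fun P =>
        ((ShortComplex.moduleCat_exact_iff_range_eq_ker _).1 (Balance.resolution_exact_zero P)).symm
      refine torZero (I ^ m) φ.hom (fun k => (IsProjective.iff_projective (R := A) _).2 (PX.projective k))
        PY.complex_exactAt_succ PX.complex_exactAt_succ M hM Q
        (fun q N' _ _ hN' cc hcc => TorPowKoszul.coc_of_killed l φ hφ q N' (fun a ha => hN' a (hl a ha)) cc hcc)
        e 0 (LinearMap.ker π) (LinearMap.ker π') (e₁.toLinearMap ∘ₗ (PY.π.f 0).hom)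
        (e₂.toLinearMap ∘ₗ (PX.π.f 0).hom) β ?_ ?_ ?_ ?_ ?_ y hy
      · have := congrArg ModuleCat.Hom.hom φ.hom_f_zero_comp_π_f_zero
        rw [ModuleCat.hom_comp, ModuleCat.hom_comp, ChainComplex.single₀_map_f_zero] at this
        rw [LinearMap.comp_assoc, this]
        rfl
      · exact e₁.surjective.comp ((ModuleCat.epi_iff_surjective _).1 inferInstance)
      · exact e₂.surjective.comp ((ModuleCat.epi_iff_surjective _).1 inferInstance)
      · exact (LinearEquiv.ker_comp e₁ _).trans (hexact PY)
      · exact (LinearEquiv.ker_comp e₂ _).trans (hexact PX)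
  refine (cancel_epi ((Balance.torIsoOfResolution Q (e + 1)).hom.app
    (ModuleCat.of A (A ⧸ I ^ n)))).1 ?_
  rw [comp_zero, ← NatTrans.naturality]
  show HomologicalComplex.homologyMap ((Balance.tensorCxFun Q.complex).map _) (e + 1) ≫ _ = 0
  rw [show HomologicalComplex.homologyMap ((Balance.tensorCxFun Q.complex).map (ModuleCat.ofHom α)) (e + 1) = 0
    from ?_, zero_comp]
  refine Splice.homologyMap_eq_zero _ e fun z hz => ?_
  have hl' : ∀ (X : Type u) [AddCommGroup X] [Module A X] {Y Y' : Type u} [AddCommGroup Y] [Module A Y]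
      [AddCommGroup Y'] [Module A Y'] (g : Y →ₗ[A] Y') (z : Y ⊗[A] X),
      LinearMap.lTensor X g (TensorProduct.comm A Y X z) = TensorProduct.comm A Y' X (LinearMap.rTensor X g z) := by
    intro X _ _ Y Y' _ _ _ _ g z
    induction z using TensorProduct.induction_on with
    | zero => simp
    | add s t hs ht => simp only [map_add, hs, ht]
    | tmul y x => rfl
  have hr' : ∀ (X : Type u) [AddCommGroup X] [Module A X] {Y Y' : Type u} [AddCommGroup Y] [Module A Y]
      [AddCommGroup Y'] [Module A Y'] (g : Y →ₗ[A] Y') (z : X ⊗[A] Y),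
      LinearMap.rTensor X g (TensorProduct.comm A X Y z) = TensorProduct.comm A X Y' (LinearMap.lTensor X g z) := by
    intro X _ _ Y Y' _ _ _ _ g z
    induction z using TensorProduct.induction_on with
    | zero => simp
    | add s t hs ht => simp only [map_add, hs, ht]
    | tmul y x => rfl
  obtain ⟨w, hw⟩ := hmain (TensorProduct.comm A (Q.complex.X (e + 1)) (A ⧸ I ^ n) z) (by
    rw [hl']
    exact (congrArg _ hz).trans (map_zero _))
  refine ⟨TensorProduct.comm A (A ⧸ I ^ (n - c)) (Q.complex.X (e + 2)) w, ?_⟩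
  show LinearMap.rTensor _ (Q.complex.d (e + 2) (e + 1)).hom _ = LinearMap.lTensor _ α z
  rw [hr', hw, hr']
  exact (TensorProduct.comm A (Q.complex.X (e + 1)) (A ⧸ I ^ (n - c))).symm_apply_apply _

end Groth.Agent.H80.TorPowTor
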