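import Groth.Agent.Lib.Goren.Global
import Mathlib.LinearAlgebra.FreeModule.PID
import Mathlib.RingTheory.Ideal.GoingUp
import Mathlib.RingTheory.Ideal.MinimalPrime.Localization
import Mathlib.RingTheory.KrullDimension.PID
import Mathlib.Algebra.Module.FinitePresentation
import Mathlib.LinearAlgebra.Dual.Lemmas
import Mathlib.RingTheory.LocalProperties.Reduced
import Mathlib.CategoryTheory.Abelian.Injective.Dimension

set_option autoImplicit false
set_option backward.isDefEq.respectTransparency false
universe u
open CategoryTheory CategoryTheory.Limits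

namespace Groth.Agent.H80.Torsionless

variable {S : Type u} [CommRing S]

def Emb (S : Type u) [CommRing S] (N : Type u) [AddCommGroup N] [Module S N] : Prop :=
  ∃ (n : ℕ) (j : N →ₗ[S] (Fin n → S)), Function.Injective j

theorem emb_of_torsionless [IsNoetherianRing S] {M : Type u} [AddCommGroup M] [Module S M] [Module.Finite S M]
    (h : Function.Injective (Module.Dual.eval S M)) : Emb S M := by
  have : Module.FinitePresentation S M := Module.finitePresentation_of_finite S M
  have : Module.Finite S (Module.Dual S M) := inferInstanceAs (Module.Finite S (M →ₗ[S] S))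
  obtain ⟨n, s, hs⟩ := Module.Finite.exists_fin (R := S) (M := Module.Dual S M)
  refine ⟨n, LinearMap.pi s, fun a b hab => h (LinearMap.ext fun f => ?_)⟩
  have hf : f ∈ Submodule.span S (Set.range s) := hs ▸ trivial
  induction hf using Submodule.span_induction with
  | mem x hx => obtain ⟨i, rfl⟩ := hx; exact congrFun hab i
  | zero => simp
  | add x y _ _ hx hy => simp [map_add, hx, hy]
  | smul c x _ hx => simp [map_smul, hx]

theorem emb_dual {L : Type u} [AddCommGroup L] [Module S L] [Module.Finite S L] :
    Emb S (Module.Dual S L) := by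
  obtain ⟨n, s, hs⟩ := Module.Finite.exists_fin (R := S) (M := L)
  refine ⟨n, LinearMap.pi fun i => Module.Dual.eval S L (s i), fun f g hfg => LinearMap.ext fun x => ?_⟩
  have hx : x ∈ Submodule.span S (Set.range s) := hs ▸ trivial
  induction hx using Submodule.span_induction with
  | mem x hx => obtain ⟨i, rfl⟩ := hx; exact congrFun hfg i
  | zero => simp
  | add x y _ _ hx hy => simp [map_add, hx, hy]
  | smul c x _ hx => simp [map_smul, hx]

/-- `Ext¹(N, S) = 0` for torsionless `N` when `id S ≤ 1`. -/
theorem exists_extension (hS : HasInjectiveDimensionLT (ModuleCat.of S S) 2) {F N : Type u}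
    [AddCommGroup F] [Module S F] [AddCommGroup N] [Module S N]
    (p : F →ₗ[S] N) (hp : Function.Surjective p) (hN : Emb S N) (φ : LinearMap.ker p →ₗ[S] S) :
    ∃ ψ : F →ₗ[S] S, ∀ x : LinearMap.ker p, ψ x = φ x := by
  obtain ⟨n, j, hj⟩ := hN
  obtain ⟨I, ι, hI, hι⟩ := Groth.Agent.Lib.InjHull.Basic.exists_injective_embedding (R := S) S
  let T : ShortComplex (ModuleCat.{u} S) :=
    ModuleCat.shortComplexOfCompEqZero ι (LinearMap.range ι).mkQ
      (LinearMap.exact_map_mkQ_range ι).linearMap_comp_eq_zero
  have hT : T.ShortExact := ModuleCat.shortComplex_shortExact T (LinearMap.exact_map_mkQ_range ι) hι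
    (Submodule.mkQ_surjective _)
  have hX2 : Injective T.X₂ := (Module.injective_iff_injective_object S I).mp hI
  have h3 : HasInjectiveDimensionLT T.X₃ 1 := (hT.hasInjectiveDimensionLT_X₃_iff 0 hX2).mpr hS
  have hC : Injective (ModuleCat.of S (I ⧸ LinearMap.range ι)) :=
    (injective_iff_hasInjectiveDimensionLT_one (X := T.X₃)).mpr h3
  have hC' : Module.Injective S (I ⧸ LinearMap.range ι) :=
    (Module.injective_iff_injective_object S _).mpr hC
  obtain ⟨ψ, hψ⟩ := hI.out (LinearMap.ker p).subtype Subtype.val_injective (ι ∘ₗ φ)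
  have hk : LinearMap.ker p ≤ LinearMap.ker ((LinearMap.range ι).mkQ ∘ₗ ψ) := fun x hx => by
    have := hψ ⟨x, hx⟩
    simp only [Submodule.subtype_apply] at this
    simp [LinearMap.mem_ker, this]
  let a : N →ₗ[S] I ⧸ LinearMap.range ι :=
    (LinearMap.ker p).liftQ _ hk ∘ₗ (p.quotKerEquivOfSurjective hp).symm.toLinearMap
  obtain ⟨b, hb⟩ := hC'.out j hj a
  obtain ⟨χ, hχ⟩ := Module.projective_lifting_property (LinearMap.range ι).mkQ b
    (Submodule.mkQ_surjective _)
  have hmem : ∀ x, ψ x - χ (j (p x)) ∈ LinearMap.range ι := by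
    intro x
    rw [← Submodule.Quotient.eq]
    have h1 : (LinearMap.range ι).mkQ (χ (j (p x))) = b (j (p x)) := LinearMap.congr_fun hχ _
    have h2 : (p.quotKerEquivOfSurjective hp).symm (p x) = Submodule.Quotient.mk x := by
      rw [LinearEquiv.symm_apply_eq]; simp
    have h3 : a (p x) = (LinearMap.range ι).mkQ (ψ x) := by simp [a, h2]
    rw [hb, h3] at h1
    exact h1.symm
  refine ⟨(LinearEquiv.ofInjective ι hι).symm.toLinearMap ∘ₗ
    (ψ - χ ∘ₗ j ∘ₗ p).codRestrict (LinearMap.range ι) hmem, fun x => ?_⟩
  simp only [LinearMap.comp_apply, LinearEquiv.coe_coe, LinearEquiv.symm_apply_eq]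
  refine Subtype.ext ?_
  have := hψ x
  simp only [Submodule.subtype_apply, LinearMap.comp_apply] at this
  simp [this, LinearMap.mem_ker.1 x.2]

theorem isReflexive_of_torsionless [IsNoetherianRing S] (hS : HasInjectiveDimensionLT (ModuleCat.of S S) 2)
    {M : Type u} [AddCommGroup M] [Module S M] [Module.Finite S M]
    (h : Function.Injective (Module.Dual.eval S M)) : Module.IsReflexive S M := by
  refine ⟨h, fun ξ => ?_⟩
  obtain ⟨n, p, hp⟩ := Module.Finite.exists_fin' S M
  let L := LinearMap.ker p
  have : Module.Finite S L := inferInstance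
  have hq : Function.Surjective L.subtype.dualMap := fun φ => by
    obtain ⟨ψ, hψ⟩ := exists_extension hS p hp (emb_of_torsionless h) φ
    exact ⟨ψ, LinearMap.ext hψ⟩
  have hpd : Function.Injective p.dualMap := LinearMap.dualMap_injective_of_surjective hp
  have hker : LinearMap.ker L.subtype.dualMap = LinearMap.range p.dualMap := by
    rw [LinearMap.range_dualMap_eq_dualAnnihilator_ker_of_surjective p hp]
    exact LinearMap.ker_dualMap_eq_dualAnnihilator_range _ |>.trans (by rw [Submodule.range_subtype])
  let e : Module.Dual S M ≃ₗ[S] LinearMap.ker L.subtype.dualMap :=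
    (LinearEquiv.ofInjective p.dualMap hpd).trans (LinearEquiv.ofEq _ _ hker.symm)
  obtain ⟨Ψ, hΨ⟩ := exists_extension hS L.subtype.dualMap hq emb_dual (ξ ∘ₗ e.symm.toLinearMap)
  obtain ⟨x, hx⟩ := (Module.bijective_dual_eval S (Fin n → S)).2 Ψ
  refine ⟨p x, LinearMap.ext fun g => ?_⟩
  have h1 := hΨ (e g)
  simp only [LinearMap.comp_apply, LinearEquiv.coe_coe, LinearEquiv.symm_apply_apply] at h1
  rw [← h1, ← hx]
  simp [e]

variable {Λ : Type u} [CommRing Λ] [IsDomain Λ] [IsPrincipalIdealRing Λ] [Algebra Λ S]
  [Module.Finite Λ S]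

include Λ in
theorem ringKrullDim_le_one : ringKrullDim S ≤ 1 := by
  have hmono : StrictMono (fun q : PrimeSpectrum S => PrimeSpectrum.comap (algebraMap Λ S) q) := by
    intro a b hab
    obtain ⟨x, hxb, hxa⟩ := SetLike.exists_of_lt ((PrimeSpectrum.asIdeal_lt_asIdeal a b).2 hab)
    refine (PrimeSpectrum.asIdeal_lt_asIdeal _ _).1 ?_
    exact Ideal.comap_lt_comap_of_integral_mem_sdiff (I := a.asIdeal) hab.le ⟨hxb, hxa⟩
      (Algebra.IsIntegral.isIntegral x)
  exact (Order.krullDim_le_of_strictMono _ hmono).trans Order.KrullDimLE.krullDim_le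

include Λ in
theorem hasInjectiveDimensionLT_two [LocCoh.IsGorensteinRing S] :
    HasInjectiveDimensionLT (ModuleCat.of S S) 2 := by
  refine ((ModuleCat.of S S).hasInjectiveDimensionLE_iff_forall_maximalSpectrum 1).mpr fun m => ?_
  have := LocCoh.IsGorensteinRing.isGorensteinLocalRing_localization m.asIdeal
  obtain ⟨k, hk⟩ := this.exists_hasInjectiveDimensionLT
  obtain ⟨d, hd, -, -, hd'⟩ := Groth.Agent.Lib.Goren.Basic.exists_dim hk
  rw [IsLocalization.AtPrime.ringKrullDim_eq_height m.asIdeal] at hd
  have hle := (Ideal.height_le_ringKrullDim_of_ne_top m.isMaximal.ne_top).trans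
    (ringKrullDim_le_one (Λ := Λ))
  rw [hd] at hle
  have hdn : d ≤ 1 := by exact_mod_cast hle
  exact (Groth.Agent.Lib.Goren.Global.hasInjectiveDimensionLT_localizedModule_iff m.asIdeal 2).mpr
    (hasInjectiveDimensionLT_of_ge _ (d + 1) 2 (by omega))

variable [Module.Free Λ S] [IsReduced S]
variable {M : Type u} [AddCommGroup M] [Module S M] [Module Λ M] [IsScalarTower Λ S M] [Module.Finite S M]

theorem free_of_torsionless (h : Function.Injective (Module.Dual.eval S M)) : Module.Free Λ M := by
  have : Module.Finite Λ M := Module.Finite.trans S M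
  have : IsNoetherianRing S := IsNoetherianRing.of_finite Λ S
  have : Module.IsTorsionFree Λ M := by
    refine Module.IsTorsionFree.mk fun c hc a b hab => h (LinearMap.ext fun f => ?_)
    have := congrArg f hab
    simp only [LinearMap.map_smul_of_tower] at this
    exact hc.isSMulRegular this
  exact Module.free_of_finite_type_torsion_free'

theorem torsionless_of_free [Module.Free Λ M] : Function.Injective (Module.Dual.eval S M) := by
  have : IsNoetherianRing S := IsNoetherianRing.of_finite Λ S
  have : Module.FinitePresentation S M := Module.finitePresentation_of_finite S M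
  rw [injective_iff_map_eq_zero]
  intro m hm
  by_contra hm0
  obtain ⟨P, hP, hmP⟩ : ∃ P ∈ minimalPrimes S,
      (Submodule.colon (⊥ : Submodule S M) {m}) ≤ P := by
    by_contra! hc
    have hns : ¬ ((Submodule.colon (⊥ : Submodule S M) {m} : Set S) ⊆ ⋃ P ∈ minimalPrimes S, (P : Set S)) := by
      intro hsub
      obtain ⟨P, hP, hle⟩ := (Ideal.subset_union_prime_finite (minimalPrimes.finite_of_isNoetherianRing S)
        ⊥ ⊥ fun P hP _ _ => hP.1.1).1 hsub
      exact hc P hP hle
    obtain ⟨s, hs, hsu⟩ := Set.not_subset.1 hns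
    have hsr : s ∈ nonZeroDivisors S := by
      rw [mem_nonZeroDivisors_iff_right]
      intro z hz
      have : z ∈ nilradical S := by
        rw [nilradical_eq_sInf]
        refine Ideal.mem_sInf.2 fun {Q} hQ => ?_
        have := hQ.out
        obtain ⟨P, hP, hle⟩ := Ideal.exists_minimalPrimes_le (I := ⊥) (J := Q) bot_le
        exact hle ((hP.1.1.mem_or_mem (show z * s ∈ P by rw [hz]; exact zero_mem _)).resolve_right
          fun h => hsu (Set.mem_biUnion hP h))
      rw [nilradical_eq_zero S] at this
      simpa using this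
    obtain ⟨lam, hlam, hmem⟩ : ∃ lam : Λ, lam ≠ 0 ∧ algebraMap Λ S lam ∈ Ideal.span {s} := by
      obtain ⟨q, hq, hq0⟩ := Algebra.IsIntegral.isIntegral (R := Λ) s
      have key : ∀ (n : ℕ) (q : Polynomial Λ), q.natDegree ≤ n → q ≠ 0 → Polynomial.aeval s q = 0 →
          ∃ lam : Λ, lam ≠ 0 ∧ algebraMap Λ S lam ∈ Ideal.span {s} := by
        intro n
        induction n with
        | zero =>
          intro q hn hne h0
          refine ⟨q.coeff 0, ?_, ?_⟩
          · intro hc; exact hne (by rw [Polynomial.eq_C_of_natDegree_le_zero hn, hc, map_zero])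
          · rw [Polynomial.eq_C_of_natDegree_le_zero hn, Polynomial.aeval_C] at h0
            rw [h0]; exact zero_mem _
        | succ n ih =>
          intro q hn hne h0
          rw [← Polynomial.X_mul_divX_add q, map_add, map_mul, Polynomial.aeval_X, Polynomial.aeval_C] at h0
          by_cases hc : q.coeff 0 = 0
          · rw [hc, map_zero, add_zero] at h0
            refine ih q.divX (by rw [Polynomial.natDegree_divX_eq_natDegree_tsub_one]; omega) ?_
              ((mem_nonZeroDivisors_iff_left.1 hsr) _ h0)
            intro hd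
            exact hne (by rw [← Polynomial.X_mul_divX_add q, hd, hc, mul_zero, map_zero, add_zero])
          · exact ⟨_, hc, Ideal.mem_span_singleton'.2 ⟨-Polynomial.aeval s q.divX, by
              linear_combination -h0⟩⟩
      exact key _ q le_rfl hq.ne_zero (by rwa [Polynomial.aeval_def])
    obtain ⟨c, hc'⟩ := Ideal.mem_span_singleton'.1 hmem
    have hsm : s • m = 0 := by simpa [Submodule.mem_colon_singleton] using hs
    have : lam • m = 0 := by rw [← algebraMap_smul S lam m, ← hc', mul_smul, hsm, smul_zero]
    exact hm0 ((smul_eq_zero.1 this).resolve_left hlam)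
  have := hP.1.1
  have hfld : IsField (Localization.AtPrime P) := by
    have : Ring.KrullDimLE 0 (Localization.AtPrime P) := .of_isLocalization _ hP _
    exact Ring.KrullDimLE.isField_of_isReduced
  let _ := hfld.toField
  have hne : LocalizedModule.mkLinearMap P.primeCompl M m ≠ 0 := by
    rw [Ne, IsLocalizedModule.eq_zero_iff P.primeCompl]
    rintro ⟨c, hc⟩
    exact c.2 (hmP (by simpa [Submodule.mem_colon_singleton, Submonoid.smul_def] using hc))
  obtain ⟨φ, hφ⟩ : ∃ φ : LocalizedModule P.primeCompl M →ₗ[Localization.AtPrime P] Localization.AtPrime P,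
      φ (LocalizedModule.mkLinearMap P.primeCompl M m) ≠ 0 := by
    by_contra! hc
    exact hne ((Module.forall_dual_apply_eq_zero_iff (Localization.AtPrime P) _).1 hc)
  obtain ⟨f, c, hf⟩ := Module.FinitePresentation.exists_lift_of_isLocalizedModule P.primeCompl
    (Algebra.linearMap S (Localization.AtPrime P))
    (φ.restrictScalars S ∘ₗ LocalizedModule.mkLinearMap P.primeCompl M)
  have h2 := LinearMap.congr_fun hf m
  have h0 : f m = 0 := LinearMap.congr_fun hm f
  rw [LinearMap.comp_apply, h0, map_zero, LinearMap.smul_apply, Submonoid.smul_def,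
    Algebra.smul_def] at h2
  exact hφ ((IsLocalization.map_units (Localization.AtPrime P) c).mul_right_eq_zero.1 h2.symm)

theorem main :
    (Function.Injective (Module.Dual.eval S M) ↔ Module.Free Λ M) ∧
      (LocCoh.IsGorensteinRing S → (Module.IsReflexive S M ↔ Module.Free Λ M)) := by
  refine ⟨⟨free_of_torsionless, fun _ => torsionless_of_free (Λ := Λ)⟩, fun hG =>
    ⟨fun h => free_of_torsionless (@Module.IsReflexive.bijective_dual_eval' S M _ _ _ h).1, fun _ => ?_⟩⟩
  exact isReflexive_of_torsionless (hasInjectiveDimensionLT_two (Λ := Λ)) (torsionless_of_free (Λ := Λ))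

end Groth.Agent.H80.Torsionless
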