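import Groth.Prelude.Def_W4stkdualitygroupp2Univ
import Mathlib.RingTheory.RegularLocalRing.Polynomial
import Mathlib.RingTheory.DedekindDomain.PID

/-! The universal complete intersection algebra is a polynomial ring over `ℤ`. -/

set_option autoImplicit false
set_option backward.isDefEq.respectTransparency false

open MvPolynomial

namespace Groth.Agent.H80.UnivAlgPoly

variable (n d : ℕ)

/-- the zero exponent -/
def z : Synt.UnivIdx n d := ⟨fun _ => 0, by simp⟩

theorem exponent_z : (z n d).exponent = 0 := by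
  ext i; simp [Synt.UnivIdx.exponent, z]

/-- free variables -/
abbrev J : Type := (Fin n × {E : Synt.UnivIdx n d // E ≠ z n d}) ⊕ Fin n

abbrev C : Type := MvPolynomial (J n d) ℤ

noncomputable def xImg (j : Fin n) : C n d := X (Sum.inr j)

noncomputable def mon (E : Synt.UnivIdx n d) : C n d := E.exponent.prod fun j e => xImg n d j ^ e

noncomputable def g (i : Fin n) : C n d :=
  ∑ E : {E : Synt.UnivIdx n d // E ≠ z n d}, X (Sum.inl (i, E)) * mon n d E.1

noncomputable def aImg (p : Fin n × Synt.UnivIdx n d) : C n d :=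
  if h : p.2 = z n d then - g n d p.1 else X (Sum.inl (p.1, ⟨p.2, h⟩))

noncomputable def φ : MvPolynomial (Fin n) (Synt.UnivBase n d) →+* C n d :=
  eval₂Hom (eval₂Hom (Int.castRingHom _) (aImg n d)) (xImg n d)

theorem φ_univPoly (i : Fin n) : φ n d (Synt.univPoly n d i) = 0 := by
  classical
  simp only [Synt.univPoly, φ, map_sum, eval₂Hom_monomial, eval₂Hom_X']
  rw [← Finset.add_sum_erase _ _ (Finset.mem_univ (z n d))]
  have h0 : aImg n d (i, z n d) = - g n d i := by simp [aImg]
  rw [h0, exponent_z]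
  simp only [Finsupp.prod_zero_index, mul_one]
  rw [neg_add_eq_zero, g]
  symm
  refine Finset.sum_bij' (fun E hE => ⟨E, (Finset.mem_erase.1 hE).1⟩) (fun E _ => E.1)
    (fun _ _ => Finset.mem_univ _) (fun E _ => Finset.mem_erase.2 ⟨E.2, Finset.mem_univ _⟩)
    (fun _ _ => rfl) (fun _ _ => rfl) ?_
  intro E hE
  simp [aImg, (Finset.mem_erase.1 hE).1, mon]

noncomputable def φbar : Synt.UnivAlg n d →+* C n d :=
  Ideal.Quotient.lift (Synt.univIdeal n d) (φ n d) (by
    intro a ha
    have : Synt.univIdeal n d ≤ RingHom.ker (φ n d) := by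
      rw [Synt.univIdeal, Ideal.span_le]
      rintro _ ⟨i, rfl⟩
      exact φ_univPoly n d i
    exact this ha)

noncomputable def q : MvPolynomial (Fin n) (Synt.UnivBase n d) →+* Synt.UnivAlg n d :=
  Ideal.Quotient.mk (Synt.univIdeal n d)

noncomputable def ψ : C n d →+* Synt.UnivAlg n d :=
  eval₂Hom (Int.castRingHom _) fun j => match j with
    | Sum.inl (i, E) => q n d (MvPolynomial.C (X (i, E.1)))
    | Sum.inr j => q n d (X j)

theorem φbar_q (x : MvPolynomial (Fin n) (Synt.UnivBase n d)) : φbar n d (q n d x) = φ n d x :=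
  Ideal.Quotient.lift_mk _ _ _

theorem φbar_ψ : (φbar n d).comp (ψ n d) = RingHom.id _ := by
  refine MvPolynomial.ringHom_ext (fun r => by simp) fun j => ?_
  rcases j with ⟨i, E⟩ | j
  · simp [ψ, φbar_q, φ, xImg, aImg, E.2]
  · simp [ψ, φbar_q, φ, xImg]

theorem ψ_mon (E : Synt.UnivIdx n d) :
    ψ n d (mon n d E) = q n d (monomial E.exponent 1) := by
  rw [mon, map_finsuppProd, monomial_eq, map_mul, map_one, map_one, one_mul, map_finsuppProd]
  simp [ψ, xImg]

theorem ψ_φbar : (ψ n d).comp (φbar n d) = RingHom.id _ := by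
  classical
  have key : (ψ n d).comp (φ n d) = q n d := by
    refine MvPolynomial.ringHom_ext ?_ fun j => by simp [φ, ψ, xImg]
    intro a
    suffices h : ((ψ n d).comp (φ n d)).comp MvPolynomial.C = (q n d).comp MvPolynomial.C from
      RingHom.congr_fun h a
    refine MvPolynomial.ringHom_ext (fun r => by simp) fun p => ?_
    obtain ⟨i, E⟩ := p
    by_cases hE : E = z n d
    · subst hE
      simp only [RingHom.comp_apply, φ, eval₂Hom_C, eval₂Hom_X', aImg, dif_pos]
      rw [map_neg, g, map_sum]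
      have h0 : q n d (Synt.univPoly n d i) = 0 :=
        Ideal.Quotient.eq_zero_iff_mem.2 (Ideal.subset_span ⟨i, rfl⟩)
      rw [Synt.univPoly, ← Finset.add_sum_erase _ _ (Finset.mem_univ (z n d)), map_add,
        exponent_z, add_eq_zero_iff_eq_neg] at h0
      rw [show MvPolynomial.C (X (i, z n d)) = monomial 0 (X (i, z n d)) from C_apply, h0, map_sum]
      congr 1
      refine Finset.sum_bij' (fun E _ => E.1) (fun E hE => ⟨E, (Finset.mem_erase.1 hE).1⟩)
        (fun E _ => Finset.mem_erase.2 ⟨E.2, Finset.mem_univ _⟩) (fun _ _ => Finset.mem_univ _)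
        (fun _ _ => rfl) (fun _ _ => rfl) ?_
      intro E _
      rw [map_mul, ψ_mon, show ψ n d (X (Sum.inl (i, E))) = q n d (MvPolynomial.C (X (i, E.1))) by simp [ψ],
        ← map_mul, C_mul_monomial, mul_one]
    · simp [φ, ψ, aImg, hE]
  refine RingHom.ext fun x => ?_
  obtain ⟨y, hy⟩ := Ideal.Quotient.mk_surjective (I := Synt.univIdeal n d) x
  have hx : q n d y = x := hy
  rw [← hx]
  show ψ n d (φbar n d (q n d y)) = q n d y
  rw [φbar_q]
  exact RingHom.congr_fun key y

noncomputable def equiv : Synt.UnivAlg n d ≃+* C n d :=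
  RingEquiv.ofRingHom (φbar n d) (ψ n d) (φbar_ψ n d) (ψ_φbar n d)

theorem main : IsDomain (Synt.UnivAlg n d) ∧
    ∀ q : PrimeSpectrum (Synt.UnivAlg n d), IsRegularLocalRing (Localization.AtPrime q.asIdeal) := by
  have : IsRegularRing (Synt.UnivAlg n d) := IsRegularRing.of_ringEquiv (equiv n d).symm
  exact ⟨MulEquiv.isDomain (C n d) (equiv n d).toMulEquiv, fun q => inferInstance⟩

end Groth.Agent.H80.UnivAlgPoly
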