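import Groth.Prelude.Def_W4stkdualitygroupp2Univ
import Mathlib.RingTheory.Smooth.StandardSmoothCotangent
import Mathlib.RingTheory.Unramified.LocalStructure
import Mathlib.RingTheory.Etale.Locus
import Mathlib.RingTheory.Etale.Basic
import Mathlib.RingTheory.Localization.LocalizationLocalization

/-! The universal complete intersection algebra has an étale point. -/

set_option autoImplicit false
set_option backward.isDefEq.respectTransparency false

open MvPolynomial

namespace Groth.Agent.H80.UnivEtale

variable (n d : ℕ)

/-- étale at primes avoiding the Jacobian of a square presentation -/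
theorem etaleAt_of_jacobian_notMem {R S : Type} [CommRing R] [CommRing S] [Algebra R S] {σ : Type} [Finite σ]
    (P : Algebra.PreSubmersivePresentation R S σ σ) (q : Ideal S) [q.IsPrime] (h : P.jacobian ∉ q) :
    Algebra.QuasiFiniteAt R q ∧ Algebra.IsEtaleAt R q := by
  let T := Localization.Away P.jacobian
  let Q := Algebra.SubmersivePresentation.localizationAway (R := S) T P.jacobian
  let C : Algebra.SubmersivePresentation R T (Unit ⊕ σ) (Unit ⊕ σ) :=
    { toPreSubmersivePresentation := Q.toPreSubmersivePresentation.comp P
      jacobian_isUnit := by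
        rw [Algebra.PreSubmersivePresentation.comp_jacobian_eq_jacobian_smul_jacobian, Algebra.smul_def,
          IsUnit.mul_iff]
        exact ⟨IsLocalization.Away.algebraMap_isUnit P.jacobian, Q.jacobian_isUnit⟩ }
  have hdim : C.toPreSubmersivePresentation.dimension = 0 := by
    simp [Algebra.Presentation.dimension]
  have hst : Algebra.IsStandardSmoothOfRelativeDimension 0 R T := ⟨⟨_, _, inferInstance, inferInstance, C, hdim⟩⟩
  let L := Localization.AtPrime q
  have hu : IsUnit (algebraMap S L P.jacobian) := IsLocalization.map_units L (⟨_, h⟩ : q.primeCompl)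
  letI : Algebra T L := (IsLocalization.Away.lift (S := T) P.jacobian hu).toAlgebra
  have : IsScalarTower S T L :=
    IsScalarTower.of_algebraMap_eq fun s => (IsLocalization.Away.lift_eq P.jacobian hu s).symm
  have : IsScalarTower R T L := IsScalarTower.of_algebraMap_eq fun r => by
    rw [IsScalarTower.algebraMap_apply R S L, IsScalarTower.algebraMap_apply R S T,
      ← IsScalarTower.algebraMap_apply S T L]
  have : IsLocalization (q.primeCompl.map (algebraMap S T)) L :=
    IsLocalization.isLocalization_of_submonoid_le T L (Submonoid.powers P.jacobian) q.primeCompl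
      (Submonoid.powers_le.2 h)
  have : Algebra.FormallyEtale T L := Algebra.FormallyEtale.of_isLocalization (q.primeCompl.map (algebraMap S T))
  have : Algebra.FormallyEtale R L := Algebra.FormallyEtale.comp R T L
  have : Algebra.EssFiniteType R L := by
    have : Algebra.EssFiniteType T L := Algebra.EssFiniteType.of_isLocalization L (q.primeCompl.map (algebraMap S T))
    exact Algebra.EssFiniteType.comp R T L
  have hqf : Algebra.QuasiFinite R L := inferInstance
  exact ⟨hqf, inferInstanceAs (Algebra.FormallyEtale R L)⟩

/-- coefficients of the linear system `x_i = 0` -/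
def coef (p : Fin n × Synt.UnivIdx n d) : ℚ :=
  if ∀ j, (p.2.1 j : ℕ) = if j = p.1 then 1 else 0 then 1 else 0

noncomputable def ev : MvPolynomial (Fin n) (Synt.UnivBase n d) →+* ℚ :=
  eval₂Hom (eval₂Hom (Int.castRingHom ℚ) (coef n d)) 0

theorem ev_monomial (E : Fin n →₀ ℕ) (a : Synt.UnivBase n d) :
    ev n d (monomial E a) = if E = 0 then eval₂Hom (Int.castRingHom ℚ) (coef n d) a else 0 := by
  simp only [ev, eval₂Hom_monomial]
  by_cases h : E = 0
  · simp [h]
  · rw [if_neg h]
    obtain ⟨i, hi⟩ := Finsupp.support_nonempty_iff.2 h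
    rw [Finsupp.prod, Finset.prod_eq_zero hi (by simp [Finsupp.mem_support_iff.1 hi]), mul_zero]

theorem ev_univPoly (i : Fin n) : ev n d (Synt.univPoly n d i) = 0 := by
  rw [Synt.univPoly, map_sum]
  refine Finset.sum_eq_zero fun E _ => ?_
  rw [ev_monomial]
  split_ifs with h
  · have : coef n d (i, E) = 0 := if_neg fun hc => by
      have := DFunLike.congr_fun h i
      rw [hc i |> fun e => show E.exponent i = _ from (by simpa [Synt.UnivIdx.exponent] using e)] at this
      simp at this
    simp [this]
  · rfl

theorem exponent_apply (E : Synt.UnivIdx n d) (i : Fin n) : E.exponent i = (E.1 i : ℕ) := by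
  simp [Synt.UnivIdx.exponent]

theorem ev_pderiv (hd : 1 ≤ d) (i j : Fin n) :
    ev n d (pderiv j (Synt.univPoly n d i)) = if i = j then 1 else 0 := by
  classical
  rw [Synt.univPoly, map_sum, map_sum]
  let E0 : Synt.UnivIdx n d := ⟨fun l => if l = j then ⟨1, by omega⟩ else 0, by
    simp [apply_ite, Finset.sum_ite_eq', hd]⟩
  rw [Finset.sum_eq_single E0]
  · rw [pderiv_monomial, ev_monomial]
    have he : E0.exponent = Finsupp.single j 1 := by
      ext l
      rw [exponent_apply, Finsupp.single_apply]
      by_cases hl : l = j
      · subst hl; simp [E0]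
      · simp [E0, hl, Ne.symm hl]
    rw [he]
    simp only [tsub_self, Finsupp.single_eq_same, Nat.cast_one, mul_one, if_true, eval₂Hom_X', coef]
    by_cases hij : i = j
    · subst hij
      rw [if_pos, if_pos rfl]
      intro l
      by_cases hl : l = i <;> simp [E0, hl]
    · rw [if_neg, if_neg hij]
      intro hall
      have := hall i
      simp [E0, hij] at this
  · intro E _ hE
    rw [pderiv_monomial, ev_monomial]
    split_ifs with h
    · suffices hz : E.exponent j = 0 by simp [hz]
      by_contra hj
      refine hE (Subtype.ext (funext fun l => Fin.ext ?_))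
      have h2 := DFunLike.congr_fun h l
      rw [Finsupp.tsub_apply, Finsupp.single_apply, exponent_apply] at h2
      rw [exponent_apply] at hj
      by_cases hl : l = j
      · subst hl; simp [E0] at h2 ⊢; omega
      · simp [E0, hl, Ne.symm hl] at h2 ⊢; exact h2
    · rfl
  · simp

theorem main (hd : 1 ≤ d) : ∃ q : PrimeSpectrum (Synt.UnivAlg n d),
    Algebra.QuasiFiniteAt (Synt.UnivBase n d) q.asIdeal ∧ Algebra.IsEtaleAt (Synt.UnivBase n d) q.asIdeal := by
  classical
  let ε : (MvPolynomial (Fin n) (Synt.UnivBase n d) ⧸ Synt.univIdeal n d) →+* ℚ :=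
    Ideal.Quotient.lift _ (ev n d) (fun a ha => by
      have : Synt.univIdeal n d ≤ RingHom.ker (ev n d) := by
        rw [Synt.univIdeal, Ideal.span_le]
        rintro _ ⟨i, rfl⟩
        exact ev_univPoly n d i
      exact this ha)
  have hq : (RingHom.ker ε).IsPrime := RingHom.ker_isPrime ε
  let P : Algebra.PreSubmersivePresentation (Synt.UnivBase n d)
      (MvPolynomial (Fin n) (Synt.UnivBase n d) ⧸ Synt.univIdeal n d) (Fin n) (Fin n) :=
    Algebra.PreSubmersivePresentation.naive (v := Synt.univPoly n d) id Function.injective_id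
  have h : P.jacobian ∉ RingHom.ker ε := by
    rw [RingHom.mem_ker, P.jacobian_eq_jacobiMatrix_det]
    have hal : ∀ z : MvPolynomial (Fin n) (Synt.UnivBase n d),
        ε (algebraMap P.Ring _ z) = ev n d z := fun z => by
      have : algebraMap P.Ring (MvPolynomial (Fin n) (Synt.UnivBase n d) ⧸ Synt.univIdeal n d) z =
          Ideal.Quotient.mk _ z := by
        simp [P, Algebra.Generators.algebraMap_apply, Algebra.Generators.naive_val]
      rw [this]
      exact Ideal.Quotient.lift_mk _ _ _
    rw [hal, RingHom.map_det]
    have hm : (ev n d).mapMatrix P.jacobiMatrix = 1 := by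
      ext i j
      rw [RingHom.mapMatrix_apply, Matrix.map_apply]
      simp [P, ev_pderiv n d hd, Matrix.one_apply, eq_comm]
    rw [hm, Matrix.det_one]
    exact one_ne_zero
  exact ⟨⟨RingHom.ker ε, hq⟩, etaleAt_of_jacobian_notMem P (RingHom.ker ε) h⟩

end Groth.Agent.H80.UnivEtale
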