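import Mathlib.GroupTheory.FiniteAbelian.Duality
import Mathlib.RingTheory.RootsOfUnity.AlgebraicallyClosed
import Mathlib.RingTheory.RootsOfUnity.Complex
import Mathlib.Analysis.Complex.Polynomial.Basic
import Mathlib.GroupTheory.SpecificGroups.Cyclic

/-!
# `ℤ/n`-duality for finite abelian groups of exponent dividing `n`
-/

universe u

namespace Groth.Agent.H80.ZModDual

variable (A : Type u) [CommGroup A] [Finite A] (n : ℕ) [NeZero n] (hA : ∀ a : A, a ^ n = 1)

/-- `ℤ/n` as the roots of unity in `ℂ`. -/
noncomputable def rootsEquiv : rootsOfUnity n ℂ ≃* Multiplicative (ZMod n) :=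
  mulEquivOfCyclicCardEq (by
    rw [HasEnoughRootsOfUnity.natCard_rootsOfUnity]
    simp [Nat.card_eq_fintype_card])

include hA in
theorem exponent_dvd : Monoid.exponent A ∣ n := Monoid.exponent_dvd_of_forall_pow_eq_one hA

/-- Characters with values in `ℂˣ` are characters with values in `ℤ/n`. -/
noncomputable def charEquiv : (A →* ℂˣ) ≃ (A →* Multiplicative (ZMod n)) where
  toFun φ := (rootsEquiv n).toMonoidHom.comp (φ.codRestrict (rootsOfUnity n ℂ) fun a => by
    rw [mem_rootsOfUnity, ← map_pow, hA, map_one])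
  invFun ψ := (rootsOfUnity n ℂ).subtype.comp ((rootsEquiv n).symm.toMonoidHom.comp ψ)
  left_inv φ := by ext a; simp
  right_inv ψ := by ext a; simp

include hA in
theorem card_char : Nat.card (A →* Multiplicative (ZMod n)) = Nat.card A := by
  have hne : NeZero (Monoid.exponent A) := ⟨Monoid.exponent_ne_zero_of_finite⟩
  rw [← Nat.card_congr (charEquiv A n hA), CommGroup.card_monoidHom_of_hasEnoughRootsOfUnity A ℂ]

include hA in
theorem exists_char_ne_one {a : A} (ha : a ≠ 1) : ∃ χ : A →* Multiplicative (ZMod n), χ a ≠ 1 := by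
  have hne : NeZero (Monoid.exponent A) := ⟨Monoid.exponent_ne_zero_of_finite⟩
  obtain ⟨φ, hφ⟩ := CommGroup.exists_apply_ne_one_of_hasEnoughRootsOfUnity A ℂ ha
  refine ⟨charEquiv A n hA φ, fun h => hφ ?_⟩
  have := DFunLike.congr_fun ((charEquiv A n hA).symm_apply_apply φ) a
  rw [← this]
  change (((rootsEquiv n).symm (charEquiv A n hA φ a)) : ℂˣ) = 1
  rw [h, map_one, Subgroup.coe_one]

include hA in
theorem eval_bijective : Function.Bijective
    (MonoidHom.eval : A →* ((A →* Multiplicative (ZMod n)) →* Multiplicative (ZMod n))) := by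
  have hfin : Finite (A →* Multiplicative (ZMod n)) := Finite.of_injective _ DFunLike.coe_injective
  have hfin2 : Finite ((A →* Multiplicative (ZMod n)) →* Multiplicative (ZMod n)) :=
    Finite.of_injective _ DFunLike.coe_injective
  refine (Nat.bijective_iff_injective_and_card _).mpr ⟨(injective_iff_map_eq_one _).mpr fun a ha => ?_, ?_⟩
  · by_contra h
    obtain ⟨χ, hχ⟩ := exists_char_ne_one A n hA h
    exact hχ (DFunLike.congr_fun ha χ)
  · rw [card_char (A →* Multiplicative (ZMod n)) n ?_, card_char A n hA]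
    intro χ
    ext a
    rw [MonoidHom.pow_apply, ← map_pow, hA, map_one]
    rfl

end Groth.Agent.H80.ZModDual
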